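import Cfsg.Agent.Lib.TwoTransPlane.Coord

set_option autoImplicit false
set_option linter.unusedSectionVars false

/-!
The isomorphism with the projective plane over the field of slopes.
-/

namespace CfsgLib.TTP

universe u v w

variable {K : Type} [Field K]

theorem ker_finrank_two (c : Fin 3 → K) (hc : c ≠ 0) :
    ∃ W : Submodule K (Fin 3 → K), Module.finrank K W = 2 ∧
      ∀ v : Fin 3 → K, v ∈ W ↔ c 0 * v 0 + c 1 * v 1 + c 2 * v 2 = 0 := by
  classical
  let l : (Fin 3 → K) →ₗ[K] K := ∑ i, c i • LinearMap.proj i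
  have hl : ∀ v, l v = c 0 * v 0 + c 1 * v 1 + c 2 * v 2 := fun v => by
    simp [l, Fin.sum_univ_three]
  refine ⟨LinearMap.ker l, ?_, fun v => by rw [LinearMap.mem_ker, hl]⟩
  obtain ⟨i, hi⟩ := Function.ne_iff.mp hc
  have hsurj : Function.Surjective l := fun k => by
    refine ⟨Pi.single i (k / c i), ?_⟩
    rw [hl]
    fin_cases i <;> simp at hi ⊢ <;> field_simp
  have h := LinearMap.finrank_range_add_finrank_ker l
  rw [LinearMap.range_eq_top.mpr hsurj, finrank_top, Module.finrank_self, Module.finrank_fin_fun] at h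
  omega

theorem submodule_le_iff (W : Submodule K (Fin 3 → K)) (v : Fin 3 → K) (hv : v ≠ 0) :
    (Projectivization.mk K v hv).submodule ≤ W ↔ v ∈ W := by
  rw [Projectivization.submodule_mk, Submodule.span_singleton_le_iff_mem]

theorem exists_two_in (W : Submodule K (Fin 3 → K)) (hW : Module.finrank K W = 2) :
    ∃ v w, v ∈ W ∧ w ∈ W ∧ LinearIndependent K ![v, w] ∧ W = Submodule.span K {v, w} := by
  have b := Module.finBasisOfFinrankEq K W hW
  refine ⟨(b 0).1, (b 1).1, (b 0).2, (b 1).2, ?_, ?_⟩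
  · have := b.linearIndependent.map' W.subtype W.ker_subtype
    have e : ![((b 0 : W) : Fin 3 → K), ((b 1 : W) : Fin 3 → K)] = W.subtype ∘ b := by funext i; fin_cases i <;> rfl
    rw [e]; exact this
  · have h := congrArg (Submodule.map W.subtype) b.span_eq
    rw [Submodule.map_span, Submodule.map_top, Submodule.range_subtype] at h
    refine h.symm.trans ?_
    congr 1
    ext x
    simp [Set.range, eq_comm, Fin.exists_fin_two]

namespace Frame

variable {P : Type u} {L : Type v} {π : Pl P L} {G : Type w} [Group G] [Finite P] [Finite L]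
variable {A : Act π G} (F : Frame π A)

set_option maxHeartbeats 800000 in
include F in
theorem desargues : ∃ (K : Type) (_ : Field K) (_ : Fintype K) (φ : P ≃ Projectivization K (Fin 3 → K)),
    (∀ l : L, ∃ W : Submodule K (Fin 3 → K), Module.finrank K W = 2 ∧
        ∀ p : P, π.I p l ↔ (φ p).submodule ≤ W) ∧
      ∀ W : Submodule K (Fin 3 → K), Module.finrank K W = 2 →
        ∃ l : L, ∀ p : P, π.I p l ↔ (φ p).submodule ≤ W := by
  classical
  haveI := A.finite
  haveI := F.nontrivial_U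
  obtain ⟨K, instK, instF, κ, hκ, hrange⟩ := F.exists_field
  obtain ⟨u₀, hu₀⟩ := exists_ne (0 : F.U)
  -- scalars give all of `U`
  let ev : K → F.U := fun k => κ k u₀
  have hev : Function.Bijective ev := by
    have hinj : Function.Injective ev := fun a b e => by
      by_contra hne
      refine hu₀ (F.slopes_inj ((hrange _).mpr ⟨a - b, rfl⟩) (fun h => hne (sub_eq_zero.mp (hκ (h.trans (map_zero κ).symm)))) ?_)
      rw [map_sub]
      change κ a u₀ - κ b u₀ = 0
      exact sub_eq_zero.mpr e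
    refine (Nat.bijective_iff_injective_and_card ev).mpr ⟨hinj, ?_⟩
    rw [F.card_U, ← F.card_slopes]
    exact Nat.card_eq_of_bijective (fun k => (⟨κ k, (hrange _).mpr ⟨k, rfl⟩⟩ : F.slopes))
      ⟨fun a b e => hκ (congrArg Subtype.val e), fun ⟨x, hx⟩ => by
        obtain ⟨k, hk⟩ := (hrange x).mp hx; exact ⟨k, Subtype.ext hk⟩⟩
  have ev_add : ∀ a b, ev (a + b) = ev a + ev b := fun a b => by simp only [ev, map_add]; rfl
  -- slopes of ideal points
  have hslope : ∀ S : {S // π.I S F.ℓ ∧ S ≠ F.Y}, ∃ k, F.Slope S (κ k) := fun S => by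
    obtain ⟨x, hx⟩ := F.exists_slope S.2.1 S.2.2
    obtain ⟨k, rfl⟩ := (hrange x).mp ⟨S, S.2.1, S.2.2, hx⟩
    exact ⟨k, hx⟩
  choose sl hsl using hslope
  -- coordinates of affine points
  let tr : K → K → G := fun a b => F.tx (ev a) * F.ι (ev b)
  have htr : ∀ a b, tr a b ∈ A.El F.ℓ := fun a b =>
    mul_mem (F.mem_El F.hX (F.tx_mem _)) (F.mem_El F.hY (F.ι_mem _))
  have htr_add : ∀ a b a' b', tr (a + a') (b + b') = tr a b * tr a' b' := fun a b a' b' => by
    simp only [tr, ev_add, F.tx_add, F.ι_add]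
    rw [mul_assoc (F.tx (ev a)), mul_assoc (F.tx (ev a)), ← mul_assoc (F.tx (ev a')),
      F.comm (F.mem_El F.hX (F.tx_mem (ev a'))) (F.mem_El F.hY (F.ι_mem (ev b)))]
    simp only [mul_assoc]
  have hcoord : ∀ p : {p // ¬ π.I p F.ℓ}, ∃ ab : K × K, A.p (tr ab.1 ab.2) F.O = p := fun p => by
    obtain ⟨t, ht, htp⟩ := F.El_trans F.hO p.2
    obtain ⟨a, w, hw, rfl⟩ := F.exists_split ht
    obtain ⟨b, rfl⟩ := F.ι_surj hw
    obtain ⟨i, rfl⟩ := hev.2 a
    obtain ⟨j, rfl⟩ := hev.2 b
    exact ⟨(i, j), htp⟩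
  choose co hco using hcoord
  have htr_inj : ∀ a b a' b', A.p (tr a b) F.O = A.p (tr a' b') F.O → a = a' ∧ b = b' := by
    intro a b a' b' e
    have e' : A.p ((tr a' b')⁻¹ * tr a b) F.O = F.O := by rw [A.p_mul, e, A.p_inv_apply]
    have h1 := (inv_mul_eq_one.mp (A.El_fix (mul_mem (inv_mem (htr a' b')) (htr a b)) F.hO e')).symm
    obtain ⟨h2, h3⟩ := F.split_unique (F.ι_mem _) (F.ι_mem _) h1
    exact ⟨hev.1 h2, hev.1 (F.ι_inj h3)⟩
  have htr_off : ∀ a b, ¬ π.I (A.p (tr a b) F.O) F.ℓ := fun a b e => F.hO <| by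
    rwa [← (show A.l (tr a b) F.ℓ = F.ℓ from A.axial_le_stL _ (htr a b).1), A.inc] at e
  let f0 : P → Fin 3 → K := fun p =>
    if hp : π.I p F.ℓ then if hY : p = F.Y then ![0, 0, 1] else ![0, 1, sl ⟨p, hp, hY⟩]
    else ![1, (co ⟨p, hp⟩).1, (co ⟨p, hp⟩).2]
  have hne : ∀ p, f0 p ≠ 0 := fun p e => by
    simp only [f0] at e
    split_ifs at e
    · simpa using congrFun e 2
    · simpa using congrFun e 1
    · simpa using congrFun e 0
  have hfY : f0 F.Y = ![0, 0, 1] := by simp only [f0, dif_pos F.hY, dif_pos trivial]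
  have hfS : ∀ p (hp : π.I p F.ℓ) (hY : p ≠ F.Y), f0 p = ![0, 1, sl ⟨p, hp, hY⟩] := fun p hp hY => by
    simp only [f0, dif_pos hp, dif_neg hY]
  have hfA : ∀ p (hp : ¬ π.I p F.ℓ), f0 p = ![1, (co ⟨p, hp⟩).1, (co ⟨p, hp⟩).2] := fun p hp => by
    simp only [f0, dif_neg hp]
  clear_value f0
  have hkind : ∀ p, (p = F.Y ∧ f0 p = ![0, 0, 1]) ∨
      (∃ k, π.I p F.ℓ ∧ F.Slope p (κ k) ∧ f0 p = ![0, 1, k]) ∨
      (∃ a b, A.p (tr a b) F.O = p ∧ f0 p = ![1, a, b]) := fun p => by
    by_cases hp : π.I p F.ℓ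
    · by_cases hY : p = F.Y
      · exact Or.inl ⟨hY, by rw [hY, hfY]⟩
      · exact Or.inr (Or.inl ⟨_, hp, hsl ⟨p, hp, hY⟩, hfS p hp hY⟩)
    · exact Or.inr (Or.inr ⟨_, _, hco ⟨p, hp⟩, hfA p hp⟩)
  let φ0 : P → Projectivization K (Fin 3 → K) := fun p => Projectivization.mk K (f0 p) (hne p)
  have hbij : Function.Bijective φ0 := by
    constructor
    · intro p q e
      obtain ⟨c, hc⟩ := (Projectivization.mk_eq_mk_iff' K _ _ _ _).mp e
      have h0 := congrFun hc 0
      have h1 := congrFun hc 1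
      have h2 := congrFun hc 2
      rcases hkind p with ⟨rfl, ep⟩ | ⟨i, hpl, hi, ep⟩ | ⟨a, b, hab, ep⟩ <;>
        rcases hkind q with ⟨rfl, eq'⟩ | ⟨j, hql, hj, eq'⟩ | ⟨a', b', hab', eq'⟩
      · rfl
      all_goals simp [ep, eq'] at h0 h1 h2
      · exfalso; rw [h1] at h2; simp at h2
      · exfalso; rw [h0] at h2; simp at h2
      · rw [h1, one_mul] at h2
        exact F.slope_point_unique hi (h2 ▸ hj)
      · exfalso; rw [h0] at h1; simp at h1
      · rw [h0, one_mul] at h1 h2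
        rw [← hab, ← hab', h1, h2]
    · intro z
      induction z using Projectivization.ind with
      | _ v hv =>
        by_cases h0 : v 0 = 0
        · by_cases h1 : v 1 = 0
          · refine ⟨F.Y, (Projectivization.mk_eq_mk_iff' K _ _ _ _).mpr ⟨(v 2)⁻¹, ?_⟩⟩
            have h2 : v 2 ≠ 0 := fun h2 => hv (funext fun i => by fin_cases i <;> assumption)
            rw [hfY]
            funext i
            fin_cases i <;> simp [h0, h1, h2]
          · obtain ⟨S, hS, hSY, hSs⟩ := (hrange (κ (v 2 / v 1))).mpr ⟨_, rfl⟩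
            refine ⟨S, (Projectivization.mk_eq_mk_iff' K _ _ _ _).mpr ⟨(v 1)⁻¹, ?_⟩⟩
            rw [hfS S hS hSY, hκ (F.slope_unique hS hSY (hsl ⟨S, hS, hSY⟩) hSs)]
            funext i
            fin_cases i <;> simp [h0, h1] <;> field_simp
        · refine ⟨A.p (tr (v 1 / v 0) (v 2 / v 0)) F.O, (Projectivization.mk_eq_mk_iff' K _ _ _ _).mpr ⟨(v 0)⁻¹, ?_⟩⟩
          rw [hfA _ (htr_off (v 1 / v 0) (v 2 / v 0))]
          obtain ⟨e1, e2⟩ := htr_inj _ _ _ _ (hco ⟨_, htr_off (v 1 / v 0) (v 2 / v 0)⟩)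
          rw [e1, e2]
          funext i
          fin_cases i <;> simp [h0] <;> field_simp
  let φ := Equiv.ofBijective φ0 hbij
  have hiff : ∀ (W : Submodule K (Fin 3 → K)) p, (φ p).submodule ≤ W ↔ f0 p ∈ W :=
    fun W p => submodule_le_iff W _ (hne p)
  -- lines go to planes
  have hlines : ∀ l : L, ∃ W : Submodule K (Fin 3 → K), Module.finrank K W = 2 ∧
      ∀ p : P, π.I p l ↔ (φ p).submodule ≤ W := by
    intro l
    suffices h : ∃ c : Fin 3 → K, c ≠ 0 ∧ ∀ p, π.I p l ↔ c 0 * f0 p 0 + c 1 * f0 p 1 + c 2 * f0 p 2 = 0 by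
      obtain ⟨c, hc, hp⟩ := h
      obtain ⟨W, hW, hWm⟩ := ker_finrank_two c hc
      exact ⟨W, hW, fun p => by rw [hiff, hWm, hp]⟩
    by_cases hl : l = F.ℓ
    · subst hl
      refine ⟨![1, 0, 0], fun e => one_ne_zero (congrFun e 0), fun p => ?_⟩
      by_cases hp : π.I p F.ℓ
      · by_cases hpY : p = F.Y
        · simp [hp, hpY, hfY, F.hY]
        · simp [hp, hfS p hp hpY]
      · simp [hp, hfA p hp]
    set S := π.meet l F.ℓ
    have hSl : π.I S l := π.meet_left _ _
    have hSℓ : π.I S F.ℓ := π.meet_right _ _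
    obtain ⟨p₀, hp₀, hp₀S⟩ := π.exists_other l S
    have hp₀ℓ : ¬ π.I p₀ F.ℓ := fun e => hp₀S (π.meet_eq hl hp₀ e).symm
    set a := (co ⟨p₀, hp₀ℓ⟩).1
    set b := (co ⟨p₀, hp₀ℓ⟩).2
    have hideal : ∀ p, π.I p F.ℓ → (π.I p l ↔ p = S) := fun p hp =>
      ⟨fun h => (π.meet_eq hl h hp).symm, fun e => e ▸ hSl⟩
    have haff : ∀ p (hp : ¬ π.I p F.ℓ), π.I p l ↔
        tr ((co ⟨p, hp⟩).1 - a) ((co ⟨p, hp⟩).2 - b) ∈ A.PC S F.ℓ := by
      intro p hp
      set s := tr ((co ⟨p, hp⟩).1 - a) ((co ⟨p, hp⟩).2 - b)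
      have hs : A.p s p₀ = p := by
        have e1 : A.p (tr a b) F.O = p₀ := hco ⟨p₀, hp₀ℓ⟩
        refine (congrArg (A.p s) e1.symm).trans ?_
        rw [← A.p_mul, ← htr_add, sub_add_cancel, sub_add_cancel]
        exact hco ⟨p, hp⟩
      constructor
      · intro hpl
        obtain ⟨c, hc, hcs⟩ := A.El_centre (htr ((co ⟨p, hp⟩).1 - a) ((co ⟨p, hp⟩).2 - b))
        by_cases hs1 : s = 1
        · rw [hs1]; exact one_mem _
        have hcp : c ≠ p₀ := fun e => hp₀ℓ (e ▸ hc)
        have hpp : p ≠ p₀ := fun e => hs1 (A.El_fix (htr _ _) hp₀ℓ (hs.trans e))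
        have h1 : π.I p (π.join c p₀) := by
          have := (A.inc s p₀ _).mpr (π.join_right c p₀)
          rwa [A.mem_central.mp hcs.2 _ (π.join_left c p₀), hs] at this
        have h2 : π.join c p₀ = l := π.eq_of_two_points hpp h1 (π.join_right _ _) hpl hp₀
        have h3 : c = S := (π.meet_eq hl (h2 ▸ π.join_left c p₀) hc).symm
        exact h3 ▸ hcs
      · intro hmem
        have := (A.inc s p₀ l).mpr hp₀
        rwa [A.mem_central.mp hmem.2 l hSl, hs] at this
    by_cases hSY : S = F.Y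
    · refine ⟨![-a, 1, 0], fun e => one_ne_zero (congrFun e 1), fun p => ?_⟩
      by_cases hp : π.I p F.ℓ
      · rw [hideal p hp]
        by_cases hpY : p = F.Y
        · simp [hpY, hfY, hSY]
        · simp [hpY, hfS p hp hpY, hSY]
      · rw [haff p hp, hSY, hfA p hp]
        constructor
        · intro h
          obtain ⟨h1, -⟩ := F.split_unique (a := ev ((co ⟨p, hp⟩).1 - a)) (b := 0) (F.ι_mem (ev ((co ⟨p, hp⟩).2 - b)))
            h (by rw [F.tx_zero, one_mul])
          have h2 : (co ⟨p, hp⟩).1 - a = 0 := hev.1 (h1.trans (by simp [ev]))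
          simp; linear_combination h2
        · intro h
          simp at h
          rw [show (co ⟨p, hp⟩).1 - a = 0 by linear_combination h]
          simp only [tr, show ev 0 = 0 by simp [ev], F.tx_zero, one_mul]
          exact F.ι_mem _
    · set f := sl ⟨S, hSℓ, hSY⟩
      refine ⟨![-(b - f * a), -f, 1], fun e => one_ne_zero (congrFun e 2), fun p => ?_⟩
      by_cases hp : π.I p F.ℓ
      · rw [hideal p hp]
        by_cases hpY : p = F.Y
        · simp [hpY, hfY, Ne.symm hSY]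
        · simp [hfS p hp hpY]
          constructor
          · intro e; subst e; ring
          · intro e
            have e' : sl ⟨p, hp, hpY⟩ = f := by linear_combination e
            exact F.slope_point_unique (hsl ⟨p, hp, hpY⟩) (e' ▸ hsl ⟨S, hSℓ, hSY⟩)
      · rw [haff p hp, hfA p hp]
        set a' := (co ⟨p, hp⟩).1
        set b' := (co ⟨p, hp⟩).2
        have hmul : (κ f) (ev (a' - a)) = ev (f * (a' - a)) := by simp only [ev, map_mul]; rfl
        constructor
        · intro h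
          have h1 := (F.exists_graph hSℓ hSY (ev (a' - a))).unique (y₁ := ⟨_, F.ι_mem (ev (b' - b))⟩)
            (y₂ := ⟨_, F.ι_mem _⟩) h (hsl ⟨S, hSℓ, hSY⟩ (ev (a' - a)))
          have h2 : ev (b' - b) = (κ f) (ev (a' - a)) := F.ι_inj (congrArg Subtype.val h1)
          have h3 : b' - b = f * (a' - a) := hev.1 (h2.trans hmul)
          simp; linear_combination h3
        · intro h
          simp at h
          have h3 : b' - b = f * (a' - a) := by linear_combination h
          simp only [tr]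
          rw [h3, ← hmul]
          exact hsl ⟨S, hSℓ, hSY⟩ _
  refine ⟨K, instK, instF, φ, hlines, fun W hW => ?_⟩
  obtain ⟨v, w, hv, hw, hind, hspan⟩ := exists_two_in W hW
  have hv0 : v ≠ 0 := by simpa using hind.ne_zero 0
  have hw0 : w ≠ 0 := by simpa using hind.ne_zero 1
  obtain ⟨p, hp⟩ := φ.surjective (Projectivization.mk K v hv0)
  obtain ⟨q, hq⟩ := φ.surjective (Projectivization.mk K w hw0)
  refine ⟨π.join p q, ?_⟩
  obtain ⟨W', hW', hmem⟩ := hlines (π.join p q)
  have hle : W ≤ W' := by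
    rw [hspan, Submodule.span_le]
    rintro x (rfl | rfl)
    · exact (submodule_le_iff W' x hv0).mp (hp ▸ (hmem p).mp (π.join_left p q))
    · exact (submodule_le_iff W' x hw0).mp (hq ▸ (hmem q).mp (π.join_right p q))
  rw [Submodule.eq_of_le_of_finrank_eq hle (hW.trans hW'.symm)]
  exact hmem

end Frame

end CfsgLib.TTP
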