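import Cfsg.Agent.Lib.TwoTransPlane.PrimeOrder

set_option autoImplicit false
set_option linter.unusedSectionVars false

/-!
A doubly transitive collineation group contains a perspectivity (induction on the order, through the
subplane fixed by a Sylow subgroup of an antiflag stabiliser).
-/

namespace CfsgLib.TTP

universe u v w

namespace Act

variable {P : Type u} {L : Type v} {π : Pl P L} {G : Type w} [Group G] [Finite P] [Finite L]
variable (A : Act π G)

theorem card_orbit_mul [Finite G] (H : Subgroup G) (x : P) :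
    Nat.card {y // ∃ h ∈ H, A.p h x = y} * Nat.card (H ⊓ A.stP x : Subgroup G) = Nat.card H := by
  classical
  haveI := Fintype.ofFinite H
  haveI := Fintype.ofFinite P
  letI := A.actP H
  have h := MulAction.card_orbit_mul_card_stabilizer_eq_card_group H x
  rw [← Nat.card_eq_fintype_card, ← Nat.card_eq_fintype_card, ← Nat.card_eq_fintype_card] at h
  rw [← h]
  congr 1
  · exact Nat.card_congr (Equiv.subtypeEquivRight fun y =>
      ⟨fun ⟨g, hg, e⟩ => ⟨⟨g, hg⟩, e⟩, fun ⟨g, e⟩ => ⟨g.1, g.2, e⟩⟩)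
  · exact Nat.card_congr
      { toFun := fun k => ⟨⟨k.1, k.2.1⟩, k.2.2⟩
        invFun := fun k => ⟨k.1.1, k.1.2, k.2⟩
        left_inv := fun k => rfl
        right_inv := fun k => rfl }

/-- A collineation fixing everything off a line is trivial. -/
theorem eq_one_of_off {g : G} {a : L} (h : ∀ x, ¬ π.I x a → A.p g x = x) : g = 1 := by
  refine A.faith' g (Equiv.ext fun b => ?_)
  have key : ∀ b, b ≠ a → A.l g b = b := by
    intro b hb
    obtain ⟨x, hx, hxm⟩ := π.exists_other b (π.meet b a)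
    obtain ⟨y, hy, hym, hyx⟩ := π.exists_third b (π.meet b a) x
    have := A.fix_join hyx (h y fun e => hym (π.meet_eq hb hy e).symm) (h x fun e => hxm (π.meet_eq hb hx e).symm)
    rwa [π.join_eq hyx hy hx] at this
  rcases eq_or_ne b a with rfl | hb
  · -- the remaining line is fixed as well
    obtain ⟨x, hx, -⟩ := π.exists_other b (π.meet b b)
    obtain ⟨y, hy, hyx⟩ := π.exists_other b x
    have hfix : ∀ z, π.I z b → A.p g z = z := fun z hz => by
      obtain ⟨c, hc, hcb⟩ := π.exists_other_line z b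
      obtain ⟨d, hd, hdb, hdc⟩ := π.exists_third_line z b c
      have := A.fix_meet hdc (key d hdb) (key c hcb)
      rwa [π.meet_eq hdc hd hc] at this
    have := A.fix_join hyx (hfix y hy) (hfix x hx)
    rwa [π.join_eq hyx hy hx] at this
  · exact key b hb

theorem flag_count [Finite G] (h2 : A.Two) {X : P} {ℓ : L} (hX : π.I X ℓ) {x : P} (hx : ¬ π.I x ℓ) :
    (π.n + 1) * Nat.card (A.stP X ⊓ A.stL ℓ : Subgroup G) =
      π.n ^ 2 * Nat.card (A.stP x ⊓ A.stL ℓ : Subgroup G) := by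
  have h1 := A.card_orbit_mul (A.stL ℓ) X
  have h3 := A.card_orbit_mul (A.stL ℓ) x
  have e1 : Nat.card {y // ∃ g ∈ A.stL ℓ, A.p g X = y} = π.n + 1 := by
    rw [← π.card_line ℓ]
    refine Nat.card_congr (Equiv.subtypeEquivRight fun y => ⟨?_, fun hy => ?_⟩)
    · rintro ⟨g, hg, rfl⟩; rw [← (show A.l g ℓ = ℓ from hg), A.inc]; exact hX
    · obtain ⟨g, h1, h2⟩ := h2.flag hX hy; exact ⟨g, h2, h1⟩
  have e2 : Nat.card {y // ∃ g ∈ A.stL ℓ, A.p g x = y} = π.n ^ 2 := by
    rw [← π.card_off ℓ]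
    refine Nat.card_congr (Equiv.subtypeEquivRight fun y => ⟨?_, fun hy => ?_⟩)
    · rintro ⟨g, hg, rfl⟩; rw [← (show A.l g ℓ = ℓ from hg), A.inc]; exact hx
    · obtain ⟨g, h1, h2⟩ := h2.antiTrans x ℓ y ℓ hx hy; exact ⟨g, h2, h1⟩
  rw [e1, inf_comm] at h1
  rw [e2, inf_comm] at h3
  exact h1.trans h3.symm

/-- A Sylow subgroup of a flag stabiliser is transitive on the points off the line. -/
theorem flag_sylow [Finite G] (h2 : A.Two) {q N : ℕ} [Fact q.Prime] (hn : π.n = q ^ N) {X : P} {ℓ : L}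
    (hX : π.I X ℓ) {S : Subgroup G} (hS : SylowIn q S (A.stP X ⊓ A.stL ℓ)) {x : P} (hx : ¬ π.I x ℓ) :
    (∀ y, ¬ π.I y ℓ → ∃ g ∈ S, A.p g x = y) ∧ SylowIn q (S ⊓ A.stP x) (A.stP x ⊓ A.stL ℓ) := by
  classical
  have hq : q.Prime := Fact.out
  obtain ⟨hSp, hSle, hSi⟩ := hS
  obtain ⟨k, hk⟩ := IsPGroup.iff_card.mp hSp
  set T := S ⊓ A.stP x
  have hTle : T ≤ A.stP x ⊓ A.stL ℓ := le_inf inf_le_right (inf_le_left.trans (hSle.trans inf_le_right))
  have e1 : Nat.card T * T.relIndex (A.stP x ⊓ A.stL ℓ) = Nat.card (A.stP x ⊓ A.stL ℓ : Subgroup G) := by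
    rw [Subgroup.relIndex, ← Nat.card_congr (Subgroup.subgroupOfEquivOfLe hTle).toEquiv]
    exact Subgroup.card_mul_index _
  have e2 : Nat.card S * S.relIndex (A.stP X ⊓ A.stL ℓ) = Nat.card (A.stP X ⊓ A.stL ℓ : Subgroup G) := by
    rw [Subgroup.relIndex, ← Nat.card_congr (Subgroup.subgroupOfEquivOfLe hSle).toEquiv]
    exact Subgroup.card_mul_index _
  set o := Nat.card {y // ∃ g ∈ S, A.p g x = y}
  have e3 : o * Nat.card T = Nat.card S := A.card_orbit_mul S x
  have hmem : ∀ y, (∃ g ∈ S, A.p g x = y) → ¬ π.I y ℓ := by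
    rintro y ⟨g, hg, rfl⟩ e
    rw [← (show A.l g ℓ = ℓ from (hSle hg).2), A.inc] at e
    exact hx e
  have ho : o ≤ π.n ^ 2 := by
    rw [← π.card_off ℓ]
    exact Nat.card_le_card_of_injective (fun y => ⟨y.1, hmem y.1 y.2⟩) fun y y' e =>
      Subtype.ext (congrArg (fun z : {y // ¬ π.I y ℓ} => z.1) e)
  have e4 := A.flag_count h2 hX hx
  rw [← e1, ← e2, ← e3] at e4
  -- cancel the Sylow order
  have e5 : (π.n + 1) * S.relIndex (A.stP X ⊓ A.stL ℓ) * o = π.n ^ 2 * T.relIndex (A.stP x ⊓ A.stL ℓ) := by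
    apply Nat.eq_of_mul_eq_mul_right (Nat.card_pos (α := T))
    linarith
  have hcop : Nat.Coprime ((π.n + 1) * S.relIndex (A.stP X ⊓ A.stL ℓ)) (π.n ^ 2) := by
    refine Nat.Coprime.pow_right 2 (Nat.Coprime.mul_left ?_ ?_)
    · rw [Nat.coprime_comm, Nat.coprime_self_add_right]; exact Nat.coprime_one_right _
    · rw [hn]; exact Nat.Coprime.pow_right N ((hq.coprime_iff_not_dvd.mpr hSi).symm)
  have hdvd : π.n ^ 2 ∣ o := hcop.symm.dvd_of_dvd_mul_left ⟨_, e5⟩
  have hopos : 0 < o := Nat.pos_of_ne_zero fun e => by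
    rw [e, zero_mul] at e3; exact Nat.card_pos.ne' e3.symm
  have heq : o = π.n ^ 2 := le_antisymm ho (Nat.le_of_dvd hopos hdvd)
  refine ⟨fun y hy => ?_, hSp.to_le inf_le_left, hTle, fun hd => ?_⟩
  · have hbij := (Nat.bijective_iff_injective_and_card
      (fun y : {y // ∃ g ∈ S, A.p g x = y} => (⟨y.1, hmem y.1 y.2⟩ : {y // ¬ π.I y ℓ}))).mpr
      ⟨fun y y' e => Subtype.ext (congrArg (fun z : {y // ¬ π.I y ℓ} => z.1) e), by rw [π.card_off]; exact heq⟩
    obtain ⟨⟨z, hz⟩, e⟩ := hbij.2 ⟨y, hy⟩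
    obtain rfl : z = y := congrArg Subtype.val e
    exact hz
  · rw [heq] at e5
    have hpos : 0 < π.n ^ 2 := by rw [← heq]; exact hopos
    have e6 : (π.n + 1) * S.relIndex (A.stP X ⊓ A.stL ℓ) = T.relIndex (A.stP x ⊓ A.stL ℓ) :=
      Nat.eq_of_mul_eq_mul_right hpos (e5.trans (mul_comm _ _))
    rw [← e6] at hd
    rcases hq.dvd_mul.mp hd with h | h
    · have hN : N ≠ 0 := fun e => by rw [e, pow_zero] at hn; exact (π.one_lt_n).ne' hn
      have : q ∣ π.n := hn ▸ dvd_pow_self q hN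
      exact hq.not_dvd_one ((Nat.dvd_add_iff_right this).mpr h)
    · exact hSi h

theorem exists_persp_aux : ∀ (k : ℕ) (P : Type u) (L : Type v) (π : Pl P L) [Finite P] [Finite L]
    (G : Type w) [Group G] (A : Act π G), π.n = k → A.Two → ∃ g, g ≠ 1 ∧ ∃ c a, g ∈ A.PC c a := by
  intro k
  induction k using Nat.strong_induction_on with
  | _ k ih =>
    intro P L π _ _ G _ A hk h2
    haveI := A.finite
    by_contra hno
    have hcentral : ∀ g c, g ∈ A.central c → g = 1 := fun g c hg => by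
      by_contra hg1
      obtain ⟨a, ha⟩ := A.exists_axis hg
      exact hno ⟨g, hg1, c, a, ha, hg⟩
    have hnlt := π.one_lt_n
    obtain ⟨q, N, hq', hN, hn'⟩ := h2.prime_pow
    have hq : q.Prime := hq'.nat_prime
    haveI : Fact q.Prime := ⟨hq⟩
    have hn : π.n = q ^ N := hn'.symm
    obtain ⟨ℓ, -⟩ := π.exists_line_off π.config.choose
    obtain ⟨X, hX, -⟩ := π.exists_other ℓ (π.meet ℓ ℓ)
    obtain ⟨a₀, ha₀⟩ := π.exists_off ℓ
    obtain ⟨S, -, hS⟩ := SylowIn.exists_ge (q := q) (H := A.stP X ⊓ A.stL ℓ) IsPGroup.of_bot bot_le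
    obtain ⟨htr, hT⟩ := A.flag_sylow h2 hn hX hS ha₀
    have htrL : ∀ b c, ¬ π.I X b → ¬ π.I X c → ∃ g ∈ S, A.l g b = c := fun b c hb hc =>
      (A.dual.flag_sylow (S := S) h2.dual (by rw [π.dual_n]; exact hn) (X := ℓ) (ℓ := X) hX
        (by rw [inf_comm]; exact hS) (x := b) hb).1 c hc
    set T := S ⊓ A.stP a₀
    have hSX : ∀ g ∈ S, A.p g X = X := fun g hg => (hS.2.1 hg).1
    have hSl : ∀ g ∈ S, A.l g ℓ = ℓ := fun g hg => (hS.2.1 hg).2
    have hcardS : Nat.card S = π.n ^ 2 * Nat.card T := by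
      rw [← A.card_orbit_mul S a₀, ← π.card_off ℓ]
      congr 1
      refine Nat.card_congr (Equiv.subtypeEquivRight fun y => ⟨?_, fun hy => htr y hy⟩)
      rintro ⟨g, hg, rfl⟩ e
      rw [← hSl g hg, A.inc] at e
      exact ha₀ e
    -- antiflag stabilisers are conjugate
    have hcardH : ∀ y b, ¬ π.I y b →
        Nat.card (A.stP y ⊓ A.stL b : Subgroup G) = Nat.card (A.stP a₀ ⊓ A.stL ℓ : Subgroup G) := by
      intro y b hyb
      obtain ⟨g, hg1, hg2⟩ := h2.antiTrans a₀ ℓ y b ha₀ hyb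
      refine (card_conj g _ _ fun x => ?_).symm
      rw [Subgroup.mem_inf, Subgroup.mem_inf, ← hg1, ← hg2, A.conj_stP]
      exact and_congr_right fun _ => A.dual.conj_stP
    have hTne : T ≠ ⊥ := by
      intro hT0
      have hndvd : ¬ q ∣ Nat.card (A.stP a₀ ⊓ A.stL ℓ : Subgroup G) := by
        have := hT.2.2
        rwa [hT0, Subgroup.relIndex_bot_left] at this
      rw [hT0, Subgroup.card_bot, mul_one] at hcardS
      obtain ⟨Y, hY, hYX⟩ := π.exists_other ℓ X
      obtain ⟨g, hg, hg1⟩ : ∃ g ∈ S ⊓ A.stP Y, g ≠ 1 := by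
        by_contra! hc
        have h1 := A.card_orbit_mul S Y
        rw [(Subgroup.eq_bot_iff_forall _).mpr hc, Subgroup.card_bot, mul_one, hcardS] at h1
        have h3 : Nat.card {y // ∃ g ∈ S, A.p g Y = y} ≤ π.n := by
          conv_rhs => rw [← π.card_line_erase hX]
          refine Nat.card_le_card_of_injective (fun y => (⟨y.1, ?_⟩ : {z // π.I z ℓ ∧ z ≠ X}))
            fun y y' e => Subtype.ext (congrArg (fun z : {z // π.I z ℓ ∧ z ≠ X} => z.1) e)
          obtain ⟨g, hg, e⟩ := y.2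
          refine ⟨by rw [← e, ← hSl g hg, A.inc]; exact hY, fun e' => hYX ((A.p g).injective ?_)⟩
          rw [e, e', hSX g hg]
        nlinarith
      have hline : ∀ b, A.l g b = b → b = ℓ := by
        intro b hb
        by_contra hne
        have key : ∀ y, A.p g y = y → π.I y b := by
          intro y hy
          by_contra hyb
          have hmem : g ∈ A.stP y ⊓ A.stL b := ⟨hy, hb⟩
          obtain ⟨j, hj⟩ := IsPGroup.iff_orderOf.mp hS.1 ⟨g, hg.1⟩
          have hj' : orderOf g = q ^ j := by rw [← hj, Subgroup.orderOf_mk]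
          have hdvd := Subgroup.orderOf_dvd_natCard _ hmem
          rw [hcardH y b hyb, hj'] at hdvd
          rcases j.eq_zero_or_pos with rfl | hjp
          · exact hg1 (orderOf_eq_one_iff.mp (hj'.trans (pow_zero q)))
          · exact hndvd ((dvd_pow_self q hjp.ne').trans hdvd)
        exact hYX (π.eq_of_two_lines hne (key Y hg.2) (key X (hSX g hg.1)) hY hX)
      have h1 := A.brauer g
      have h3 : Nat.card {b // A.l g b = b} = 1 :=
        Nat.card_eq_one_iff_exists.mpr ⟨⟨ℓ, hSl g hg.1⟩, fun b => Subtype.ext (hline b b.2)⟩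
      rw [h3] at h1
      obtain ⟨z, hz⟩ := Nat.card_eq_one_iff_exists.mp h1
      exact hYX (congrArg Subtype.val ((hz ⟨Y, hg.2⟩).trans (hz ⟨X, hSX g hg.1⟩).symm))
    -- a central element
    haveI : Nontrivial S := by
      rw [← Finite.one_lt_card_iff_nontrivial, hcardS]
      have h1 : 0 < Nat.card T := Nat.card_pos
      nlinarith
    haveI := hS.1.center_nontrivial
    obtain ⟨ζ', hζ'⟩ := exists_ne (1 : Subgroup.center S)
    set ζ : G := (ζ'.1 : G)
    have hζS : ζ ∈ S := ζ'.1.2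
    have hζ1 : ζ ≠ 1 := fun e => hζ' (Subtype.ext (Subtype.ext e))
    have hcom : ∀ g ∈ S, g * ζ = ζ * g := fun g hg =>
      congrArg Subtype.val (Subgroup.mem_center_iff.mp ζ'.2 ⟨g, hg⟩)
    have hmove : A.p ζ a₀ ≠ a₀ := fun e => hζ1 (A.eq_one_of_off (a := ℓ) fun y hy => by
      obtain ⟨g, hg, rfl⟩ := htr y hy
      rw [← A.p_mul, ← hcom g hg, A.p_mul, e])
    have hX0 : X ≠ a₀ := fun e => ha₀ (e ▸ hX)
    set m := π.join a₀ (A.p ζ a₀)
    have hXm : ¬ π.I X m := by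
      intro hXm
      -- then every line through `X` would be fixed
      refine hζ1 (hcentral ζ X (A.mem_central.mpr fun b hb => ?_))
      by_cases hbl : b = ℓ
      · rw [hbl]; exact hSl ζ hζS
      have hmζ : A.l ζ m = m := by
        have e1 : π.join X a₀ = m := π.join_eq hX0 hXm (π.join_left _ _)
        have hne : X ≠ A.p ζ a₀ := fun e => hX0 ((A.p ζ).injective ((hSX ζ hζS).trans e))
        rw [← e1, A.map_join ζ hX0, hSX ζ hζS, e1]
        exact π.join_eq hne hXm (π.join_right _ _)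
      obtain ⟨z, hz, hzX⟩ := π.exists_other b X
      have hzl : ¬ π.I z ℓ := fun e => hzX (π.eq_of_two_lines hbl hz hb e hX)
      obtain ⟨g, hg, rfl⟩ := htr z hzl
      have hgm : A.l g m = b := by
        refine π.eq_of_two_points hzX ((A.inc g a₀ m).mpr (π.join_left _ _)) ?_ hz hb
        rw [← hSX g hg]; exact (A.inc g X m).mpr hXm
      rw [← hgm, ← A.l_mul, ← hcom g hg, A.l_mul, hmζ]
    set Y := π.meet m ℓ
    have hml : m ≠ ℓ := fun e => hXm (e ▸ hX)
    have hYm : π.I Y m := π.meet_left m ℓ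
    have hYl : π.I Y ℓ := π.meet_right m ℓ
    have hYX : Y ≠ X := fun e => hXm (e ▸ hYm)
    have hζYl : π.I (A.p ζ Y) ℓ := by rw [← hSl ζ hζS, A.inc]; exact hYl
    have hζY : A.p ζ Y ≠ Y := by
      intro e
      have hne : A.p ζ a₀ ≠ A.p ζ Y := fun e' => ha₀ ((A.p ζ).injective e' ▸ hYl)
      have hmζ : A.l ζ m = m :=
        π.eq_of_two_points hne ((A.inc ζ a₀ m).mpr (π.join_left _ _)) ((A.inc ζ Y m).mpr hYm)
          (π.join_right _ _) (e.symm ▸ hYm)
      refine hζ1 (A.dual.eq_one_of_off (a := X) fun b hb => ?_)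
      obtain ⟨g, hg, rfl⟩ := htrL m b hXm hb
      change A.l ζ (A.l g m) = A.l g m
      rw [← A.l_mul, ← hcom g hg, A.l_mul, hmζ]
    -- the subplane fixed by the Sylow subgroup of the antiflag stabiliser
    have f1 : a₀ ∈ A.Fx T := fun g hg => hg.2
    have f2 : A.p ζ a₀ ∈ A.Fx T := fun g hg => by rw [← A.p_mul, hcom g hg.1, A.p_mul, f1 g hg]
    have f3 : X ∈ A.Fx T := fun g hg => hSX g hg.1
    have fl : ℓ ∈ A.Fl T := fun g hg => hSl g hg.1
    have f4 : Y ∈ A.Fx T := A.meet_mem_Fx hml (A.join_mem_Fl hmove.symm f1 f2) fl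
    have f5 : A.p ζ Y ∈ A.Fx T := fun g hg => by rw [← A.p_mul, hcom g hg.1, A.p_mul, f4 g hg]
    have hζa : ¬ π.I (A.p ζ a₀) ℓ := fun e => ha₀ (by rwa [← hSl ζ hζS, A.inc] at e)
    have hXζY : X ≠ A.p ζ Y := fun e => hYX ((A.p ζ).injective ((hSX ζ hζS).trans e).symm)
    have hζYm : ¬ π.I (A.p ζ Y) m := fun e => hζY (π.meet_eq hml e hζYl).symm
    have hq0 : π.Quad (A.Fx T) := ⟨a₀, A.p ζ a₀, X, A.p ζ Y, f1, f2, f3, f5,
      Pl.NC.of_not hmove.symm (π.join_left _ _) (π.join_right _ _) hXm,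
      Pl.NC.of_not hmove.symm (π.join_left _ _) (π.join_right _ _) hζYm,
      (Pl.NC.of_not hXζY hX hζYl ha₀).rot.rot, (Pl.NC.of_not hXζY hX hζYl hζa).rot.rot⟩
    have hlt := A.sub_n_lt hq0 hTne
    set π₁ := A.sub T hq0
    set B := A.ind T hq0
    obtain ⟨i, hi⟩ : ∃ i, π₁.n = q ^ i := by
      set N₁ := S ⊓ Subgroup.normalizer (T : Set G)
      have hset : ∀ y, (∃ g ∈ N₁, A.p g a₀ = y) ↔ (y ∈ A.Fx T ∧ ¬ π.I y ℓ) := by
        intro y
        constructor
        · rintro ⟨g, hg, rfl⟩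
          exact ⟨(A.map_mem_Fx hg.2).mpr f1, fun e => ha₀ (by rwa [← hSl g hg.1, A.inc] at e)⟩
        · rintro ⟨hy, hyl⟩
          obtain ⟨g, hg, rfl⟩ := htr y hyl
          refine ⟨g, ⟨hg, ?_⟩, rfl⟩
          rw [← inv_inv g]
          refine (Subgroup.normalizer (T : Set G)).inv_mem (mem_normalizer_of_conj fun x hx => ?_)
          rw [inv_inv]
          refine ⟨S.mul_mem (S.mul_mem (S.inv_mem hg) hx.1) hg, ?_⟩
          change A.p (g⁻¹ * x * g) a₀ = a₀
          rw [A.p_mul, A.p_mul, hy x hx, A.p_inv_apply]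
      have h1 := A.orbit_dvd N₁ a₀
      have e1 : Nat.card {y // ∃ g ∈ N₁, A.p g a₀ = y} = π₁.n ^ 2 := by
        rw [← π₁.card_off ⟨ℓ, fl⟩]
        exact Nat.card_congr ((Equiv.subtypeEquivRight hset).trans
          (Equiv.subtypeSubtypeEquivSubtypeInter (fun y => y ∈ A.Fx T) (fun y => ¬ π.I y ℓ)).symm)
      obtain ⟨j, hj⟩ := IsPGroup.iff_card.mp hS.1
      have h3 : π₁.n ∣ q ^ j := by
        rw [← hj]
        exact ((dvd_pow_self _ (by norm_num : (2 : ℕ) ≠ 0)).trans (e1 ▸ h1)).trans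
          (Subgroup.card_dvd_of_le inf_le_left)
      obtain ⟨i, -, hi⟩ := (Nat.dvd_prime_pow hq).mp h3
      exact ⟨i, hi⟩
    have hanti : B.AntiTrans := by
      intro y b y' b' hyb hyb'
      obtain ⟨g, hg1, hg2⟩ := h2.antiTrans y.1 b.1 y'.1 b'.1 hyb hyb'
      set H' := A.stP y'.1 ⊓ A.stL b'.1
      have hTH' : T ≤ H' := le_inf (fun g hg => y'.2 g hg) fun g hg => b'.2 g hg
      have hS' : SylowIn q T H' := hT.of_card hT.1 hTH' rfl (hcardH _ _ hyb')
      obtain ⟨k, hk, hkg⟩ := hS'.exists_normalizing (g := g) fun x hx =>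
        ⟨hg1 ▸ A.conj_stP.mpr (y.2 x hx), hg2 ▸ (A.dual.conj_stP (g := g)).mpr (b.2 x hx)⟩
      refine ⟨QuotientGroup.mk ⟨k * g, hkg⟩, Subtype.ext ?_, Subtype.ext ?_⟩
      · change A.p (k * g) y.1 = y'.1
        rw [A.p_mul, hg1]; exact hk.1
      · change A.l (k * g) b.1 = b'.1
        rw [A.l_mul, hg2]; exact hk.2
    obtain ⟨u, hu1, c, a, hu⟩ := ih π₁.n (hk ▸ hlt) _ _ π₁ _ B rfl hanti.two
    have hfull := hanti.two.full ⟨u, hu1, c, a, hu⟩
    let X₁ : A.Fx T := ⟨X, f3⟩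
    let a₁ : A.Fl T := ⟨_, A.join_mem_Fl hX0 f3 f1⟩
    have hc := (hfull a₁).2 X₁ (π.join_left X a₀)
    obtain ⟨v, hv, hv1⟩ : ∃ v ∈ B.PC X₁ a₁, v ≠ 1 := by
      by_contra! hcon
      rw [(Subgroup.eq_bot_iff_forall _).mpr hcon, Subgroup.card_bot] at hc
      exact absurd hc.symm (π₁.one_lt_n).ne'
    haveI : Finite (↥(Subgroup.normalizer (T : Set G)) ⧸ (A.resP T).ker) := inferInstance
    have hord : orderOf v ∣ q ^ i := hi ▸ hc ▸ Subgroup.orderOf_dvd_natCard _ hv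
    have hva : B.p v ⟨a₀, f1⟩ = ⟨a₀, f1⟩ := B.mem_axial.mp hv.1 _ (π.join_right X a₀)
    have hvl : B.l v ⟨ℓ, fl⟩ = ⟨ℓ, fl⟩ := B.mem_central.mp hv.2 _ hX
    induction v using QuotientGroup.induction_on with
    | _ y =>
      obtain ⟨b, hb, j, hj⟩ := exists_p_part (y : G) hq
      have hxa : A.p (y : G) a₀ = a₀ := congrArg Subtype.val hva
      have hxl : A.l (y : G) ℓ = ℓ := congrArg Subtype.val hvl
      have hbN : (y : G) ^ b ∈ Subgroup.normalizer (T : Set G) := pow_mem y.2 b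
      have hmem : (y : G) ^ b ∈ A.stP a₀ ⊓ A.stL ℓ :=
        pow_mem (show (y : G) ∈ A.stP a₀ ⊓ A.stL ℓ from ⟨hxa, hxl⟩) b
      have e := hT.eq_of_le (isPGroup_sup_zpowers hq hT.1 hj hbN) le_sup_left
        (sup_le hT.2.1 (Subgroup.zpowers_le.mpr hmem))
      have hin : (y : G) ^ b ∈ T := by
        have h := Subgroup.mem_sup_right (S := T) (Subgroup.mem_zpowers ((y : G) ^ b))
        rwa [e] at h
      have hone : ((y : _ ⧸ (A.resP T).ker)) ^ b = 1 := by
        rw [← QuotientGroup.mk_pow]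
        exact A.ind_mk_eq_one.mpr fun x hx => hx _ hin
      refine hv1 (orderOf_eq_one_iff.mp ?_)
      exact Nat.eq_one_of_dvd_coprimes (Nat.Coprime.pow_right i hb) (orderOf_dvd_of_pow_eq_one hone) hord

/-- A doubly transitive group of collineations contains a perspectivity. -/
theorem Two.exists_persp {A : Act π G} (h2 : A.Two) : ∃ g, g ≠ 1 ∧ ∃ c a, g ∈ A.PC c a :=
  exists_persp_aux π.n P L π G A rfl h2

end Act

end CfsgLib.TTP
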