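import Cfsg.Agent.Lib.TwoTransPlane.Sub

set_option autoImplicit false
set_option linter.unusedSectionVars false

/-!
Groups all of whose involutions are perspectivities, with every pair fixed by an involution: flags of
elations, planes of even order, and involutory homologies.
-/

namespace CfsgLib.TTP

universe u v w

namespace Act

variable {P : Type u} {L : Type v} {π : Pl P L} {G : Type w} [Group G] [Finite P] [Finite L]
variable (A : Act π G)

/-- An elation flag. -/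
def EF (c : P) (a : L) : Prop := π.I c a ∧ ∃ g, g ∈ A.PC c a ∧ g ≠ 1

/-- The centre and axis of an involutory homology. -/
def IHo (c : P) (a : L) : Prop := ¬ π.I c a ∧ ∃ g, g ∈ A.PC c a ∧ g * g = 1 ∧ g ≠ 1

/-- A point which is the centre of no elation. -/
def T0 (c : P) : Prop := ∀ a, ¬ A.EF c a

/-- A point with exactly one elation axis. -/
def T1 (c : P) (a : L) : Prop := A.EF c a ∧ ∀ b, A.EF c b → b = a

/-- A point with two elation axes. -/
def T2 (c : P) : Prop := ∃ a b, a ≠ b ∧ A.EF c a ∧ A.EF c b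

/-- Every involution is a perspectivity and every pair is fixed by one. -/
structure Geom : Prop where
  per : ∀ g : G, g * g = 1 → g ≠ 1 → ∃ c a, g ∈ A.PC c a
  pts : ∀ x y, x ≠ y → ∃ g : G, g * g = 1 ∧ g ≠ 1 ∧ A.p g x = x ∧ A.p g y = y
  lns : ∀ a b, a ≠ b → ∃ g : G, g * g = 1 ∧ g ≠ 1 ∧ A.l g a = a ∧ A.l g b = b

theorem dual_EF {c : P} {a : L} : A.dual.EF a c ↔ A.EF c a := by
  unfold EF
  rw [A.dual_PC]
  exact Iff.rfl

theorem dual_IHo {c : P} {a : L} : A.dual.IHo a c ↔ A.IHo c a := by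
  unfold IHo
  rw [A.dual_PC]
  exact Iff.rfl

theorem Geom.dual {A : Act π G} (h : A.Geom) : A.dual.Geom where
  per g h1 h2 := by
    obtain ⟨c, a, hg⟩ := h.per g h1 h2
    exact ⟨a, c, by rwa [A.dual_PC]⟩
  pts := h.lns
  lns := h.pts

theorem type_cases (c : P) : A.T0 c ∨ (∃ a, A.T1 c a) ∨ A.T2 c := by
  by_cases h0 : A.T0 c
  · exact Or.inl h0
  simp only [T0, not_forall, not_not] at h0
  obtain ⟨a, ha⟩ := h0
  by_cases h : ∀ b, A.EF c b → b = a
  · exact Or.inr (Or.inl ⟨a, ha, h⟩)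
  push Not at h
  obtain ⟨b, hb, hba⟩ := h
  exact Or.inr (Or.inr ⟨b, a, hba, hb, ha⟩)

theorem EF.map {A : Act π G} {c : P} {a : L} (h : A.EF c a) (g : G) : A.EF (A.p g c) (A.l g a) := by
  obtain ⟨hc, k, hk, hk1⟩ := h
  exact ⟨(A.inc g c a).mpr hc, g * k * g⁻¹, A.PC_conj hk, fun e => hk1 (by simpa using e)⟩

theorem IHo.map {A : Act π G} {c : P} {a : L} (h : A.IHo c a) (g : G) : A.IHo (A.p g c) (A.l g a) := by
  obtain ⟨hc, k, hk, hk2, hk1⟩ := h
  refine ⟨fun e => hc ((A.inc g c a).mp e), g * k * g⁻¹, A.PC_conj hk, ?_, fun e => hk1 (by simpa using e)⟩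
  rw [show g * k * g⁻¹ * (g * k * g⁻¹) = g * (k * k) * g⁻¹ by group, hk2]; group

theorem EF.nontrivial {A : Act π G} {c : P} {a : L} (h : A.EF c a) : ∃ g, g ∈ A.El a ∧ g ≠ 1 := by
  obtain ⟨hc, g, hg, hg1⟩ := h
  exact ⟨g, A.PC_le_El hc hg, hg1⟩

theorem EF_of_El {a : L} {g : G} (hg : g ∈ A.El a) (hg1 : g ≠ 1) : ∃ c, A.EF c a ∧ g ∈ A.PC c a := by
  obtain ⟨c, hc, h⟩ := A.El_centre hg
  exact ⟨c, ⟨hc, g, h, hg1⟩, h⟩

/-- An elation axis through a point with one axis is that axis. -/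
theorem T1.axis {A : Act π G} {x : P} {a : L} (h : A.T1 x a) {z : P} {b : L} (hz : A.EF z b) (hx : π.I x b) :
    b = a := by
  obtain ⟨hzb, g, hg, hg1⟩ := hz
  have hgx : A.p g x = x := A.mem_axial.mp hg.1 x hx
  have hga : A.l g a = a := h.2 _ (hgx ▸ h.1.map g)
  rcases A.fixed_line hg hg1 hga with e | e
  · exact e.symm
  · by_contra hne
    have : z = x := π.eq_of_two_lines hne hzb hx e h.1.1
    subst this
    exact hne (h.2 b ⟨hzb, g, hg, hg1⟩)

/-- An elation centre lying on an elation axis. -/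
theorem key_flag {c y : P} {a b : L} (hca : A.EF c a) (hyb : A.EF y b) (hya : π.I y a) (hba : b ≠ a)
    (hcy : c ≠ y) : A.EF y a := by
  obtain ⟨hc, e, he, he1⟩ := hca
  obtain ⟨hy, f, hf, hf1⟩ := hyb
  have hey : A.p e y = y := A.mem_axial.mp he.1 y hya
  have hfa : A.l f a = a := A.mem_central.mp hf.2 a hya
  have hne : e * f * e⁻¹ * f⁻¹ ≠ 1 := by
    intro h1
    have h2 : e * f * e⁻¹ = f := mul_inv_eq_one.mp h1
    have h3 : f ∈ A.PC (A.p e y) (A.l e b) := h2 ▸ A.PC_conj hf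
    have heb : A.l e b = b := by
      by_contra h
      exact hf1 (A.two_axes h3.1 hf.1 h)
    rcases A.fixed_line he he1 heb with h | h
    · exact hba h
    · exact hcy (π.eq_of_two_lines hba h hy hc hya)
  have h1 : e * f * e⁻¹ * f⁻¹ ∈ A.El a := by
    have h' := A.El_conj (g := f) (inv_mem (A.PC_le_El hc he))
    rw [hfa] at h'
    have := mul_mem (A.PC_le_El hc he) h'
    simpa only [mul_assoc] using this
  have h2 : e * f * e⁻¹ * f⁻¹ ∈ A.dual.El y := by
    have hf' : f ∈ A.dual.El y := A.dual.PC_le_El (a := y) (c := b) hy (by rw [A.dual_PC]; exact hf)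
    have h' := A.dual.El_conj (g := e) hf'
    rw [show A.dual.l e y = y from hey] at h'
    exact mul_mem h' (inv_mem hf')
  obtain ⟨z, hz⟩ := A.El_centre h1
  have hzy : z = y := by
    by_contra h
    exact hne (A.two_centres hz.2.2 h2.1 h)
  exact ⟨hya, _, hzy ▸ hz.2, hne⟩

theorem card_modEq (g : G) {q : ℕ} [Fact q.Prime] (hg : g ^ q = 1) (S : Set P)
    (hS : ∀ x, A.p g x ∈ S ↔ x ∈ S) : S.ncard ≡ {x | x ∈ S ∧ A.p g x = x}.ncard [MOD q] := by
  classical
  haveI := Fintype.ofFinite ↥S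
  set σ : Equiv.Perm ↥S := (A.p g).subtypePerm hS with hσ
  have h1 : σ ^ q ^ 1 = 1 := by
    refine Equiv.ext fun x => Subtype.ext ?_
    rw [hσ, Equiv.Perm.subtypePerm_pow, Equiv.Perm.subtypePerm_apply]
    simp only [pow_one]
    simp only [← map_pow, hg, map_one]
    rfl
  have h2 := Equiv.Perm.card_compl_support_modEq h1
  have e1 : S.ncard = Fintype.card ↥S := by rw [← Nat.card_coe_set_eq, Nat.card_eq_fintype_card]
  have e2 : {x | x ∈ S ∧ A.p g x = x}.ncard = σ.supportᶜ.card := by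
    rw [← Set.ncard_coe_finset, ← Set.ncard_image_of_injective _ Subtype.val_injective]
    congr 1
    ext x
    simp [hσ, Subtype.ext_iff]
    intro _; tauto
  rw [e1, e2]
  exact h2.symm

theorem orbit_dvd [Finite G] (H : Subgroup G) (x : P) : Nat.card {y // ∃ h ∈ H, A.p h x = y} ∣ Nat.card H := by
  classical
  haveI := Fintype.ofFinite H
  haveI := Fintype.ofFinite P
  letI := A.actP H
  have h := MulAction.card_orbit_mul_card_stabilizer_eq_card_group H x
  have e : Nat.card {y // ∃ h ∈ H, A.p h x = y} = Fintype.card (MulAction.orbit H x) := by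
    rw [← Nat.card_eq_fintype_card]
    exact Nat.card_congr (Equiv.subtypeEquivRight fun y =>
      ⟨fun ⟨g, hg, e⟩ => ⟨⟨g, hg⟩, e⟩, fun ⟨g, e⟩ => ⟨g.1, g.2, e⟩⟩)
  rw [e, Nat.card_eq_fintype_card, ← h]
  exact dvd_mul_right _ _

/-- A set on which every point is the only fixed point of an element of order `q` is one orbit. -/
theorem trans_of_unique_fix {q : ℕ} (hq : q.Prime) (H : Subgroup G) (S : Set P)
    (hS : ∀ h ∈ H, ∀ x, A.p h x ∈ S ↔ x ∈ S)
    (hfix : ∀ z ∈ S, ∃ g ∈ H, g ^ q = 1 ∧ A.p g z = z ∧ ∀ x ∈ S, A.p g x = x → x = z)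
    {x y : P} (hx : x ∈ S) (hy : y ∈ S) : ∃ h ∈ H, A.p h x = y := by
  haveI : Fact q.Prime := ⟨hq⟩
  by_contra hno
  set O := {z | ∃ h ∈ H, A.p h x = z}
  have hinv : ∀ g ∈ H, ∀ z, A.p g z ∈ O ↔ z ∈ O := fun g hg z =>
    ⟨fun ⟨h, hh, e⟩ => ⟨g⁻¹ * h, mul_mem (inv_mem hg) hh, by rw [A.p_mul, e, A.p_inv_apply]⟩,
      fun ⟨h, hh, e⟩ => ⟨g * h, mul_mem hg hh, by rw [A.p_mul, e]⟩⟩
  have hxO : x ∈ O := ⟨1, one_mem _, by simp⟩
  have hOS : ∀ z ∈ O, z ∈ S := fun z ⟨h, hh, e⟩ => e ▸ (hS h hh x).mpr hx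
  obtain ⟨g, hgH, hgq, hgx, hgu⟩ := hfix x hx
  obtain ⟨k, hkH, hkq, hky, hku⟩ := hfix y hy
  have h1 := A.card_modEq g hgq O (hinv g hgH)
  have h2 := A.card_modEq k hkq O (hinv k hkH)
  have e1 : {z | z ∈ O ∧ A.p g z = z} = {x} :=
    Set.eq_singleton_iff_unique_mem.mpr ⟨⟨hxO, hgx⟩, fun z hz => hgu z (hOS z hz.1) hz.2⟩
  have e2 : {z | z ∈ O ∧ A.p k z = z} = ∅ :=
    Set.eq_empty_of_forall_notMem fun z hz => hno (hku z (hOS z hz.1) hz.2 ▸ hz.1)
  rw [e1, Set.ncard_singleton] at h1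
  rw [e2, Set.ncard_empty] at h2
  have h3 : 1 % q = 0 % q := h1.symm.trans h2
  rw [Nat.mod_eq_of_lt hq.one_lt, Nat.zero_mod] at h3
  exact one_ne_zero h3

/-- If every point and line carries two elation flags, the order is a prime power. -/
theorem flag_prime_pow (hP : ∀ x, A.T2 x) (hL : ∀ a, A.dual.T2 a) : IsPrimePow π.n := by
  haveI := A.finite
  have hflag : ∀ y a, π.I y a → A.EF y a := by
    intro y a hya
    obtain ⟨c, d, hcd, hc, hd⟩ := hL a
    obtain ⟨c', hc', hne⟩ : ∃ c', A.EF c' a ∧ c' ≠ y := by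
      rcases eq_or_ne c y with e | e
      · exact ⟨d, A.dual_EF.mp hd, fun e' => hcd (e.trans e'.symm)⟩
      · exact ⟨c, A.dual_EF.mp hc, e⟩
    obtain ⟨b, b', hbb, hb, hb'⟩ := hP y
    rcases eq_or_ne b a with e | e
    · exact A.key_flag hc' hb' hya (fun e' => hbb (e.trans e'.symm)) hne
    · exact A.key_flag hc' hb hya e hne
  have helem : ∀ a, ∃ q, q.Prime ∧ ∀ g ∈ A.El a, g ^ q = 1 := by
    intro a
    obtain ⟨c, d, hcd, hc, hd⟩ := hL a
    obtain ⟨hci, g, hg, hg1⟩ := A.dual_EF.mp hc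
    obtain ⟨hdi, h, hh, hh1⟩ := A.dual_EF.mp hd
    exact A.El_elementary hcd hci hdi hg hg1 hh hh1
  have helem' : ∀ x, ∃ q, q.Prime ∧ ∀ g ∈ A.dual.El x, g ^ q = 1 := by
    intro x
    obtain ⟨c, d, hcd, hc, hd⟩ := hP x
    obtain ⟨hci, g, hg, hg1⟩ := A.dual_EF.mpr hc
    obtain ⟨hdi, h, hh, hh1⟩ := A.dual_EF.mpr hd
    exact A.dual.El_elementary hcd hci hdi hg hg1 hh hh1
  obtain ⟨a₀, -⟩ := π.exists_line_off π.config.choose
  obtain ⟨q, hq, hq₀⟩ := helem a₀
  -- one prime everywhere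
  have hprime : ∀ a, ∀ g ∈ A.El a, g ^ q = 1 := by
    intro a
    rcases eq_or_ne a a₀ with rfl | hne
    · exact hq₀
    obtain ⟨qa, hqa, hqa'⟩ := helem a
    obtain ⟨qy, hqy, hqy'⟩ := helem' (π.meet a a₀)
    have same : ∀ b r, r.Prime → (∀ g ∈ A.El b, g ^ r = 1) → π.I (π.meet a a₀) b → r = qy := by
      intro b r hr hb hi
      obtain ⟨-, g, hg, hg1⟩ := hflag _ b hi
      have e1 := orderOf_dvd_of_pow_eq_one (hb g (A.PC_le_El hi hg))
      have e2 := orderOf_dvd_of_pow_eq_one (hqy' g (A.dual.PC_le_El (c := b) hi (by rw [A.dual_PC]; exact hg)))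
      have hne1 : orderOf g ≠ 1 := fun e => hg1 (orderOf_eq_one_iff.mp e)
      exact ((Nat.dvd_prime hr).mp e1).resolve_left hne1 |>.symm.trans (((Nat.dvd_prime hqy).mp e2).resolve_left hne1)
    rw [show q = qa from (same a₀ q hq hq₀ (π.meet_right _ _)).trans (same a qa hqa hqa' (π.meet_left _ _)).symm]
    exact hqa'
  obtain ⟨c, hc, -⟩ := π.exists_other a₀ (π.meet a₀ a₀)
  have hconst : ∀ z, π.I z a₀ → Nat.card (A.PC z a₀) = Nat.card (A.PC c a₀) := by
    intro z hz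
    obtain ⟨h, hh, e⟩ := A.trans_of_unique_fix hq (A.stL a₀) {x | π.I x a₀}
      (fun h hh x => by
        show π.I (A.p h x) a₀ ↔ π.I x a₀
        conv_lhs => rw [← (show A.l h a₀ = a₀ from hh)]
        exact A.inc h x a₀)
      (fun w hw => by
        obtain ⟨b, hb, hba⟩ := π.exists_other_line w a₀
        obtain ⟨-, g, hg, hg1⟩ := hflag w b hb
        refine ⟨g, A.mem_central.mp hg.2 a₀ hw, hprime b g (A.PC_le_El hb hg), A.mem_axial.mp hg.1 w hb,
          fun x hx hgx => ?_⟩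
        rcases A.fixed_point hg hg1 hgx with h' | h'
        · exact h'
        · exact π.eq_of_two_lines hba h' hb hx hw)
      hc hz
    rw [← e]
    conv_lhs => rw [← (show A.l h a₀ = a₀ from hh)]
    exact A.card_PC_map h c a₀
  have he : 2 ≤ Nat.card (A.PC c a₀) := by
    obtain ⟨-, g, hg, hg1⟩ := hflag c a₀ hc
    exact (Subgroup.one_lt_card_iff_ne_bot _).mpr fun e => hg1 (by simpa [e] using hg)
  obtain ⟨hen, -⟩ := A.full_of_const a₀ he hconst
  obtain ⟨k, hk⟩ := card_prime_pow_of_exp hq (H := A.PC c a₀) fun g hg => hprime a₀ g (A.PC_le_El hc hg)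
  exact isPrimePow_of_dvd_prime_pow hq π.one_lt_n (k := k) (by rw [← hk, hen])

/-- Even order. -/
theorem Geom.even_prime_pow {A : Act π G} (h : A.Geom) (hn : Even π.n) : IsPrimePow π.n := by
  have hax : ∀ {P : Type u} {L : Type v} {π : Pl P L} [Finite P] [Finite L] (A : Act π G), A.Geom → Even π.n →
      ∀ a, ∃ c, A.EF c a := by
    intro P L π _ _ A h hn a
    obtain ⟨x, hx, -⟩ := π.exists_other a (π.meet a a)
    obtain ⟨y, hy, hyx⟩ := π.exists_other a x
    obtain ⟨g, h1, h2, h3, h4⟩ := h.pts x y hyx.symm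
    obtain ⟨c, b, hg⟩ := h.per g h1 h2
    have hcb := A.inv_even h1 h2 hn hg
    have : ∀ w, A.p g w = w → π.I w b := fun w hw => by
      rcases A.fixed_point hg h2 hw with e | e
      · exact e ▸ hcb
      · exact e
    exact ⟨c, π.eq_of_two_points hyx.symm (this x h3) (this y h4) hx hy ▸ ⟨hcb, g, hg, h2⟩⟩
  have hcen : ∀ c, ∃ a, A.EF c a := by
    intro c
    obtain ⟨g, h1, h2, h3, h4⟩ : ∃ g : G, g * g = 1 ∧ g ≠ 1 ∧
        ∃ a b, a ≠ b ∧ π.I c a ∧ π.I c b ∧ A.l g a = a ∧ A.l g b = b := by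
      obtain ⟨a, ha, -⟩ := π.exists_other_line c (π.join c c)
      obtain ⟨b, hb, hba⟩ := π.exists_other_line c a
      obtain ⟨g, h1, h2, h3, h4⟩ := h.lns a b hba.symm
      exact ⟨g, h1, h2, a, b, hba.symm, ha, hb, h3, h4⟩
    obtain ⟨b', hab, hca, hcb, hfa, hfb⟩ := h4
    obtain ⟨z, d, hg⟩ := h.per g h1 h2
    have hzd := A.inv_even h1 h2 hn hg
    have : ∀ w, A.l g w = w → π.I z w := fun w hw => by
      rcases A.fixed_line hg h2 hw with e | e
      · exact e ▸ hzd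
      · exact e
    exact ⟨d, π.eq_of_two_lines hab (this _ hfa) hca (this _ hfb) hcb ▸ ⟨hzd, g, hg, h2⟩⟩
  refine A.flag_prime_pow (fun x => ?_) (fun a => ?_)
  · rcases A.type_cases x with h0 | ⟨a, h1⟩ | h2
    · obtain ⟨a, ha⟩ := hcen x; exact absurd ha (h0 a)
    · exfalso
      obtain ⟨b, hb, hba⟩ := π.exists_other_line x a
      obtain ⟨c, hc⟩ := hax A h hn b
      exact hba (h1.axis hc hb)
    · exact h2
  · rcases A.dual.type_cases a with h0 | ⟨x, h1⟩ | h2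
    · obtain ⟨c, hc⟩ := hax A h hn a; exact absurd (A.dual_EF.mpr hc) (h0 c)
    · exfalso
      obtain ⟨y, hy, hyx⟩ := π.exists_other a x
      obtain ⟨b, hb⟩ := hcen y
      exact hyx (h1.axis (A.dual_EF.mpr hb) hy)
    · exact h2

/-- Two involutory homologies with one axis are conjugate by an elation. -/
theorem iho_elation {c c' : P} {a : L} (h : A.IHo c a) (h' : A.IHo c' a) (hne : c ≠ c') (hn : Odd π.n) :
    ∃ s ∈ A.El a, A.p s c' = c := by
  haveI := A.finite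
  obtain ⟨hc, u, hu, hu2, hu1⟩ := h
  obtain ⟨hc', u', hu', hu2', hu1'⟩ := h'
  have hui : u⁻¹ = u := inv_eq_of_mul_eq_one_right hu2
  have hui' : u'⁻¹ = u' := inv_eq_of_mul_eq_one_right hu2'
  set r := u * u'
  have hr1 : r ≠ 1 := fun e => by
    have : u = u' := by rw [eq_comm, ← hui']; exact inv_eq_of_mul_eq_one_left e
    exact hu1 (A.two_centres hu.2 (this ▸ hu'.2) hne)
  have hrax : r ∈ A.axial a := mul_mem hu.1 hu'.1
  -- a fixed point off the axis would be both centres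
  have hinv : ∀ v, v ∈ A.axial a → v * r * v⁻¹ = r⁻¹ → ∀ x, ¬ π.I x a → A.p r x = x → A.p v x = x := by
    intro v hv hvr x hx hxr
    have h1 : A.p r⁻¹ x = x := by conv_lhs => rw [← hxr, A.p_inv_apply]
    have h2 : A.p r (A.p v x) = A.p v x := by
      have : r * v = v * r⁻¹ := by
        have := congrArg (·⁻¹) hvr
        simp only [mul_inv_rev, inv_inv] at this
        calc r * v = v * r⁻¹ * v⁻¹ * v := by rw [mul_assoc v]; rw [this]
          _ = v * r⁻¹ := by group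
      rw [← A.p_mul, this, A.p_mul, h1]
    have h3 : ¬ π.I (A.p v x) a := by
      rw [← (show A.l v a = a from A.axial_le_stL a hv), A.inc]; exact hx
    by_contra hne'
    exact hr1 (A.two_centres (A.central_of_fix hrax h3 h2) (A.central_of_fix hrax hx hxr) hne')
  have hr : r ∈ A.El a := by
    refine ⟨hrax, Or.inr fun x hx hxr => ?_⟩
    have e1 := hinv u hu.1 (show u * (u * u') * u⁻¹ = (u * u')⁻¹ by
      rw [mul_inv_rev, hui, hui', ← mul_assoc, hu2, one_mul]) x hx hxr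
    have e2 := hinv u' hu'.1 (show u' * (u * u') * u'⁻¹ = (u * u')⁻¹ by
      rw [mul_inv_rev, hui, hui', mul_assoc, mul_assoc, hu2', mul_one]) x hx hxr
    have f1 := (A.fixed_point hu hu1 e1).resolve_right hx
    have f2 := (A.fixed_point hu' hu1' e2).resolve_right hx
    exact hne (f1.symm.trans f2)
  have hodd : Odd (orderOf r) := by
    have := (Subgroup.orderOf_dvd_natCard (s := A.El a) hr).trans (A.card_El_dvd a)
    exact Odd.of_dvd_nat (hn.pow) this
  obtain ⟨k, hk⟩ := hodd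
  set s := r ^ (k + 1)
  have hs : s * s = r := by
    rw [← pow_add, show k + 1 + (k + 1) = orderOf r + 1 by omega, pow_succ, pow_orderOf_eq_one, one_mul]
  have hconj : u' * s * u'⁻¹ = s⁻¹ := by
    rw [← conj_pow, ← inv_pow]
    congr 1
    rw [mul_inv_rev, hui, hui', mul_assoc, mul_assoc, hu2', mul_one]
  have hu_eq : s * u' * s⁻¹ = u := by
    have e1 : u' * s⁻¹ = s * u' := by
      have := congrArg (·⁻¹) hconj
      simp only [mul_inv_rev, inv_inv] at this
      calc u' * s⁻¹ = u' * s⁻¹ * u'⁻¹ * u' := by group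
        _ = s * u' := by rw [mul_assoc u', this]
    rw [mul_assoc, e1, ← mul_assoc, hs, mul_assoc, hu2', mul_one]
  refine ⟨s, pow_mem hr _, ?_⟩
  have h1 : u ∈ A.central (A.p s c') := hu_eq ▸ A.central_conj hu'.2
  by_contra h2
  exact hu1 (A.two_centres h1 hu.2 h2)

/-- Two involutory homologies with one axis give an elation flag. -/
theorem two_hom {c c' : P} {a : L} (h : A.IHo c a) (h' : A.IHo c' a) (hne : c ≠ c') (hn : Odd π.n) :
    A.EF (π.meet (π.join c c') a) a := by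
  obtain ⟨s, hs, hsc⟩ := A.iho_elation h h' hne hn
  have hs1 : s ≠ 1 := fun e => hne (by rw [e] at hsc; simpa using hsc.symm)
  obtain ⟨z, hz, hzs⟩ := A.EF_of_El hs hs1
  have hzc : z ≠ c' := fun e => h'.1 (e ▸ hz.1)
  have h1 : π.I c (π.join z c') := by
    have := (A.inc s c' _).mpr (π.join_right z c')
    rwa [A.mem_central.mp hzs.2 _ (π.join_left z c'), hsc] at this
  have h2 : π.join z c' = π.join c c' :=
    (π.join_eq hne h1 (π.join_right z c')).symm
  have h3 : π.join c c' ≠ a := fun e => h.1 (e ▸ π.join_left c c')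
  rwa [π.meet_eq h3 (h2 ▸ π.join_left z c') hz.1]

/-- The centres on an axis correspond to the elations. -/
theorem card_centres {c : P} {a : L} (h : A.IHo c a) (hn : Odd π.n) :
    Nat.card {z // A.IHo z a} = Nat.card (A.El a) := by
  refine (Nat.card_eq_of_bijective (fun s : A.El a => (⟨A.p s c, ?_⟩ : {z // A.IHo z a})) ⟨?_, ?_⟩).symm
  · have := h.map (s : G)
    rwa [show A.l (s : G) a = a from A.axial_le_stL a s.2.1] at this
  · intro s t e
    have e' : A.p ((t : G)⁻¹ * s) c = c := by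
      rw [A.p_mul, show A.p (s : G) c = A.p (t : G) c from congrArg Subtype.val e, A.p_inv_apply]
    exact Subtype.ext (inv_mul_eq_one.mp (A.El_fix (mul_mem (inv_mem t.2) s.2) h.1 e')).symm
  · rintro ⟨z, hz⟩
    rcases eq_or_ne c z with rfl | hne
    · exact ⟨1, Subtype.ext (by simp)⟩
    obtain ⟨s, hs, e⟩ := A.iho_elation hz h hne.symm hn
    exact ⟨⟨s, hs⟩, Subtype.ext e⟩

/-- A third centre from an elation. -/
theorem IHo.elation_ne {A : Act π G} {c : P} {a : L} (h : A.IHo c a) {g : G} (hg : g ∈ A.El a) (hg1 : g ≠ 1) :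
    A.IHo (A.p g c) a ∧ A.p g c ≠ c := by
  refine ⟨?_, fun e => hg1 (A.El_fix hg h.1 e)⟩
  have := h.map g
  rwa [show A.l g a = a from A.axial_le_stL a hg.1] at this

/-- Pairwise fixed-point pairs of involutions give double transitivity. -/
theorem two_trans_of_pairs (H : Subgroup G) (S : Set P) (hS : ∀ h ∈ H, ∀ x, A.p h x ∈ S ↔ x ∈ S)
    (hpair : ∀ x ∈ S, ∀ y ∈ S, x ≠ y → ∃ g ∈ H, g * g = 1 ∧ A.p g x = x ∧ A.p g y = y ∧
      ∀ z ∈ S, A.p g z = z → z = x ∨ z = y)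
    (h3 : ∀ x y, ∃ z ∈ S, z ≠ x ∧ z ≠ y) {a b : P} (ha : a ∈ S) (hb : b ∈ S) (hab : a ≠ b) :
    ∃ h ∈ H, A.p h a = b ∧ A.p h b = a := by
  haveI : Fact (Nat.Prime 2) := ⟨Nat.prime_two⟩
  have hinv : ∀ (K : Subgroup G) (x : P), ∀ g ∈ K, ∀ z,
      A.p g z ∈ {y | ∃ h ∈ K, A.p h x = y} ↔ z ∈ {y | ∃ h ∈ K, A.p h x = y} := fun K x g hg z =>
    ⟨fun ⟨h, hh, e⟩ => ⟨g⁻¹ * h, mul_mem (inv_mem hg) hh, by rw [A.p_mul, e, A.p_inv_apply]⟩,
      fun ⟨h, hh, e⟩ => ⟨g * h, mul_mem hg hh, by rw [A.p_mul, e]⟩⟩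
  -- parity of an invariant set
  have par : ∀ (O : Set P), O ⊆ S → ∀ g, g * g = 1 → (∀ z, A.p g z ∈ O ↔ z ∈ O) → ∀ (F : Set P),
      (∀ z ∈ O, A.p g z = z ↔ z ∈ F) → O.ncard % 2 = (O ∩ F).ncard % 2 := fun O hOS g hg hO F hF => by
    have h := A.card_modEq g (by rw [pow_two]; exact hg) O hO
    have e : {z | z ∈ O ∧ A.p g z = z} = O ∩ F := Set.ext fun z =>
      ⟨fun hz => ⟨hz.1, (hF z hz.1).mp hz.2⟩, fun hz => ⟨hz.1, (hF z hz.1).mpr hz.2⟩⟩
    rw [e] at h
    exact h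
  -- transitivity
  have htr : ∀ x ∈ S, ∀ y ∈ S, ∃ h ∈ H, A.p h x = y := by
    intro x hx y hy
    by_contra hno
    set O := {y | ∃ h ∈ H, A.p h x = y}
    have hOS : O ⊆ S := fun z ⟨h, hh, e⟩ => e ▸ (hS h hh x).mpr hx
    have hxO : x ∈ O := ⟨1, one_mem _, by simp⟩
    have hxy : x ≠ y := fun e => hno (e ▸ hxO)
    have hsing : O = {x} := by
      refine Set.eq_singleton_iff_unique_mem.mpr ⟨hxO, fun x' hx' => ?_⟩
      by_contra hne
      obtain ⟨g, hg, g2, gx, gy, gu⟩ := hpair x hx y hy hxy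
      have h1 := par O hOS g g2 (hinv H x g hg) {x} fun z hz =>
        ⟨fun e => (gu z (hOS hz) e).resolve_right fun e' => hno (show y ∈ O from e' ▸ hz), fun e => (e : z = x) ▸ gx⟩
      obtain ⟨k, hk, k2, kx, ky, ku⟩ := hpair x hx x' (hOS hx') (Ne.symm hne)
      have h2 := par O hOS k k2 (hinv H x k hk) {x, x'} fun z hz =>
        ⟨fun e => ku z (hOS hz) e, fun e => by rcases e with rfl | e; exacts [kx, (e : z = x') ▸ ky]⟩
      rw [Set.inter_eq_right.mpr (Set.singleton_subset_iff.mpr hxO), Set.ncard_singleton] at h1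
      rw [Set.inter_eq_right.mpr (Set.insert_subset hxO (Set.singleton_subset_iff.mpr hx')),
        Set.ncard_pair (Ne.symm hne)] at h2
      omega
    obtain ⟨z, hz, hzx, hzy⟩ := h3 x y
    obtain ⟨g, hg, -, -, -, gu⟩ := hpair y hy z hz hzy.symm
    have hgx : A.p g x ∈ O := ⟨g, hg, rfl⟩
    rw [hsing] at hgx
    rcases gu x hx hgx with e | e
    · exact hxy e
    · exact hzx e.symm
  obtain ⟨g, hg, hgab⟩ := htr a ha b hb
  -- the stabiliser of `b` is transitive on the rest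
  have hgb : A.p g b ∈ S := (hS g hg b).mpr hb
  have hne : A.p g b ≠ b := fun e => hab ((A.p g).injective (hgab.trans e.symm))
  suffices h : ∃ h ∈ H, A.p h b = b ∧ A.p h (A.p g b) = a by
    obtain ⟨h, hh, h1, h2⟩ := h
    exact ⟨h * g, mul_mem hh hg, by rw [A.p_mul, hgab, h1], by rw [A.p_mul, h2]⟩
  by_contra hno
  push Not at hno
  set K := H ⊓ A.stP b
  set O := {y | ∃ h ∈ K, A.p h (A.p g b) = y}
  have hOS : O ⊆ S := fun z ⟨h, hh, e⟩ => e ▸ (hS h hh.1 _).mpr hgb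
  have hxO : A.p g b ∈ O := ⟨1, one_mem _, by simp⟩
  have haO : a ∉ O := fun ⟨h, hh, e⟩ => hno h hh.1 hh.2 e
  have hbO : b ∉ O := fun ⟨h, hh, e⟩ => hne ((A.p h).injective (e.trans (hh.2 : A.p h b = b).symm))
  obtain ⟨k, hk, k2, kb, kx, ku⟩ := hpair b hb _ hgb hne.symm
  have h1 := par O hOS k k2 (hinv K _ k ⟨hk, kb⟩) {A.p g b} fun z hz =>
    ⟨fun e => (ku z (hOS hz) e).resolve_left fun e' => hbO (e' ▸ hz), fun e => (e : z = _) ▸ kx⟩
  obtain ⟨m, hm, m2, mb, ma, mu⟩ := hpair b hb a ha hab.symm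
  have h2 := par O hOS m m2 (hinv K _ m ⟨hm, mb⟩) ∅ fun z hz =>
    ⟨fun e => by
      rcases mu z (hOS hz) e with e' | e'
      · exact (hbO (e' ▸ hz)).elim
      · exact (haO (e' ▸ hz)).elim, fun e => e.elim⟩
  rw [Set.inter_eq_right.mpr (Set.singleton_subset_iff.mpr hxO), Set.ncard_singleton] at h1
  rw [Set.inter_empty, Set.ncard_empty] at h2
  omega

end Act

end CfsgLib.TTP
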