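import Mathlib

set_option autoImplicit false
set_option linter.unusedSectionVars false

/-!
Finite projective planes given by an explicit incidence relation (so that duality is a flip), and
groups of collineations acting on them.
-/

namespace CfsgLib.TTP

universe u v w

/-- A projective plane with a chosen join and meet. -/
structure Pl (P : Type u) (L : Type v) where
  I : P → L → Prop
  join : P → P → L
  meet : L → L → P
  join_left : ∀ x y, I x (join x y)
  join_right : ∀ x y, I y (join x y)
  meet_left : ∀ a b, I (meet a b) a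
  meet_right : ∀ a b, I (meet a b) b
  unique : ∀ {x y : P} {a b : L}, I x a → I y a → I x b → I y b → x = y ∨ a = b
  config : ∃ (x₁ x₂ x₃ : P) (a₁ a₂ a₃ : L),
      ¬ I x₁ a₂ ∧ ¬ I x₁ a₃ ∧ ¬ I x₂ a₁ ∧ I x₂ a₂ ∧ I x₂ a₃ ∧ ¬ I x₃ a₁ ∧ I x₃ a₂ ∧ ¬ I x₃ a₃

namespace Pl

variable {P : Type u} {L : Type v}

/-- The dual plane. -/
def dual (π : Pl P L) : Pl L P where
  I a x := π.I x a
  join := π.meet
  meet := π.join
  join_left := π.meet_left
  join_right := π.meet_right
  meet_left := π.join_left
  meet_right := π.join_right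
  unique h₁ h₂ h₃ h₄ := (π.unique h₁ h₃ h₂ h₄).symm
  config := by
    obtain ⟨x₁, x₂, x₃, a₁, a₂, a₃, h₁, h₂, h₃, h₄, h₅, h₆, h₇, h₈⟩ := π.config
    exact ⟨a₁, a₂, a₃, x₁, x₂, x₃, h₃, h₆, h₁, h₄, h₇, h₂, h₅, h₈⟩

@[simp] theorem dual_I (π : Pl P L) (a : L) (x : P) : π.dual.I a x ↔ π.I x a := Iff.rfl

theorem dual_dual (π : Pl P L) : π.dual.dual = π := rfl

/-- The incidence as membership. -/
@[instance_reducible] def memb (π : Pl P L) : Membership P L := ⟨fun a x => π.I x a⟩

/-- The plane as a Mathlib projective plane. -/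
@[instance_reducible] def toPP (π : Pl P L) : @Configuration.ProjectivePlane P L π.memb :=
  letI := π.memb
  { exists_point := fun a => by
      obtain ⟨x₁, x₂, x₃, a₁, a₂, a₃, h₁, h₂, h₃, h₄, h₅, h₆, h₇, h₈⟩ := π.config
      by_contra! hc
      rcases π.unique (hc x₁) (hc x₂) (π.join_left x₁ x₂) (π.join_right x₁ x₂) with h | h
      · exact h₁ (h ▸ h₄)
      · rcases π.unique (hc x₂) (hc x₃) h₄ h₇ with h' | h'
        · exact h₈ (h' ▸ h₅)
        · exact h₁ (h' ▸ hc x₁)
    exists_line := fun x => by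
      obtain ⟨x₁, x₂, x₃, a₁, a₂, a₃, h₁, h₂, h₃, h₄, h₅, h₆, h₇, h₈⟩ := π.config
      by_contra! hc
      rcases π.unique (hc a₂) h₄ (hc a₃) h₅ with h | h
      · exact h₃ (h ▸ hc a₁)
      · exact h₈ (h ▸ h₇)
    eq_or_eq := fun h₁ h₂ h₃ h₄ => π.unique h₁ h₂ h₃ h₄
    mkPoint := fun {a b} _ => π.meet a b
    mkPoint_ax := fun {a b} _ => ⟨π.meet_left a b, π.meet_right a b⟩
    mkLine := fun {x y} _ => π.join x y
    mkLine_ax := fun {x y} _ => ⟨π.join_left x y, π.join_right x y⟩
    exists_config := π.config }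

variable (π : Pl P L)

theorem join_eq {x y : P} {a : L} (hxy : x ≠ y) (hx : π.I x a) (hy : π.I y a) : π.join x y = a :=
  (π.unique (π.join_left x y) (π.join_right x y) hx hy).resolve_left hxy

theorem meet_eq {a b : L} {x : P} (hab : a ≠ b) (ha : π.I x a) (hb : π.I x b) : π.meet a b = x :=
  (π.unique (π.meet_left a b) ha (π.meet_right a b) hb).resolve_right hab

theorem eq_of_two_points {x y : P} {a b : L} (hxy : x ≠ y) (hxa : π.I x a) (hya : π.I y a) (hxb : π.I x b)
    (hyb : π.I y b) : a = b :=
  (π.unique hxa hya hxb hyb).resolve_left hxy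

theorem eq_of_two_lines {x y : P} {a b : L} (hab : a ≠ b) (hxa : π.I x a) (hya : π.I y a) (hxb : π.I x b)
    (hyb : π.I y b) : x = y :=
  (π.unique hxa hya hxb hyb).resolve_right hab

theorem exists_off (a : L) : ∃ x, ¬ π.I x a := π.toPP.exists_point a

theorem exists_line_off (x : P) : ∃ a, ¬ π.I x a := π.dual.exists_off x

/-- The order of the plane. -/
noncomputable def n : ℕ := @Configuration.ProjectivePlane.order P L π.memb π.toPP

variable [Finite P] [Finite L]

theorem card_line (a : L) : Nat.card {x // π.I x a} = π.n + 1 :=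
  @Configuration.ProjectivePlane.pointCount_eq P L π.memb π.toPP _ _ a

theorem card_pencil (x : P) : Nat.card {a // π.I x a} = π.n + 1 :=
  @Configuration.ProjectivePlane.lineCount_eq P L π.memb π.toPP _ _ x

theorem one_lt_n : 1 < π.n := @Configuration.ProjectivePlane.one_lt_order P L π.memb π.toPP _ _

theorem card_P : Nat.card P = π.n ^ 2 + π.n + 1 := by
  haveI := Fintype.ofFinite P
  rw [Nat.card_eq_fintype_card]
  exact @Configuration.ProjectivePlane.card_points P L π.memb π.toPP _ _

theorem card_L : Nat.card L = π.n ^ 2 + π.n + 1 := by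
  haveI := Fintype.ofFinite L
  rw [Nat.card_eq_fintype_card]
  exact @Configuration.ProjectivePlane.card_lines P L π.memb π.toPP _ _

theorem dual_n : π.dual.n = π.n := by
  obtain ⟨x, -⟩ := π.config
  have h1 : π.dual.n + 1 = Nat.card {a // π.I x a} := (π.dual.card_line x).symm
  rw [π.card_pencil x] at h1
  omega

theorem card_off (a : L) : Nat.card {x // ¬ π.I x a} = π.n ^ 2 := by
  classical
  haveI := Fintype.ofFinite P
  have h1 := π.card_line a
  have h2 := π.card_P
  rw [Nat.card_eq_fintype_card] at h1 h2 ⊢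
  rw [Fintype.card_subtype_compl, h1, h2]
  omega

theorem card_line_erase {a : L} {c : P} (hc : π.I c a) : Nat.card {x // π.I x a ∧ x ≠ c} = π.n := by
  classical
  have h1 := π.card_line a
  have e : ({x // π.I x a ∧ x ≠ c} : Type u) ≃ {x : {x // π.I x a} // x ≠ ⟨c, hc⟩} :=
    ((Equiv.subtypeEquivRight fun y => by simp [Subtype.ext_iff]).trans
      (Equiv.subtypeSubtypeEquivSubtypeInter _ _)).symm
  haveI := Fintype.ofFinite {x // π.I x a}
  rw [Nat.card_congr e, Nat.card_eq_fintype_card, Fintype.card_subtype_compl, Fintype.card_subtype_eq]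
  rw [Nat.card_eq_fintype_card] at h1
  omega

theorem card_pencil_erase {a : L} {c : P} (hc : π.I c a) : Nat.card {b // π.I c b ∧ b ≠ a} = π.n := by
  rw [← π.dual_n]; exact π.dual.card_line_erase (a := c) (c := a) hc

/-- Every line carries a point other than two given ones. -/
theorem exists_third (a : L) (x y : P) : ∃ z, π.I z a ∧ z ≠ x ∧ z ≠ y := by
  classical
  haveI := Fintype.ofFinite P
  by_contra hc
  push Not at hc
  have hsub : (Finset.univ.filter fun z => π.I z a) ⊆ {x, y} := by
    intro z hz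
    simp only [Finset.mem_filter, Finset.mem_univ, true_and] at hz
    by_cases h : z = x
    · simp [h]
    · simp [hc z hz h]
  have h1 := (Finset.card_le_card hsub).trans (Finset.card_le_two)
  rw [← Fintype.card_subtype, ← Nat.card_eq_fintype_card, π.card_line] at h1
  have := π.one_lt_n
  omega

theorem exists_third_line (x : P) (a b : L) : ∃ c, π.I x c ∧ c ≠ a ∧ c ≠ b := π.dual.exists_third x a b

theorem exists_other (a : L) (x : P) : ∃ z, π.I z a ∧ z ≠ x := by
  obtain ⟨z, h1, h2, -⟩ := π.exists_third a x x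
  exact ⟨z, h1, h2⟩

theorem exists_other_line (x : P) (a : L) : ∃ c, π.I x c ∧ c ≠ a := π.dual.exists_other x a

/-- A point off two given lines. -/
theorem exists_off_two (a b : L) : ∃ x, ¬ π.I x a ∧ ¬ π.I x b := by
  rcases eq_or_ne a b with rfl | hab
  · obtain ⟨x, hx⟩ := π.exists_off a; exact ⟨x, hx, hx⟩
  obtain ⟨p, hp, hpW⟩ := π.exists_other a (π.meet a b)
  obtain ⟨q, hq, hqW⟩ := π.exists_other b (π.meet a b)
  have hpb : ¬ π.I p b := fun h => hpW (π.meet_eq hab hp h).symm
  have hqa : ¬ π.I q a := fun h => hqW (π.meet_eq hab h hq).symm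
  obtain ⟨r, hr, hrp, hrq⟩ := π.exists_third (π.join p q) p q
  refine ⟨r, fun h => ?_, fun h => ?_⟩
  · exact hqa (π.eq_of_two_points hrp hr (π.join_left p q) h hp ▸ π.join_right p q)
  · exact hpb (π.eq_of_two_points hrq hr (π.join_right p q) h hq ▸ π.join_left p q)

theorem exists_line_off_two (x y : P) : ∃ a, ¬ π.I x a ∧ ¬ π.I y a := π.dual.exists_off_two x y

end Pl

/-- A group of collineations of a plane. -/
structure Act {P : Type u} {L : Type v} (π : Pl P L) (G : Type w) [Group G] where
  p : G →* Equiv.Perm P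
  l : G →* Equiv.Perm L
  inc : ∀ g x a, π.I (p g x) (l g a) ↔ π.I x a
  faith : ∀ g, p g = 1 → g = 1

namespace Act

variable {P : Type u} {L : Type v} {π : Pl P L} {G : Type w} [Group G] [Finite P] [Finite L]
variable (A : Act π G)

theorem p_mul (g h : G) (x : P) : A.p (g * h) x = A.p g (A.p h x) := by rw [map_mul]; rfl

theorem l_mul (g h : G) (a : L) : A.l (g * h) a = A.l g (A.l h a) := by rw [map_mul]; rfl

theorem p_inv_apply (g : G) (x : P) : A.p g⁻¹ (A.p g x) = x := by rw [← A.p_mul]; simp

theorem p_apply_inv (g : G) (x : P) : A.p g (A.p g⁻¹ x) = x := by rw [← A.p_mul]; simp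

theorem l_inv_apply (g : G) (a : L) : A.l g⁻¹ (A.l g a) = a := by rw [← A.l_mul]; simp

theorem l_apply_inv (g : G) (a : L) : A.l g (A.l g⁻¹ a) = a := by rw [← A.l_mul]; simp

theorem map_join (g : G) {x y : P} (h : x ≠ y) : A.l g (π.join x y) = π.join (A.p g x) (A.p g y) :=
  (π.join_eq (fun e => h ((A.p g).injective e)) ((A.inc g _ _).mpr (π.join_left x y))
    ((A.inc g _ _).mpr (π.join_right x y))).symm

theorem map_meet (g : G) {a b : L} (h : a ≠ b) : A.p g (π.meet a b) = π.meet (A.l g a) (A.l g b) :=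
  (π.meet_eq (fun e => h ((A.l g).injective e)) ((A.inc g _ _).mpr (π.meet_left a b))
    ((A.inc g _ _).mpr (π.meet_right a b))).symm

theorem fix_join {g : G} {x y : P} (h : x ≠ y) (hx : A.p g x = x) (hy : A.p g y = y) :
    A.l g (π.join x y) = π.join x y := by
  rw [A.map_join g h, hx, hy]

theorem fix_meet {g : G} {a b : L} (h : a ≠ b) (ha : A.l g a = a) (hb : A.l g b = b) :
    A.p g (π.meet a b) = π.meet a b := by
  rw [A.map_meet g h, ha, hb]

theorem l_eq_one {g : G} (h : A.p g = 1) : A.l g = 1 := by rw [A.faith g h, map_one]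

theorem faith' (g : G) (h : A.l g = 1) : g = 1 := by
  refine A.faith g (Equiv.ext fun x => ?_)
  obtain ⟨a, hxa, -⟩ := π.exists_other_line x (π.join x x)
  obtain ⟨b, hxb, hba⟩ := π.exists_other_line x a
  have := A.fix_meet (g := g) hba.symm (by rw [h]; rfl) (by rw [h]; rfl)
  rwa [π.meet_eq hba.symm hxa hxb] at this

/-- The same group on the dual plane. -/
def dual : Act π.dual G where
  p := A.l
  l := A.p
  inc g a x := A.inc g x a
  faith := A.faith'

@[simp] theorem dual_p (g : G) : A.dual.p g = A.l g := rfl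

@[simp] theorem dual_l (g : G) : A.dual.l g = A.p g := rfl

include A in
theorem finite : Finite G :=
  Finite.of_injective A.p ((injective_iff_map_eq_one _).mpr A.faith)

/-- The stabiliser of a point. -/
def stP (x : P) : Subgroup G where
  carrier := {g | A.p g x = x}
  mul_mem' {g h} hg hh := by
    simp only [Set.mem_ofPred_eq] at hg hh ⊢
    rw [A.p_mul, hh, hg]
  one_mem' := by simp
  inv_mem' {g} hg := by
    simp only [Set.mem_ofPred_eq] at hg ⊢
    conv_lhs => rw [← hg, A.p_inv_apply]

/-- The stabiliser of a line. -/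
def stL (a : L) : Subgroup G := A.dual.stP a

@[simp] theorem mem_stP {x : P} {g : G} : g ∈ A.stP x ↔ A.p g x = x := Iff.rfl

@[simp] theorem mem_stL {a : L} {g : G} : g ∈ A.stL a ↔ A.l g a = a := Iff.rfl

/-- The action of a subgroup on points. -/
@[instance_reducible] def actP (H : Subgroup G) : MulAction H P := MulAction.compHom P (A.p.comp H.subtype)

theorem fix_pencil_count (g : G) (x : P) :
    Nat.card {a // π.I x a ∧ π.I (A.p g x) a} = (by classical exact if A.p g x = x then π.n + 1 else 1) := by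
  classical
  split_ifs with h
  · rw [← π.card_pencil x]
    exact Nat.card_congr (Equiv.subtypeEquivRight fun a => by rw [h]; exact and_self_iff)
  · have : Nat.card {a // π.I x a ∧ π.I (A.p g x) a} = 1 := Nat.card_eq_one_iff_exists.mpr
      ⟨⟨π.join x (A.p g x), π.join_left _ _, π.join_right _ _⟩, fun a =>
        Subtype.ext (π.join_eq (Ne.symm h) a.2.1 a.2.2).symm⟩
    exact this

theorem incidence_sum (g : G) :
    Nat.card {q : P × L // π.I q.1 q.2 ∧ π.I (A.p g q.1) q.2} =
      Nat.card P + π.n * Nat.card {x // A.p g x = x} := by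
  classical
  haveI := Fintype.ofFinite P
  haveI := Fintype.ofFinite L
  rw [Nat.card_congr (Equiv.subtypeProdEquivSigmaSubtype fun x a => π.I x a ∧ π.I (A.p g x) a), Nat.card_sigma]
  simp only [A.fix_pencil_count g]
  rw [Nat.card_eq_fintype_card, Nat.card_eq_fintype_card, Fintype.card_subtype]
  have : ∀ x, (if A.p g x = x then π.n + 1 else 1) = 1 + π.n * (if A.p g x = x then 1 else 0) := fun x => by
    split_ifs <;> ring
  rw [Finset.sum_congr rfl fun x _ => this x, Finset.sum_add_distrib, ← Finset.mul_sum, Finset.sum_boole]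
  simp

/-- A collineation fixes as many lines as points. -/
theorem brauer (g : G) : Nat.card {x // A.p g x = x} = Nat.card {a // A.l g a = a} := by
  have h1 := A.incidence_sum g
  have h2 := A.dual.incidence_sum g⁻¹
  have e : Nat.card {q : L × P // π.dual.I q.1 q.2 ∧ π.dual.I (A.dual.p g⁻¹ q.1) q.2} =
      Nat.card {q : P × L // π.I q.1 q.2 ∧ π.I (A.p g q.1) q.2} := by
    refine Nat.card_congr ((Equiv.prodComm L P).subtypeEquiv fun q => ?_)
    simp only [Pl.dual_I, dual_p, Equiv.prodComm_apply, Prod.fst_swap, Prod.snd_swap]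
    rw [← A.inc g q.2 (A.l g⁻¹ q.1), A.l_apply_inv]
  have e' : Nat.card {a // A.dual.p g⁻¹ a = a} = Nat.card {a // A.l g a = a} := by
    refine Nat.card_congr (Equiv.subtypeEquivRight fun a => ?_)
    rw [dual_p]
    constructor <;> intro h
    · conv_lhs => rw [← h, A.l_apply_inv]
    · conv_lhs => rw [← h, A.l_inv_apply]
  rw [e, e', π.dual_n, π.card_L, ← π.card_P] at h2
  have := π.one_lt_n
  nlinarith

/-- The orbit relation of a subgroup on the points. -/
def orbP (H : Subgroup G) : Setoid P := @MulAction.orbitRel H P _ (A.actP H)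

theorem orbP_r {H : Subgroup G} {x y : P} : (A.orbP H).r x y ↔ ∃ h ∈ H, A.p h y = x := by
  letI := A.actP H
  change x ∈ MulAction.orbit H y ↔ _
  simp only [MulAction.mem_orbit_iff, Subtype.exists]
  exact ⟨fun ⟨h, hh, e⟩ => ⟨h, hh, e⟩, fun ⟨h, hh, e⟩ => ⟨h, hh, e⟩⟩

/-- A subgroup has as many orbits on points as on lines. -/
theorem card_orbits (H : Subgroup G) :
    Nat.card (Quotient (A.orbP H)) = Nat.card (Quotient (A.dual.orbP H)) := by
  classical
  haveI := A.finite
  haveI := Fintype.ofFinite H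
  haveI := Fintype.ofFinite P
  haveI := Fintype.ofFinite L
  letI := A.actP H
  letI := A.dual.actP H
  haveI := Fintype.ofFinite (MulAction.orbitRel.Quotient H P)
  haveI := Fintype.ofFinite (MulAction.orbitRel.Quotient H L)
  have h1 := MulAction.sum_card_fixedBy_eq_card_orbits_mul_card_group H P
  have h2 := MulAction.sum_card_fixedBy_eq_card_orbits_mul_card_group H L
  have h3 : ∀ h : H, Fintype.card (MulAction.fixedBy P h) = Fintype.card (MulAction.fixedBy L h) := fun h => by
    rw [← Nat.card_eq_fintype_card, ← Nat.card_eq_fintype_card]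
    exact A.brauer (h : G)
  rw [Finset.sum_congr rfl fun h _ => h3 h, h2] at h1
  change Nat.card (MulAction.orbitRel.Quotient H P) = Nat.card (MulAction.orbitRel.Quotient H L)
  rw [Nat.card_eq_fintype_card, Nat.card_eq_fintype_card]
  exact (Nat.eq_of_mul_eq_mul_right Fintype.card_pos h1).symm

end Act

end CfsgLib.TTP
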