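import Cfsg.Agent.Lib.TwoTransPlane.Recog
import Cfsg.Agent.Lib.SLShort.Shrink
import Mathlib.FieldTheory.Finite.GaloisField

/-!
Recognition of `PSL₃(q)` as a simple group doubly transitive on `q² + q + 1` points with a block of `q + 1` points
whose translates meet pairwise in at most one point.
-/

set_option autoImplicit false

namespace CfsgLib.TTP

open scoped Pointwise

universe u v w

/-- A simple group doubly transitive on `q² + q + 1` points, with a set of `q + 1` points determined under translation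
by any two of its points, is `PSL₃(q)`. -/
theorem psl3_of_block {G : Type w} [Group G] [IsSimpleGroup G] {Ω : Type u} [MulAction G Ω] [Finite Ω]
    {F : Type v} [Field F] [Fintype F] (hΩ : Nat.card Ω = Fintype.card F ^ 2 + Fintype.card F + 1)
    (h2 : ∀ a b c d : Ω, a ≠ b → c ≠ d → ∃ g : G, g • a = c ∧ g • b = d) (ℓ : Set Ω)
    (hℓ : ℓ.ncard = Fintype.card F + 1)
    (hint : ∀ g : G, ∀ x ∈ ℓ, ∀ y ∈ ℓ, x ≠ y → g • x ∈ ℓ → g • y ∈ ℓ → g • ℓ = ℓ) :
    Nonempty (G ≃* Matrix.ProjectiveSpecialLinearGroup (Fin 3) F) := by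
  classical
  have := Fintype.ofFinite Ω
  set q := Fintype.card F with hqdef
  have hq : 1 < q := Fintype.one_lt_card
  have hqq : 2 * q ≤ q ^ 2 := by nlinarith
  let L : Type u := {s : Set Ω // ∃ g : G, g • ℓ = s}
  let I : Ω → L → Prop := fun x a => x ∈ a.1
  have hline : ∀ a : L, a.1.ncard = q + 1 := by
    rintro ⟨_, g, rfl⟩
    rw [Set.ncard_smul_set, hℓ]
  have huniq : ∀ {x y : Ω} {a b : L}, I x a → I y a → I x b → I y b → x = y ∨ a = b := by
    rintro x y ⟨_, g, rfl⟩ ⟨_, h, rfl⟩ hxa hya hxb hyb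
    by_cases hxy : x = y
    · exact Or.inl hxy
    refine Or.inr (Subtype.ext ?_)
    simp only [I, Set.mem_smul_set_iff_inv_smul_mem] at hxa hya hxb hyb
    have h3 := hint (g⁻¹ * h) _ hxb _ hyb (fun e => hxy (MulAction.injective _ e))
      (by rwa [mul_smul, smul_inv_smul]) (by rwa [mul_smul, smul_inv_smul])
    rw [mul_smul] at h3
    calc g • ℓ = g • g⁻¹ • h • ℓ := by rw [h3]
      _ = h • ℓ := smul_inv_smul g _
  have hjoin : ∀ x y : Ω, ∃ a : L, I x a ∧ I y a := by
    obtain ⟨u, hu, u', hu', hne⟩ := (Set.one_lt_ncard (hs := Set.toFinite ℓ)).mp (by omega : 1 < ℓ.ncard)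
    have hpair : ∀ x y : Ω, x ≠ y → ∃ a : L, I x a ∧ I y a := fun x y hxy => by
      obtain ⟨g, rfl, rfl⟩ := h2 u u' x y hne hxy
      exact ⟨⟨_, g, rfl⟩, Set.smul_mem_smul_set hu, Set.smul_mem_smul_set hu'⟩
    intro x y
    by_cases hxy : x = y
    · subst hxy
      obtain ⟨z, hz⟩ : ∃ z, x ≠ z := by
        by_cases e : x = u
        · exact ⟨u', e ▸ hne⟩
        · exact ⟨u, e⟩
      obtain ⟨a, ha, -⟩ := hpair x z hz
      exact ⟨a, ha, ha⟩
    · exact hpair x y hxy
  choose join hj1 hj2 using hjoin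
  have hjeq : ∀ {x y : Ω} {a : L}, x ≠ y → I x a → I y a → join x y = a := fun hxy hx hy =>
    (huniq (hj1 _ _) (hj2 _ _) hx hy).resolve_left hxy
  have hpencil : ∀ x, (Finset.univ.filter fun a : L => I x a).card = q + 1 := by
    intro x
    have h := Finset.card_eq_sum_card_fiberwise (s := Finset.univ.erase x) (f := join x)
      (t := Finset.univ.filter fun a : L => I x a) fun y _ => by simp [hj1]
    rw [Finset.sum_congr rfl (g := fun _ => q) (fun a ha => by
      have hxa : I x a := (Finset.mem_filter.mp ha).2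
      have e : (Finset.univ.erase x).filter (fun y => join x y = a) = a.1.toFinset.erase x := by
        ext y
        simp only [Finset.mem_filter, Finset.mem_erase, Finset.mem_univ, and_true, Set.mem_toFinset]
        exact ⟨fun h => ⟨h.1, h.2 ▸ hj2 x y⟩, fun h => ⟨h.1, hjeq (Ne.symm h.1) hxa h.2⟩⟩
      rw [e, Finset.card_erase_of_mem (Set.mem_toFinset.mpr hxa), ← Set.ncard_eq_toFinset_card', hline]
      omega), Finset.sum_const, smul_eq_mul, Finset.card_erase_of_mem (Finset.mem_univ x), Finset.card_univ,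
      ← Nat.card_eq_fintype_card, hΩ, Nat.add_sub_cancel] at h
    exact (Nat.eq_of_mul_eq_mul_right (by omega) (show (q + 1) * q = _ * q by rw [← h]; ring)).symm
  have hmeet : ∀ a b : L, ∃ x, I x a ∧ I x b := by
    intro a b
    by_cases hab : a = b
    · obtain ⟨x, hx⟩ := (Set.ncard_pos (Set.toFinite b.1)).mp (by rw [hline]; omega)
      exact ⟨x, hab ▸ hx, hx⟩
    obtain ⟨x, hxb, hxa⟩ : ∃ x, I x b ∧ ¬ I x a := by
      by_contra! hsub
      exact hab (Subtype.ext (Set.eq_of_subset_of_ncard_le hsub (by rw [hline, hline])).symm)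
    have hcard : (a.1.toFinset.image (join x)).card = q + 1 := by
      rw [Finset.card_image_of_injOn, ← Set.ncard_eq_toFinset_card', hline]
      intro y hy z hz e
      by_contra hne
      have h1 := (huniq (hj2 x y) (e ▸ hj2 x z) (Set.mem_toFinset.mp hy) (Set.mem_toFinset.mp hz)).resolve_left hne
      exact hxa (h1 ▸ hj1 x y)
    have hsub : a.1.toFinset.image (join x) ⊆ Finset.univ.filter fun c : L => I x c := fun c hc => by
      obtain ⟨y, -, rfl⟩ := Finset.mem_image.mp hc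
      simp [hj1]
    have hb : b ∈ a.1.toFinset.image (join x) := by
      rw [Finset.eq_of_subset_of_card_le hsub (by rw [hcard, hpencil x])]
      simp [hxb]
    obtain ⟨y, hy, rfl⟩ := Finset.mem_image.mp hb
    exact ⟨y, Set.mem_toFinset.mp hy, hj2 x y⟩
  choose meet hm1 hm2 using hmeet
  have hconfig : ∃ (x₁ x₂ x₃ : Ω) (a₁ a₂ a₃ : L),
      ¬ I x₁ a₂ ∧ ¬ I x₁ a₃ ∧ ¬ I x₂ a₁ ∧ I x₂ a₂ ∧ I x₂ a₃ ∧ ¬ I x₃ a₁ ∧ I x₃ a₂ ∧ ¬ I x₃ a₃ := by
    obtain ⟨x₂, x₃, h23⟩ := Fintype.exists_pair_of_one_lt_card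
      (α := Ω) (by rw [← Nat.card_eq_fintype_card, hΩ]; omega)
    have hout : ∀ a b : L, ∃ z, ¬ I z a ∧ ¬ I z b := fun a b => by
      by_contra! hall
      have : (Set.univ : Set Ω) ⊆ a.1 ∪ b.1 := fun z _ => (em (I z a)).elim Or.inl fun h => Or.inr (hall z h)
      have h := (Set.ncard_le_ncard this).trans (Set.ncard_union_le _ _)
      rw [Set.ncard_univ, hΩ, hline, hline] at h
      nlinarith
    obtain ⟨z, hz, -⟩ := hout (join x₂ x₃) (join x₂ x₃)
    have hzx : x₂ ≠ z := fun e => hz (e ▸ hj1 _ _)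
    have h3 : ¬ I x₃ (join x₂ z) := fun h => hz ((hjeq h23 (hj1 _ _) h).symm ▸ hj2 x₂ z)
    obtain ⟨x₁, hx₁, hx₁'⟩ := hout (join x₂ x₃) (join x₂ z)
    obtain ⟨a₁, ha₁, hne⟩ : ∃ a₁ ∈ (Finset.univ.filter fun c : L => I x₁ c),
        a₁ ∉ ({join x₁ x₂, join x₁ x₃} : Finset L) :=
      Finset.exists_mem_notMem_of_card_lt_card (by
        rw [hpencil]; exact lt_of_le_of_lt Finset.card_le_two (by omega))
    simp only [Finset.mem_filter, Finset.mem_univ, true_and] at ha₁
    simp only [Finset.mem_insert, Finset.mem_singleton, not_or] at hne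
    have h12 : x₁ ≠ x₂ := fun e => hx₁ (e ▸ hj1 _ _)
    have h13 : x₁ ≠ x₃ := fun e => hx₁ (e ▸ hj2 _ _)
    exact ⟨x₁, x₂, x₃, a₁, join x₂ x₃, join x₂ z, hx₁, hx₁', fun h => hne.1 (hjeq h12 ha₁ h).symm, hj1 _ _, hj1 _ _,
      fun h => hne.2 (hjeq h13 ha₁ h).symm, hj2 _ _, h3⟩
  let π : Pl Ω L := ⟨I, join, meet, hj1, hj2, hm1, hm2, huniq, hconfig⟩
  letI : MulAction G L :=
    { smul := fun g a => ⟨g • a.1, by obtain ⟨h, e⟩ := a.2; exact ⟨g * h, by rw [mul_smul, e]⟩⟩
      one_smul := fun a => Subtype.ext (one_smul G a.1)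
      mul_smul := fun g h a => Subtype.ext (mul_smul g h a.1) }
  have hfaith : ∀ g : G, MulAction.toPermHom G Ω g = 1 → g = 1 := by
    intro g hg
    by_contra hg1
    rcases (MulAction.toPermHom G Ω).normal_ker.eq_bot_or_eq_top with h | h
    · exact hg1 (by simpa [h] using (MonoidHom.mem_ker.mpr hg))
    · obtain ⟨x₂, x₃, h23⟩ := Fintype.exists_pair_of_one_lt_card
        (α := Ω) (by rw [← Nat.card_eq_fintype_card, hΩ]; omega)
      obtain ⟨k, hk, -⟩ := h2 x₂ x₃ x₃ x₂ h23 h23.symm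
      have hk1 : k ∈ (MulAction.toPermHom G Ω).ker := h.symm ▸ Subgroup.mem_top k
      have h1 : k • x₂ = x₂ := Equiv.congr_fun ((MulAction.toPermHom G Ω).mem_ker.mp hk1) x₂
      exact h23 (h1.symm.trans hk)
  let A : Act π G := ⟨MulAction.toPermHom G Ω, MulAction.toPermHom G L,
    fun g x a => Set.smul_mem_smul_set_iff, hfaith⟩
  obtain ⟨K, _, _, hK, ⟨e⟩⟩ := psl3_of_two A (fun a b c d hab hcd => h2 a b c d hab hcd)
  have hn : π.n = q := by
    have h := π.card_P
    rw [hΩ] at h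
    nlinarith
  obtain ⟨K', _, _, hK', ⟨e'⟩⟩ := CfsgLib.SLShort.exists_small_field F
  exact ⟨e.trans (CfsgLib.SLShort.pslCongr 3
    ((FiniteField.ringEquivOfCardEq (K := K) (K' := K') (by rw [hK, hn, hqdef, hK'])).trans e'))⟩

end CfsgLib.TTP
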