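import Cfsg.Agent.Lib.TwoTransPlane.Persp
import Cfsg.Agent.Lib.JordanDivision

set_option autoImplicit false
set_option linter.unusedSectionVars false

/-!
A plane with all elations is coordinatised by a field.
-/

namespace CfsgLib.TTP

open CfsgLib.JordanDiv

universe u v w

/-- All elations are present. -/
def Act.Full {P : Type u} {L : Type v} {π : Pl P L} {G : Type w} [Group G] (A : Act π G) [Finite P] [Finite L] :
    Prop :=
  ∀ a, Nat.card (A.El a) = π.n ^ 2 ∧ ∀ c, π.I c a → Nat.card (A.PC c a) = π.n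

/-- A frame for coordinates. -/
structure Frame {P : Type u} {L : Type v} (π : Pl P L) {G : Type w} [Group G] (A : Act π G) [Finite P]
    [Finite L] where
  full : A.Full
  ℓ : L
  O : P
  X : P
  Y : P
  Z : P
  hO : ¬ π.I O ℓ
  hX : π.I X ℓ
  hY : π.I Y ℓ
  hZ : π.I Z ℓ
  hXY : X ≠ Y
  hZX : Z ≠ X
  hZY : Z ≠ Y

namespace Frame

variable {P : Type u} {L : Type v} {π : Pl P L} {G : Type w} [Group G] [Finite P] [Finite L]
variable {A : Act π G} (F : Frame π A)

theorem nontriv {c : P} {a : L} (h : π.I c a) (hF : A.Full) : ∃ g ∈ A.PC c a, g ≠ 1 := by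
  haveI := A.finite
  by_contra! hc
  have h1 := (hF a).2 c h
  rw [(Subgroup.eq_bot_iff_forall _).mpr hc, Subgroup.card_bot] at h1
  exact π.one_lt_n.ne h1

include F in
theorem comm {s t : G} (hs : s ∈ A.El F.ℓ) (ht : t ∈ A.El F.ℓ) : s * t = t * s := by
  obtain ⟨g, hg, hg1⟩ := nontriv F.hX F.full
  obtain ⟨h, hh, hh1⟩ := nontriv F.hY F.full
  exact A.El_comm F.hXY F.hX F.hY hg hg1 hh hh1 hs ht

theorem mem_El {c : P} (hc : π.I c F.ℓ) {s : G} (hs : s ∈ A.PC c F.ℓ) : s ∈ A.El F.ℓ := A.PC_le_El hc hs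

theorem eq_one_of_two {c d : P} (hne : c ≠ d) {s : G} (h1 : s ∈ A.PC c F.ℓ) (h2 : s ∈ A.PC d F.ℓ) : s = 1 :=
  A.two_centres h1.2 h2.2 hne

instance commGroup : CommGroup ↥(A.PC F.X F.ℓ) where
  mul_comm a b := Subtype.ext (F.comm (F.mem_El F.hX a.2) (F.mem_El F.hX b.2))

/-- The group of translations towards `X`, written additively. -/
abbrev U : Type w := Additive ↥(A.PC F.X F.ℓ)

/-- The translation of an element of `U`. -/
def tx (a : F.U) : G := ((Additive.toMul a : ↥(A.PC F.X F.ℓ)) : G)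

theorem tx_mem (a : F.U) : F.tx a ∈ A.PC F.X F.ℓ := (Additive.toMul a).2

theorem tx_add (a b : F.U) : F.tx (a + b) = F.tx a * F.tx b := rfl

theorem tx_zero : F.tx 0 = 1 := rfl

theorem tx_inj : Function.Injective F.tx := fun _ _ h => Additive.toMul.injective (Subtype.ext h)

theorem exists_tx {s : G} (hs : s ∈ A.PC F.X F.ℓ) : ∃ a, F.tx a = s := ⟨Additive.ofMul ⟨s, hs⟩, rfl⟩

include F in
theorem card_U : Nat.card F.U = π.n := ((F.full F.ℓ).2 F.X F.hX : Nat.card ↥(A.PC F.X F.ℓ) = π.n)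

include F in
theorem El_trans {x y : P} (hx : ¬ π.I x F.ℓ) (hy : ¬ π.I y F.ℓ) : ∃ t ∈ A.El F.ℓ, A.p t x = y := by
  haveI := A.finite
  have hmem : ∀ t ∈ A.El F.ℓ, ¬ π.I (A.p t x) F.ℓ := fun t ht e => hx <| by
    rwa [← (show A.l t F.ℓ = F.ℓ from A.axial_le_stL _ ht.1), A.inc] at e
  have hbij := (Nat.bijective_iff_injective_and_card
    (fun t : A.El F.ℓ => (⟨A.p (t : G) x, hmem t t.2⟩ : {z // ¬ π.I z F.ℓ}))).mpr ⟨fun s t e => by
      have e' : A.p ((t : G)⁻¹ * s) x = x := by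
        rw [A.p_mul, show A.p (s : G) x = A.p (t : G) x from congrArg Subtype.val e, A.p_inv_apply]
      exact Subtype.ext (inv_mul_eq_one.mp (A.El_fix (mul_mem (inv_mem t.2) s.2) hx e')).symm, by
      rw [(F.full F.ℓ).1, π.card_off]⟩
  obtain ⟨⟨t, ht⟩, e⟩ := hbij.2 ⟨y, hy⟩
  exact ⟨t, ht, congrArg Subtype.val e⟩

include F in
theorem PC_trans {c : P} {a b : L} (hca : π.I c a) (hcb : π.I c b) (hba : b ≠ a) {x y : P} (hx : π.I x b)
    (hxc : x ≠ c) (hy : π.I y b) (hyc : y ≠ c) : ∃ g ∈ A.PC c a, A.p g x = y := by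
  haveI := A.finite
  have hmem : ∀ g ∈ A.PC c a, π.I (A.p g x) b ∧ A.p g x ≠ c := fun g hg => by
    refine ⟨?_, fun e => hxc ((A.p g).injective (e.trans (A.central_le_stP c hg.2).symm))⟩
    have := (A.inc g x b).mpr hx
    rwa [A.mem_central.mp hg.2 b hcb] at this
  have hbij := (Nat.bijective_iff_injective_and_card
    (fun g : A.PC c a => (⟨A.p (g : G) x, hmem g g.2⟩ : {z // π.I z b ∧ z ≠ c}))).mpr ⟨fun s t e => by
      have e' : A.p ((t : G)⁻¹ * s) x = x := by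
        rw [A.p_mul, show A.p (s : G) x = A.p (t : G) x from congrArg Subtype.val e, A.p_inv_apply]
      by_contra hne
      have h1 : (t : G)⁻¹ * s ≠ 1 := fun e'' => hne (Subtype.ext (inv_mul_eq_one.mp e'').symm)
      rcases A.fixed_point (mul_mem (inv_mem t.2) s.2) h1 e' with h | h
      · exact hxc h
      · exact hxc (π.eq_of_two_lines hba hx hcb h hca), by
      rw [(F.full a).2 c hca, π.card_line_erase hcb]⟩
  obtain ⟨⟨g, hg⟩, e⟩ := hbij.2 ⟨y, hy, hyc⟩
  exact ⟨g, hg, congrArg Subtype.val e⟩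

theorem split_unique {a b : F.U} {w w' : G} (hw : w ∈ A.PC F.Y F.ℓ) (hw' : w' ∈ A.PC F.Y F.ℓ)
    (h : F.tx a * w = F.tx b * w') : a = b ∧ w = w' := by
  have h1 : (F.tx b)⁻¹ * F.tx a = w' * w⁻¹ := by
    rw [eq_mul_inv_iff_mul_eq, mul_assoc, h, inv_mul_cancel_left]
  have h2 : (F.tx b)⁻¹ * F.tx a = 1 :=
    F.eq_one_of_two F.hXY (mul_mem (inv_mem (F.tx_mem b)) (F.tx_mem a)) (h1 ▸ mul_mem hw' (inv_mem hw))
  have h3 : a = b := F.tx_inj (inv_mul_eq_one.mp h2).symm
  exact ⟨h3, by rw [h3] at h; exact mul_left_cancel h⟩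

theorem exists_split {s : G} (hs : s ∈ A.El F.ℓ) : ∃ a, ∃ w ∈ A.PC F.Y F.ℓ, s = F.tx a * w := by
  haveI := A.finite
  let m : F.U × A.PC F.Y F.ℓ → A.El F.ℓ := fun q =>
    ⟨F.tx q.1 * q.2, mul_mem (F.mem_El F.hX (F.tx_mem _)) (F.mem_El F.hY q.2.2)⟩
  have hinj : Function.Injective m := fun q r e => by
    obtain ⟨h1, h2⟩ := F.split_unique q.2.2 r.2.2 (congrArg Subtype.val e)
    exact Prod.ext h1 (Subtype.ext h2)
  have hbij := (Nat.bijective_iff_injective_and_card m).mpr ⟨hinj, by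
    rw [Nat.card_prod, F.card_U, (F.full F.ℓ).2 F.Y F.hY, (F.full F.ℓ).1, pow_two]⟩
  obtain ⟨⟨a, w⟩, e⟩ := hbij.2 ⟨s, hs⟩
  exact ⟨a, w, w.2, (congrArg Subtype.val e).symm⟩

theorem exists_graph {S : P} (hS : π.I S F.ℓ) (hSY : S ≠ F.Y) (a : F.U) :
    ∃! w : A.PC F.Y F.ℓ, F.tx a * (w : G) ∈ A.PC S F.ℓ := by
  haveI := A.finite
  have hsp := fun s : A.PC S F.ℓ => F.exists_split (F.mem_El hS s.2)
  choose g w hw hs using hsp
  have hinj : Function.Injective g := fun s t e => by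
    have h1 : (s : G)⁻¹ * t = (w s)⁻¹ * w t := by rw [hs s, hs t, e]; group
    have h2 := F.eq_one_of_two hSY (mul_mem (inv_mem s.2) t.2) (h1 ▸ mul_mem (inv_mem (hw s)) (hw t))
    exact Subtype.ext (inv_mul_eq_one.mp h2)
  have hbij := (Nat.bijective_iff_injective_and_card g).mpr ⟨hinj, by rw [F.card_U, (F.full F.ℓ).2 S hS]⟩
  obtain ⟨s, rfl⟩ := hbij.2 a
  refine ⟨⟨w s, hw s⟩, show F.tx (g s) * w s ∈ _ by rw [← hs s]; exact s.2, fun v hv => ?_⟩
  have e : s = ⟨_, hv⟩ := hinj (by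
    exact (F.split_unique (hw _) v.2 (hs ⟨_, hv⟩).symm).1.symm)
  exact Subtype.ext (F.split_unique v.2 (hw s) (by rw [← hs s]; exact (congrArg Subtype.val e).symm)).2

theorem exists_iota : ∃ ι : F.U → G, (∀ a, ι a ∈ A.PC F.Y F.ℓ) ∧ (∀ a, F.tx a * ι a ∈ A.PC F.Z F.ℓ) ∧
    (∀ a b, ι (a + b) = ι a * ι b) ∧ ∀ w ∈ A.PC F.Y F.ℓ, ∃ a, ι a = w := by
  haveI := A.finite
  choose ι hι hu using fun a => F.exists_graph F.hZ F.hZY a
  refine ⟨fun a => (ι a : G), fun a => (ι a).2, hι, fun a b => ?_, fun w hw => ?_⟩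
  · refine (congrArg Subtype.val (hu (a + b) ⟨(ι a : G) * ι b, mul_mem (ι a).2 (ι b).2⟩ ?_)).symm
    have : F.tx (a + b) * ((ι a : G) * ι b) = (F.tx a * ι a) * (F.tx b * ι b) := by
      rw [F.tx_add, mul_assoc, mul_assoc, ← mul_assoc (F.tx b), F.comm (F.mem_El F.hX (F.tx_mem b))
        (F.mem_El F.hY (ι a).2), mul_assoc]
    change F.tx (a + b) * ((ι a : G) * ι b) ∈ _
    rw [this]
    exact mul_mem (hι a) (hι b)
  · have hinj : Function.Injective ι := fun a b e => by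
      have h1 : (F.tx a * ι a) * (F.tx b * ι b)⁻¹ = F.tx a * (F.tx b)⁻¹ := by rw [e]; group
      have h2 := F.eq_one_of_two F.hZX (mul_mem (hι a) (inv_mem (hι b)))
        (h1.symm ▸ mul_mem (F.tx_mem a) (inv_mem (F.tx_mem b)))
      rw [h1] at h2
      exact F.tx_inj (mul_inv_eq_one.mp h2)
    have hbij := (Nat.bijective_iff_injective_and_card ι).mpr ⟨hinj, by rw [F.card_U, (F.full F.ℓ).2 F.Y F.hY]⟩
    obtain ⟨a, ha⟩ := hbij.2 ⟨w, hw⟩
    exact ⟨a, congrArg Subtype.val ha⟩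

/-- The translation towards `Y` matching one towards `X`. -/
noncomputable def ι : F.U → G := F.exists_iota.choose

theorem ι_mem (a : F.U) : F.ι a ∈ A.PC F.Y F.ℓ := F.exists_iota.choose_spec.1 a

theorem ι_Z (a : F.U) : F.tx a * F.ι a ∈ A.PC F.Z F.ℓ := F.exists_iota.choose_spec.2.1 a

theorem ι_add (a b : F.U) : F.ι (a + b) = F.ι a * F.ι b := F.exists_iota.choose_spec.2.2.1 a b

theorem ι_surj {w : G} (hw : w ∈ A.PC F.Y F.ℓ) : ∃ a, F.ι a = w := F.exists_iota.choose_spec.2.2.2 w hw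

theorem ι_zero : F.ι 0 = 1 := by
  have := F.ι_add 0 0
  rwa [add_zero, left_eq_mul] at this

theorem ι_inj : Function.Injective F.ι := by
  intro a b e
  have h1 : F.ι (a - b) = 1 := by
    have := F.ι_add (a - b) b
    rw [sub_add_cancel, e, right_eq_mul] at this
    exact this
  have h2 : F.tx (a - b) ∈ A.PC F.Z F.ℓ := by have := F.ι_Z (a - b); rwa [h1, mul_one] at this
  have h3 := F.eq_one_of_two F.hZX.symm (F.tx_mem _) h2
  exact sub_eq_zero.mp (F.tx_inj (h3.trans F.tx_zero.symm))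

/-- The endomorphism describing the translations towards a point. -/
def Slope (S : P) (x : AddMonoid.End F.U) : Prop := ∀ a, F.tx a * F.ι (x a) ∈ A.PC S F.ℓ

theorem exists_slope {S : P} (hS : π.I S F.ℓ) (hSY : S ≠ F.Y) : ∃ x, F.Slope S x := by
  choose w hw hu using fun a => F.exists_graph hS hSY a
  choose f hf using fun a => F.ι_surj (w a).2
  refine ⟨AddMonoidHom.mk' f fun a b => F.ι_inj ?_, fun a => by
    change F.tx a * F.ι (f a) ∈ _
    rw [hf]; exact hw a⟩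
  rw [F.ι_add, hf, hf, hf]
  refine (congrArg Subtype.val (hu (a + b) ⟨(w a : G) * w b, mul_mem (w a).2 (w b).2⟩ ?_)).symm
  have : F.tx (a + b) * ((w a : G) * w b) = (F.tx a * w a) * (F.tx b * w b) := by
    rw [F.tx_add, mul_assoc, mul_assoc, ← mul_assoc (F.tx b), F.comm (F.mem_El F.hX (F.tx_mem b))
      (F.mem_El F.hY (w a).2), mul_assoc]
  change F.tx (a + b) * ((w a : G) * w b) ∈ _
  rw [this]
  exact mul_mem (hw a) (hw b)

theorem slope_unique {S : P} (hS : π.I S F.ℓ) (hSY : S ≠ F.Y) {x y : AddMonoid.End F.U} (hx : F.Slope S x)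
    (hy : F.Slope S y) : x = y := by
  refine AddMonoidHom.ext fun a => F.ι_inj ?_
  exact congrArg Subtype.val ((F.exists_graph hS hSY a).unique (y₁ := ⟨_, F.ι_mem (x a)⟩) (y₂ := ⟨_, F.ι_mem (y a)⟩)
    (hx a) (hy a))

include F in
theorem nontrivial_U : Nontrivial F.U := by
  haveI := A.finite
  rw [← Finite.one_lt_card_iff_nontrivial, F.card_U]
  exact π.one_lt_n

theorem slope_point_unique {S S' : P} {x : AddMonoid.End F.U} (h : F.Slope S x) (h' : F.Slope S' x) : S = S' := by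
  haveI := F.nontrivial_U
  obtain ⟨a, ha⟩ := exists_ne (0 : F.U)
  by_contra hne
  refine ha (F.split_unique (F.ι_mem (x a)) (one_mem _) (b := 0) ?_).1
  rw [F.eq_one_of_two hne (h a) (h' a), F.tx_zero, mul_one]

theorem slope_zero : F.Slope F.X 0 := fun a => by
  change F.tx a * F.ι 0 ∈ _
  rw [F.ι_zero, mul_one]; exact F.tx_mem a

theorem slope_one : F.Slope F.Z 1 := fun a => F.ι_Z a

/-- The shear with centre `Y`. -/
theorem shear_Y {S : P} (hS : π.I S F.ℓ) (hSY : S ≠ F.Y) {x : AddMonoid.End F.U} (hx : F.Slope S x) {R : P}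
    (hR : π.I R F.ℓ) (hRY : R ≠ F.Y) {y : AddMonoid.End F.U} (hy : F.Slope R y) :
    ∃ Q, π.I Q F.ℓ ∧ Q ≠ F.Y ∧ F.Slope Q (x + y) := by
  haveI := A.finite
  have hOY : F.O ≠ F.Y := fun e => F.hO (e ▸ F.hY)
  set b := π.join F.O F.Y
  have hOb : π.I F.O b := π.join_left _ _
  have hYb : π.I F.Y b := π.join_right _ _
  have hbl : F.ℓ ≠ b := fun e => F.hO (e ▸ hOb)
  obtain ⟨g, hg, hgX⟩ := F.PC_trans hYb F.hY hbl F.hX F.hXY hS hSY
  have hgl : A.l g F.ℓ = F.ℓ := A.mem_central.mp hg.2 _ F.hY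
  have hgO : A.p g F.O = F.O := A.mem_axial.mp hg.1 _ hOb
  have hgY : A.p g F.Y = F.Y := A.central_le_stP _ hg.2
  have hgi : A.p g⁻¹ F.O = F.O := by conv_lhs => rw [← hgO, A.p_inv_apply]
  have hconj : ∀ {c s}, s ∈ A.PC c F.ℓ → g * s * g⁻¹ ∈ A.PC (A.p g c) F.ℓ := fun hs => by
    have := A.PC_conj (g := g) hs
    rwa [hgl] at this
  -- translations towards `Y` commute with the shear
  have hw : ∀ w ∈ A.PC F.Y F.ℓ, g * w * g⁻¹ = w := by
    intro w hw
    have h1 : π.I (A.p w F.O) b := by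
      have := (A.inc w F.O b).mpr hOb
      rwa [A.mem_central.mp hw.2 b hYb] at this
    have h2 : g * w * g⁻¹ ∈ A.PC F.Y F.ℓ := hgY ▸ hconj hw
    have h3 : A.p (w⁻¹ * (g * w * g⁻¹)) F.O = F.O := by
      rw [A.p_mul, A.p_mul, A.p_mul, hgi, A.mem_axial.mp hg.1 _ h1, A.p_inv_apply]
    exact (inv_mul_eq_one.mp (A.El_fix (mul_mem (inv_mem (F.mem_El F.hY hw)) (F.mem_El F.hY h2)) F.hO h3)).symm
  have hu : ∀ a, g * F.tx a * g⁻¹ = F.tx a * F.ι (x a) := by
    intro a
    have h1 : g * F.tx a * g⁻¹ ∈ A.PC S F.ℓ := hgX ▸ hconj (F.tx_mem a)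
    obtain ⟨a', w', hw', e⟩ := F.exists_split (F.mem_El hS h1)
    set c := π.join F.O F.X
    have hXc : π.I F.X c := π.join_right _ _
    have hcl : c ≠ F.ℓ := fun e => F.hO (e ▸ π.join_left _ _)
    have hon : ∀ a, π.I (A.p (F.tx a) F.O) c := fun a => by
      have := (A.inc (F.tx a) F.O c).mpr (π.join_left _ _)
      rwa [A.mem_central.mp (F.tx_mem a).2 c hXc] at this
    set z := A.p (F.tx a) F.O
    set z' := A.p (F.tx a') F.O
    have hzl : ¬ π.I z F.ℓ := by
      rw [← (show A.l (F.tx a) F.ℓ = F.ℓ from A.axial_le_stL _ (F.tx_mem a).1)]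
      exact fun e => F.hO ((A.inc _ _ _).mp e)
    have hz'Y : z' ≠ F.Y := fun e' => F.hO <| by
      have := F.hY
      rw [← e', ← (show A.l (F.tx a') F.ℓ = F.ℓ from A.axial_le_stL _ (F.tx_mem a').1)] at this
      exact (A.inc _ _ _).mp this
    have hzY : z ≠ F.Y := fun e => hzl (e ▸ F.hY)
    -- the image point lies on both lines through `Y`
    have hgz1 : π.I (A.p g z) (π.join z F.Y) := by
      have := (A.inc g z (π.join z F.Y)).mpr (π.join_left _ _)
      rwa [A.mem_central.mp hg.2 _ (π.join_right _ _)] at this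
    have hgz2 : π.I (A.p g z) (π.join z' F.Y) := by
      have e1 : A.p g z = A.p (F.tx a') (A.p w' F.O) := by
        have h5 := congrArg (fun k => A.p k F.O) e
        simp only [A.p_mul, hgi] at h5
        exact h5
      rw [e1]
      have h2 : π.I (A.p w' F.O) b := by
        have := (A.inc w' F.O b).mpr hOb
        rwa [A.mem_central.mp hw'.2 b hYb] at this
      have h3 : A.l (F.tx a') b = π.join z' F.Y := by
        rw [A.map_join (F.tx a') hOY, A.mem_axial.mp (F.tx_mem a').1 _ F.hY]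
      rw [← h3]
      exact (A.inc _ _ _).mpr h2
    have hgzY : A.p g z ≠ F.Y := fun e => hzY ((A.p g).injective (e.trans hgY.symm))
    have hj : π.join z F.Y = π.join z' F.Y :=
      π.eq_of_two_points hgzY hgz1 (π.join_right _ _) hgz2 (π.join_right _ _)
    have hjc : π.join z F.Y ≠ c := fun e =>
      hcl (π.eq_of_two_points F.hXY hXc (e ▸ π.join_right _ _) F.hX F.hY)
    have hzz : z = z' := π.eq_of_two_lines hjc (π.join_left _ _) (hj ▸ π.join_left _ _) (hon a) (hon a')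
    have haa : a = a' := F.tx_inj (inv_mul_eq_one.mp (A.El_fix
      (mul_mem (inv_mem (F.mem_El F.hX (F.tx_mem a))) (F.mem_El F.hX (F.tx_mem a'))) F.hO
      (show A.p ((F.tx a)⁻¹ * F.tx a') F.O = F.O by
        rw [A.p_mul, ← show z = A.p (F.tx a') F.O from hzz]; exact A.p_inv_apply _ _)))
    subst haa
    rw [e]
    congr 1
    exact congrArg Subtype.val ((F.exists_graph hS hSY a).unique (y₁ := ⟨w', hw'⟩) (y₂ := ⟨_, F.ι_mem (x a)⟩)
      (show F.tx a * w' ∈ _ from e ▸ h1) (hx a))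
  refine ⟨A.p g R, ?_, fun e => hRY ((A.p g).injective (e.trans hgY.symm)), fun a => ?_⟩
  · rw [← hgl, A.inc]; exact hR
  have h1 := hconj (hy a)
  rwa [show g * (F.tx a * F.ι (y a)) * g⁻¹ = (g * F.tx a * g⁻¹) * (g * F.ι (y a) * g⁻¹) by group, hu a,
    hw _ (F.ι_mem _), mul_assoc, ← F.ι_add] at h1

/-- The slopes. -/
def slopes : AddSubgroup (AddMonoid.End F.U) where
  carrier := {x | ∃ S, π.I S F.ℓ ∧ S ≠ F.Y ∧ F.Slope S x}
  zero_mem' := ⟨F.X, F.hX, F.hXY, F.slope_zero⟩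
  add_mem' := fun {x y} ⟨_, h1, h2, h3⟩ ⟨_, h4, h5, h6⟩ => F.shear_Y h1 h2 h3 h4 h5 h6
  neg_mem' {x} hx := by
    haveI := A.finite
    haveI : Finite (AddMonoid.End F.U) :=
      Finite.of_injective (fun f : AddMonoid.End F.U => (f : F.U → F.U)) DFunLike.coe_injective
    let M : AddSubmonoid (AddMonoid.End F.U) :=
      { carrier := {x | ∃ S, π.I S F.ℓ ∧ S ≠ F.Y ∧ F.Slope S x}
        zero_mem' := ⟨F.X, F.hX, F.hXY, F.slope_zero⟩
        add_mem' := fun {x y} ⟨_, h1, h2, h3⟩ ⟨_, h4, h5, h6⟩ => F.shear_Y h1 h2 h3 h4 h5 h6 }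
    have h0 := addOrderOf_pos x
    have e : -x = (addOrderOf x - 1) • x := neg_eq_of_add_eq_zero_left (by
      rw [← succ_nsmul, Nat.sub_add_cancel h0, addOrderOf_nsmul_eq_zero])
    rw [e]
    exact M.nsmul_mem hx _

theorem slopes_inj {x : AddMonoid.End F.U} (hx : x ∈ F.slopes) (h0 : x ≠ 0) {a : F.U} (ha : x a = 0) : a = 0 := by
  obtain ⟨S, hS, hSY, hSx⟩ := hx
  have hSX : S ≠ F.X := fun e => h0 (F.slope_unique hS hSY hSx (e ▸ F.slope_zero))
  have h := hSx a
  rw [ha, F.ι_zero, mul_one] at h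
  exact F.tx_inj ((F.eq_one_of_two hSX h (F.tx_mem a)).trans F.tx_zero.symm)

theorem slopes_unit {x : AddMonoid.End F.U} (hx : x ∈ F.slopes) (h0 : x ≠ 0) : IsUnit x := by
  haveI := A.finite
  have hb : Function.Bijective x :=
    Finite.injective_iff_bijective.mp ((injective_iff_map_eq_zero x).mpr fun a => F.slopes_inj hx h0)
  let e := AddEquiv.ofBijective x hb
  exact ⟨⟨x, e.symm.toAddMonoidHom, AddMonoidHom.ext fun a => e.apply_symm_apply a,
    AddMonoidHom.ext fun a => e.symm_apply_apply a⟩, rfl⟩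

/-- The shear with centre `X`. -/
theorem shear_X {x : (AddMonoid.End F.U)ˣ} (hx : (x : AddMonoid.End F.U) ∈ F.slopes) {y : AddMonoid.End F.U}
    (hy : y ∈ F.slopes) (hne : (x : AddMonoid.End F.U) + y ≠ 0) :
    ∃ z ∈ F.slopes, z * (1 + ↑x⁻¹ * y) = y := by
  haveI := A.finite
  haveI := F.nontrivial_U
  obtain ⟨S, hS, hSY, hSx⟩ := hx
  obtain ⟨R, hR, hRY, hRy⟩ := hy
  have hSX : S ≠ F.X := fun e => by
    have h0 : (x : AddMonoid.End F.U) = 0 := F.slope_unique hS hSY hSx (e ▸ F.slope_zero)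
    obtain ⟨a, ha⟩ := exists_ne (0 : F.U)
    refine ha ?_
    have h1 := DFunLike.congr_fun x.inv_mul a
    rw [h0, mul_zero] at h1
    exact h1.symm
  have hOX : F.O ≠ F.X := fun e => F.hO (e ▸ F.hX)
  set b := π.join F.O F.X
  have hOb : π.I F.O b := π.join_left _ _
  have hXb : π.I F.X b := π.join_right _ _
  have hbl : F.ℓ ≠ b := fun e => F.hO (e ▸ hOb)
  obtain ⟨g, hg, hgY⟩ := F.PC_trans hXb F.hX hbl F.hY F.hXY.symm hS hSX
  have hgl : A.l g F.ℓ = F.ℓ := A.mem_central.mp hg.2 _ F.hX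
  have hgO : A.p g F.O = F.O := A.mem_axial.mp hg.1 _ hOb
  have hgX : A.p g F.X = F.X := A.central_le_stP _ hg.2
  have hgi : A.p g⁻¹ F.O = F.O := by conv_lhs => rw [← hgO, A.p_inv_apply]
  have hconj : ∀ {c s}, s ∈ A.PC c F.ℓ → g * s * g⁻¹ ∈ A.PC (A.p g c) F.ℓ := fun hs => by
    have := A.PC_conj (g := g) hs
    rwa [hgl] at this
  have hu : ∀ a, g * F.tx a * g⁻¹ = F.tx a := by
    intro a
    have h1 : π.I (A.p (F.tx a) F.O) b := by
      have := (A.inc (F.tx a) F.O b).mpr hOb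
      rwa [A.mem_central.mp (F.tx_mem a).2 b hXb] at this
    have h2 : g * F.tx a * g⁻¹ ∈ A.PC F.X F.ℓ := hgX ▸ hconj (F.tx_mem a)
    have h3 : A.p ((F.tx a)⁻¹ * (g * F.tx a * g⁻¹)) F.O = F.O := by
      rw [A.p_mul, A.p_mul, A.p_mul, hgi, A.mem_axial.mp hg.1 _ h1, A.p_inv_apply]
    exact (inv_mul_eq_one.mp (A.El_fix (mul_mem (inv_mem (F.mem_El F.hX (F.tx_mem a))) (F.mem_El F.hX h2)) F.hO h3)).symm
  have hw : ∀ a, g * F.ι ((x : AddMonoid.End F.U) a) * g⁻¹ = F.tx a * F.ι ((x : AddMonoid.End F.U) a) := by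
    intro a
    set w := F.ι ((x : AddMonoid.End F.U) a)
    have hwm := F.ι_mem ((x : AddMonoid.End F.U) a)
    have h1 : g * w * g⁻¹ ∈ A.PC S F.ℓ := hgY ▸ hconj hwm
    obtain ⟨a', w', hw', e⟩ := F.exists_split (F.mem_El hS h1)
    set c := π.join F.O F.Y
    have hYc : π.I F.Y c := π.join_right _ _
    have hcl : c ≠ F.ℓ := fun e => F.hO (e ▸ π.join_left _ _)
    have hon : ∀ v ∈ A.PC F.Y F.ℓ, π.I (A.p v F.O) c := fun v hv => by
      have := (A.inc v F.O c).mpr (π.join_left _ _)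
      rwa [A.mem_central.mp hv.2 c hYc] at this
    set z := A.p w F.O
    set z' := A.p w' F.O
    have hzl : ¬ π.I z F.ℓ := by
      rw [← (show A.l w F.ℓ = F.ℓ from A.axial_le_stL _ hwm.1)]
      exact fun e => F.hO ((A.inc _ _ _).mp e)
    have hzX : z ≠ F.X := fun e => hzl (e ▸ F.hX)
    have hgz1 : π.I (A.p g z) (π.join z F.X) := by
      have := (A.inc g z (π.join z F.X)).mpr (π.join_left _ _)
      rwa [A.mem_central.mp hg.2 _ (π.join_right _ _)] at this
    have hgz2 : π.I (A.p g z) (π.join z' F.X) := by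
      have e1 : A.p g z = A.p (F.tx a') z' := by
        have h5 := congrArg (fun k => A.p k F.O) e
        simp only [A.p_mul, hgi] at h5
        exact h5
      rw [e1]
      have h3 : A.l (F.tx a') (π.join z' F.X) = π.join z' F.X :=
        A.mem_central.mp (F.tx_mem a').2 _ (π.join_right _ _)
      have h4 := (A.inc (F.tx a') z' (π.join z' F.X)).mpr (π.join_left _ _)
      rwa [h3] at h4
    have hgzX : A.p g z ≠ F.X := fun e => hzX ((A.p g).injective (e.trans hgX.symm))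
    have hj : π.join z F.X = π.join z' F.X :=
      π.eq_of_two_points hgzX hgz1 (π.join_right _ _) hgz2 (π.join_right _ _)
    have hjc : π.join z F.X ≠ c := fun e =>
      hcl (π.eq_of_two_points F.hXY (e ▸ π.join_right _ _) hYc F.hX F.hY)
    have hzz : z = z' := π.eq_of_two_lines hjc (π.join_left _ _) (hj ▸ π.join_left _ _) (hon w hwm) (hon w' hw')
    have hww : w = w' := inv_mul_eq_one.mp (A.El_fix
      (mul_mem (inv_mem (F.mem_El F.hY hwm)) (F.mem_El F.hY hw')) F.hO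
      (show A.p (w⁻¹ * w') F.O = F.O by
        rw [A.p_mul, ← show z = A.p w' F.O from hzz]; exact A.p_inv_apply _ _))
    rw [e, ← hww]
    congr 1
    refine congrArg F.tx ?_
    refine (Finite.injective_iff_bijective.mpr ⟨?_, ?_⟩ : Function.Injective ((x : AddMonoid.End F.U) : F.U → F.U)) ?_
    · intro p q hpq
      have hp := DFunLike.congr_fun x.inv_mul p
      have hq := DFunLike.congr_fun x.inv_mul q
      change (↑x⁻¹ : AddMonoid.End F.U) ((x : AddMonoid.End F.U) p) = p at hp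
      change (↑x⁻¹ : AddMonoid.End F.U) ((x : AddMonoid.End F.U) q) = q at hq
      rw [← hp, ← hq, hpq]
    · intro p
      exact ⟨(↑x⁻¹ : AddMonoid.End F.U) p, DFunLike.congr_fun x.mul_inv p⟩
    refine F.ι_inj ?_
    have := (F.exists_graph hS hSY a').unique (y₁ := ⟨w', hw'⟩) (y₂ := ⟨_, F.ι_mem ((x : AddMonoid.End F.U) a')⟩)
      (show F.tx a' * w' ∈ _ from e ▸ h1) (hSx a')
    exact (hww.trans (congrArg Subtype.val this)).symm
  have himg : ∀ a, F.tx (a + (↑x⁻¹ * y : AddMonoid.End F.U) a) * F.ι (y a) ∈ A.PC (A.p g R) F.ℓ := fun a => by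
    have h1 := hconj (hRy a)
    have hxy : (x : AddMonoid.End F.U) ((↑x⁻¹ * y : AddMonoid.End F.U) a) = y a :=
      DFunLike.congr_fun x.mul_inv (y a)
    rw [show g * (F.tx a * F.ι (y a)) * g⁻¹ = (g * F.tx a * g⁻¹) * (g * F.ι (y a) * g⁻¹) by group, hu a] at h1
    rw [← hxy, hw, ← mul_assoc, ← F.tx_add] at h1
    rwa [hxy] at h1
  have hgR : A.p g R ≠ F.Y := by
    intro e
    refine hne (AddMonoidHom.ext fun a => ?_)
    have h1 := himg a
    rw [e] at h1
    have h2 : F.tx (a + (↑x⁻¹ * y : AddMonoid.End F.U) a) ∈ A.PC F.Y F.ℓ := by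
      have := mul_mem h1 (inv_mem (F.ι_mem (y a)))
      rwa [mul_inv_cancel_right] at this
    have h3 := F.tx_inj ((F.eq_one_of_two F.hXY (F.tx_mem _) h2).trans F.tx_zero.symm)
    have h4 := congrArg (x : AddMonoid.End F.U) h3
    rw [map_add, map_zero] at h4
    rwa [show (x : AddMonoid.End F.U) ((↑x⁻¹ * y : AddMonoid.End F.U) a) = y a from
      DFunLike.congr_fun x.mul_inv (y a)] at h4
  have hgRl : π.I (A.p g R) F.ℓ := by rw [← hgl, A.inc]; exact hR
  obtain ⟨z, hz⟩ := F.exists_slope hgRl hgR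
  refine ⟨z, ⟨_, hgRl, hgR, hz⟩, AddMonoidHom.ext fun a => F.ι_inj ?_⟩
  have e := (F.exists_graph hgRl hgR (a + (↑x⁻¹ * y : AddMonoid.End F.U) a)).unique
    (y₁ := ⟨_, F.ι_mem (z (a + (↑x⁻¹ * y : AddMonoid.End F.U) a))⟩) (y₂ := ⟨_, F.ι_mem (y a)⟩) (hz _) (himg a)
  exact congrArg Subtype.val e

theorem slopes_jordan : Jordan F.slopes := by
  haveI := A.finite
  have key : ∀ x : (AddMonoid.End F.U)ˣ, (x : AddMonoid.End F.U) ∈ F.slopes →
      ∀ s : (AddMonoid.End F.U)ˣ, (s : AddMonoid.End F.U) ∈ F.slopes → (↑x * ↑s⁻¹ * ↑x : AddMonoid.End F.U) ∈ F.slopes := by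
    intro x hx s hs
    have hsne : (x : AddMonoid.End F.U) + ((s : AddMonoid.End F.U) - x) ≠ 0 := by
      haveI := F.nontrivial_U
      rw [add_sub_cancel]
      intro h
      obtain ⟨a, ha⟩ := exists_ne (0 : F.U)
      refine ha ?_
      have h1 := DFunLike.congr_fun s.inv_mul a
      rw [h, mul_zero] at h1
      exact h1.symm
    obtain ⟨z, hz, e⟩ := F.shear_X hx (F.slopes.sub_mem hs hx) hsne
    have e1 : z * (↑x⁻¹ * (s : AddMonoid.End F.U)) = (s : AddMonoid.End F.U) - x := by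
      rw [← e]
      simp [mul_sub]
    have e2 : (↑x * ↑s⁻¹ * ↑x : AddMonoid.End F.U) = (x : AddMonoid.End F.U) - z := by
      have e3 : z = ((s : AddMonoid.End F.U) - x) * (↑s⁻¹ * (x : AddMonoid.End F.U)) := by
        rw [← e1]
        simp [mul_assoc]
      rw [e3, sub_mul]
      simp [mul_assoc]
    rw [e2]
    exact F.slopes.sub_mem hx hz
  have h1 : (1 : AddMonoid.End F.U) ∈ F.slopes := ⟨F.Z, F.hZ, F.hZY, F.slope_one⟩
  refine ⟨h1, fun x hx y hy => ?_, fun x hx h0 a ha => F.slopes_inj hx h0 ha⟩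
  by_cases hx0 : x = 0
  · rw [hx0, zero_mul, zero_mul]; exact F.slopes.zero_mem
  by_cases hy0 : y = 0
  · rw [hy0, mul_zero, zero_mul]; exact F.slopes.zero_mem
  obtain ⟨xu, rfl⟩ := F.slopes_unit hx hx0
  obtain ⟨yu, rfl⟩ := F.slopes_unit hy hy0
  have hyi : ((yu⁻¹ : (AddMonoid.End F.U)ˣ) : AddMonoid.End F.U) ∈ F.slopes := by
    have := key 1 h1 yu hy
    simpa using this
  have := key xu hx yu⁻¹ hyi
  simpa using this

theorem card_slopes : Nat.card F.slopes = π.n := by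
  rw [← π.card_line_erase F.hY]
  refine (Nat.card_eq_of_bijective (fun S : {S // π.I S F.ℓ ∧ S ≠ F.Y} =>
    (⟨(F.exists_slope S.2.1 S.2.2).choose, S.1, S.2.1, S.2.2, (F.exists_slope S.2.1 S.2.2).choose_spec⟩ :
      F.slopes)) ⟨fun S T e => ?_, ?_⟩).symm
  · have e' : (F.exists_slope S.2.1 S.2.2).choose = (F.exists_slope T.2.1 T.2.2).choose := congrArg Subtype.val e
    exact Subtype.ext (F.slope_point_unique (F.exists_slope S.2.1 S.2.2).choose_spec
      (e' ▸ (F.exists_slope T.2.1 T.2.2).choose_spec))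
  · rintro ⟨x, S, hS, hSY, hx⟩
    exact ⟨⟨S, hS, hSY⟩, Subtype.ext (F.slope_unique hS hSY (F.exists_slope hS hSY).choose_spec hx)⟩

theorem slopes_mul {x y : AddMonoid.End F.U} (hx : x ∈ F.slopes) (hy : y ∈ F.slopes) : x * y ∈ F.slopes := by
  haveI := A.finite
  haveI := F.nontrivial_U
  have hJ := F.slopes_jordan
  have hcomm := comm_of_jordan hJ
  obtain ⟨p, hp, hp0⟩ := hJ.exists_prime
  rcases hp.eq_two_or_odd' with rfl | hodd
  · have h2 : ∀ a : AddMonoid.End F.U, a + a = 0 := fun a => by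
      rw [← two_mul, show (2 : AddMonoid.End F.U) = ((2 : ℕ) : AddMonoid.End F.U) from (Nat.cast_ofNat).symm,
        hp0, zero_mul]
    haveI : Finite (AddMonoid.End F.U) :=
      Finite.of_injective (fun f : AddMonoid.End F.U => (f : F.U → F.U)) DFunLike.coe_injective
    let sq : F.slopes → F.slopes := fun r => ⟨r.1 * r.1, by have := hJ.pow_mem r.2 2; rwa [pow_two] at this⟩
    have hsq : Function.Injective sq := by
      intro a b e
      have e' : a.1 * a.1 = b.1 * b.1 := congrArg Subtype.val e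
      have h0 : (a.1 - b.1) * (a.1 - b.1) = 0 := by
        rw [sub_mul, mul_sub, mul_sub, hcomm b.1 b.2 a.1 a.2, ← e']
        rw [show a.1 * a.1 - a.1 * b.1 - (a.1 * b.1 - a.1 * a.1) =
          (a.1 * a.1 + a.1 * a.1) - (a.1 * b.1 + a.1 * b.1) by abel, h2, h2, sub_zero]
      by_contra hne
      have hd : a.1 - b.1 ≠ 0 := fun h => hne (Subtype.ext (sub_eq_zero.mp h))
      obtain ⟨d, hd'⟩ := F.slopes_unit (F.slopes.sub_mem a.2 b.2) hd
      rw [← hd'] at h0 hd
      refine hd ?_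
      calc (d : AddMonoid.End F.U) = ↑d⁻¹ * (↑d * ↑d) := by rw [← mul_assoc, Units.inv_mul, one_mul]
        _ = 0 := by rw [h0, mul_zero]
    obtain ⟨⟨r, hr⟩, e⟩ := (Finite.injective_iff_surjective.mp hsq) ⟨y, hy⟩
    rw [show y = r * r from (congrArg Subtype.val e).symm, ← mul_assoc, hcomm x hx r hr]
    exact hJ.tri r hr x hx
  · have h := hJ.symm_mul hx hy
    rw [← hcomm x hx y hy, ← two_nsmul] at h
    obtain ⟨c, hc⟩ := hodd
    have := F.slopes.nsmul_mem h (c + 1)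
    rwa [← mul_nsmul', show (c + 1) * 2 = p + 1 by omega, succ_nsmul, nsmul_eq_mul, hp0, zero_mul, zero_add] at this

end Frame

/-- A type without instances, to carry the transported field. -/
structure Tag (k : ℕ) : Type where
  val : Fin k

theorem Frame.exists_field {P : Type u} {L : Type v} {π : Pl P L} {G : Type w} [Group G] [Finite P] [Finite L]
    {A : Act π G} (F : Frame π A) :
    ∃ (K : Type) (_ : Field K) (_ : Fintype K) (κ : K →+* AddMonoid.End F.U),
      Function.Injective κ ∧ ∀ x, x ∈ F.slopes ↔ ∃ k, κ k = x := by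
  haveI := A.finite
  haveI := F.nontrivial_U
  have hJ := F.slopes_jordan
  let S : Subring (AddMonoid.End F.U) :=
    { carrier := F.slopes
      one_mem' := hJ.one
      mul_mem' := fun hx hy => F.slopes_mul hx hy
      zero_mem' := F.slopes.zero_mem
      add_mem' := fun hx hy => F.slopes.add_mem hx hy
      neg_mem' := fun hx => F.slopes.neg_mem hx }
  haveI : Finite (AddMonoid.End F.U) :=
    Finite.of_injective (fun f : AddMonoid.End F.U => (f : F.U → F.U)) DFunLike.coe_injective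
  letI : CommRing S :=
    { (inferInstance : Ring S) with mul_comm := fun a b => Subtype.ext (comm_of_jordan hJ a.1 a.2 b.1 b.2) }
  haveI : Nontrivial S := ⟨⟨0, 1, fun e => by
    obtain ⟨a, ha⟩ := exists_ne (0 : F.U)
    exact ha (DFunLike.congr_fun (congrArg Subtype.val e) a).symm⟩⟩
  haveI : NoZeroDivisors S := ⟨fun {a b} h => by
    by_contra! hc
    refine hc.2 (Subtype.ext ?_)
    refine AddMonoidHom.ext fun v => F.slopes_inj a.2 (fun e => hc.1 (Subtype.ext e)) ?_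
    exact DFunLike.congr_fun (congrArg Subtype.val h) v⟩
  haveI : IsDomain S := NoZeroDivisors.to_isDomain _
  letI := Fintype.ofFinite S
  letI : Field S := (Finite.isField_of_domain S).toField
  let e : Tag (Fintype.card S) ≃ S :=
    ⟨fun t => (Fintype.equivFin S).symm t.val, fun s => ⟨Fintype.equivFin S s⟩, fun t => by simp, fun s => by simp⟩
  letI : Field (Tag (Fintype.card S)) := e.field
  letI : Fintype (Tag (Fintype.card S)) := Fintype.ofEquiv _ e.symm
  refine ⟨_, inferInstance, inferInstance, S.subtype.comp e.ringEquiv.toRingHom,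
    Subtype.val_injective.comp e.injective, fun x => ⟨fun hx => ⟨e.symm ⟨x, hx⟩, ?_⟩, ?_⟩⟩
  · exact congrArg Subtype.val (e.apply_symm_apply ⟨x, hx⟩)
  · rintro ⟨k, rfl⟩; exact (e k).2

end CfsgLib.TTP
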