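import Cfsg.Agent.Lib.TwoTransPlane.GeomOdd

set_option autoImplicit false
set_option linter.unusedSectionVars false

/-!
Odd order with every point a centre and every line an axis of an involutory homology, and the
conclusion: the order is a prime power.
-/

namespace CfsgLib.TTP

universe u v w

namespace Act

variable {P : Type u} {L : Type v} {π : Pl P L} {G : Type w} [Group G] [Finite P] [Finite L]
variable (A : Act π G)

/-- A point without elation axes together with its homology axis. -/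
def Pol (x : P) (s : L) : Prop := A.T0 x ∧ A.IHo x s

theorem unique_axis {x : P} {s t : L} (hn : Odd π.n) (h : A.T0 x) (hs : A.IHo x s) (ht : A.IHo x t) : s = t := by
  by_contra hne
  exact h _ (A.dual_EF.mp (A.dual.two_hom (A.dual_IHo.mpr hs) (A.dual_IHo.mpr ht) hne (by rw [π.dual_n]; exact hn)))

variable {A}

/-- Perspectivities whose axis passes through such a point have their centres on its polar. -/
theorem Pol.centre {x : P} {s : L} (h : A.Pol x s) (hn : Odd π.n) {z : P} {b : L}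
    (hz : A.EF z b ∨ A.IHo z b) (hx : π.I x b) : π.I z s := by
  obtain ⟨g, hg, hg1⟩ : ∃ g, g ∈ A.PC z b ∧ g ≠ 1 := by
    rcases hz with ⟨-, g, hg, hg1⟩ | ⟨-, g, hg, -, hg1⟩ <;> exact ⟨g, hg, hg1⟩
  have hgx : A.p g x = x := A.mem_axial.mp hg.1 x hx
  have hgs : A.l g s = s := A.unique_axis hn h.1 (hgx ▸ h.2.map g) h.2
  rcases A.fixed_line hg hg1 hgs with e | e
  · exact absurd (e ▸ hx) h.2.1
  · exact e

theorem Pol.axis {C : P} {l : L} (h : A.dual.Pol l C) (hn : Odd π.n) {z : P} {b : L}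
    (hz : A.EF z b ∨ A.IHo z b) (hl : π.I z l) : π.I C b :=
  Pol.centre (A := A.dual) h (by rw [π.dual_n]; exact hn) (hz.imp A.dual_EF.mpr A.dual_IHo.mpr) hl

/-- An axis with two elation centres carries no point without elation axes. -/
theorem no_T0_on (hn : Odd π.n) (hP : ∀ x, ∃ a, A.IHo x a) {a : L} (ha : A.dual.T2 a) {x : P} (hx : π.I x a) :
    ¬ A.T0 x := by
  intro h0
  obtain ⟨s, hs⟩ := hP x
  obtain ⟨c, d, hcd, hc, hd⟩ := ha
  have hc' := A.dual_EF.mp hc
  have hd' := A.dual_EF.mp hd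
  have e : s = a := π.eq_of_two_points hcd (Pol.centre ⟨h0, hs⟩ hn (Or.inl hc') hx)
    (Pol.centre ⟨h0, hs⟩ hn (Or.inl hd') hx) hc'.1 hd'.1
  exact hs.1 (e ▸ hx)

theorem T0_of_T1 {a : L} {c x : P} (h : A.dual.T1 a c) (hx : π.I x a) (hxc : x ≠ c) : A.T0 x :=
  fun _ hb => hxc (h.axis (A.dual_EF.mpr hb) hx)

/-- A point without elation axes whose polar has one elation centre. -/
theorem Pol.prime_pow_of_T1 {x : P} {p : L} {D : P} (h : A.Pol x p) (hn : Odd π.n)
    (hP : ∀ x, ∃ a, A.IHo x a) (hD : A.dual.T1 p D) : IsPrimePow π.n := by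
  haveI := A.finite
  have hnlt := π.one_lt_n
  obtain ⟨hDp, g, hg, hg1⟩ := A.dual_EF.mp hD.1
  obtain ⟨hZ, hZne⟩ := h.2.elation_ne (A.PC_le_El hDp hg) hg1
  set Z := A.p g x
  set c := π.join x D
  have hxD : x ≠ D := fun e => h.2.1 (e ▸ hDp)
  have hZc : π.I Z c := by
    have := (A.inc g x c).mpr (π.join_left x D)
    rwa [A.mem_central.mp hg.2 c (π.join_right x D)] at this
  have hcp : c ≠ p := fun e => h.2.1 (e ▸ π.join_left x D)
  have hY : ∀ y, π.I y p → y ≠ D → A.IHo y c := by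
    intro y hy hyD
    obtain ⟨s, hs⟩ := hP y
    have hy0 := A.T0_of_T1 hD hy hyD
    have e : s = c := π.eq_of_two_points hZne (Pol.centre ⟨hy0, hs⟩ hn (Or.inr hZ) hy)
      (Pol.centre ⟨hy0, hs⟩ hn (Or.inr h.2) hy) hZc (π.join_left x D)
    exact e ▸ hs
  obtain ⟨y₀, hy₀, hy₀D⟩ := π.exists_other p D
  have h1 : π.n ≤ Nat.card (A.El c) := by
    rw [← A.card_centres (hY y₀ hy₀ hy₀D) hn, ← π.card_line_erase hDp]
    exact Nat.card_le_card_of_injective (fun y => (⟨y.1, hY y.1 y.2.1 y.2.2⟩ : {z // A.IHo z c}))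
      fun y y' e => Subtype.ext (congrArg (fun z : {z // A.IHo z c} => z.1) e)
  have hz : ∀ z, A.EF z c → z = D := fun z hz =>
    π.eq_of_two_lines hcp hz.1 (π.join_right x D) (h.centre hn (Or.inl hz) (π.join_left x D)) hDp
  have hEl : A.El c = A.PC D c := le_antisymm (fun k hk => by
    by_cases hk1 : k = 1
    · rw [hk1]; exact one_mem _
    obtain ⟨z, hz', hkz⟩ := A.EF_of_El hk hk1
    exact hz z hz' ▸ hkz) (A.PC_le_El (π.join_right x D))
  obtain ⟨k, hk, hk1⟩ : ∃ k ∈ A.El c, k ≠ 1 := by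
    by_contra! hc
    rw [(Subgroup.eq_bot_iff_forall _).mpr hc, Subgroup.card_bot] at h1
    omega
  rw [hEl] at h1 hk
  obtain ⟨q, hq, hq'⟩ := A.dual.elem_of_two hD.1 (A.dual_EF.mpr ⟨π.join_right x D, k, hk, hk1⟩) hcp.symm
  have he : Nat.card (A.PC D c) = π.n :=
    le_antisymm (Nat.le_of_dvd (by omega) (A.card_PC_dvd (π.join_right x D))) h1
  refine A.pow_dvd_elem hq (H := A.dual.El D) hq' hnlt ?_
  rw [← he, ← A.dual_PC]
  exact Subgroup.card_dvd_of_le (A.dual.PC_le_El (c := c) (π.join_right x D))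

/-- A point without elation axes whose polar has two elation centres. -/
theorem Pol.prime_pow_of_T2 {x : P} {p : L} (h : A.Pol x p) (hn : Odd π.n)
    (hP : ∀ x, ∃ a, A.IHo x a) (hL : ∀ a, ∃ x, A.IHo x a) (hp : A.dual.T2 p)
    (hno : ∀ y s D, A.Pol y s → ¬ A.dual.T1 s D) : IsPrimePow π.n := by
  haveI := A.finite
  have hnlt := π.one_lt_n
  obtain ⟨z₁, z₂, hz12, hz₁', hz₂'⟩ := id hp
  have hz₁ := A.dual_EF.mp hz₁'
  have hz₂ := A.dual_EF.mp hz₂'
  obtain ⟨q, hq, hq'⟩ := A.elem_of_two hz₁ hz₂ hz12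
  have hp0 : ∀ y, π.I y p → ¬ A.T0 y := fun y hy => A.no_T0_on hn hP hp hy
  have hx0 := h.1
  by_cases hall : ∀ y, ¬ π.I y p → A.IHo y p
  · have e : Nat.card (A.El p) = π.n ^ 2 := by
      rw [← A.card_centres h.2 hn, ← π.card_off p]
      exact Nat.card_congr (Equiv.subtypeEquivRight fun y => ⟨fun hy => hy.1, hall y⟩)
    exact A.pow_dvd_elem hq hq' hnlt (e ▸ dvd_pow_self _ (by norm_num))
  push Not at hall
  obtain ⟨Y, hYp, hY⟩ := hall
  have hxY : x ≠ Y := fun e => hY (e ▸ h.2)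
  set l := π.join x Y
  have hxl : π.I x l := π.join_left x Y
  have hlp : l ≠ p := fun e => h.2.1 (e ▸ hxl)
  set W := π.meet l p
  have hWl : π.I W l := π.meet_left l p
  have hWp : π.I W p := π.meet_right l p
  have hnot2 : ∀ a, π.I x a → ¬ A.dual.T2 a := fun a ha h2 => A.no_T0_on hn hP h2 ha hx0
  -- `l` is no elation axis
  have hl0 : A.dual.T0 l := by
    rcases A.dual.type_cases l with h0 | ⟨c, h1⟩ | h2
    · exact h0
    · exfalso
      have hc := A.dual_EF.mp h1.1
      have hcW : c = W := π.eq_of_two_lines hlp hc.1 hWl (h.centre hn (Or.inl hc) hxl) hWp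
      subst hcW
      have hYW : Y ≠ W := fun e => hYp (e ▸ hWp)
      have hY0 := A.T0_of_T1 h1 (π.join_right x Y) hYW
      obtain ⟨s, hs⟩ := hP Y
      obtain ⟨u, hu⟩ := hL l
      obtain ⟨-, g, hg, hg1⟩ := hc
      obtain ⟨hu', hune⟩ := hu.elation_ne (A.PC_le_El hWl hg) hg1
      have e : s = p := π.eq_of_two_points hune
        (Pol.centre ⟨hY0, hs⟩ hn (Or.inr hu') (π.join_right x Y))
        (Pol.centre ⟨hY0, hs⟩ hn (Or.inr hu) (π.join_right x Y))
        (h.centre hn (Or.inr hu') hxl) (h.centre hn (Or.inr hu) hxl)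
      exact hY (e ▸ hs)
    · exact absurd h2 (hnot2 l hxl)
  obtain ⟨C, hC⟩ := hL l
  have hpolC : A.dual.Pol l C := ⟨hl0, A.dual_IHo.mpr hC⟩
  have hCp : π.I C p := h.centre hn (Or.inr hC) hxl
  have hC0 : ¬ A.T0 C := hp0 C hCp
  -- a further point of `l` with an elation axis
  obtain ⟨Z, hZl, hZp, hZ0⟩ : ∃ Z, π.I Z l ∧ ¬ π.I Z p ∧ ¬ A.T0 Z := by
    by_cases hY0 : A.T0 Y
    swap
    · exact ⟨Y, π.join_right x Y, hYp, hY0⟩
    obtain ⟨s, hs⟩ := hP Y
    have hpolY : A.Pol Y s := ⟨hY0, hs⟩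
    have hCs : π.I C s := hpolY.centre hn (Or.inr hC) (π.join_right x Y)
    have hs2 : A.dual.T2 s := by
      rcases A.dual.type_cases s with h0 | ⟨c, h1⟩ | h2
      · exfalso
        have hpolS : A.dual.Pol s Y := ⟨h0, A.dual_IHo.mpr hs⟩
        simp only [T0, not_forall, not_not] at hC0
        obtain ⟨b, hb⟩ := hC0
        have hCY : C ≠ Y := fun e => hYp (e ▸ hCp)
        have huniq : ∀ d, A.EF C d → d = π.join C Y := fun d hd =>
          (π.join_eq hCY hd.1 (hpolS.axis hn (Or.inl hd) hCs)).symm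
        obtain ⟨z, hz, hzC⟩ : ∃ z, A.EF z p ∧ z ≠ C := by
          rcases eq_or_ne z₁ C with e | e
          · exact ⟨z₂, hz₂, fun e' => hz12 (e.trans e'.symm)⟩
          · exact ⟨z₁, hz₁, e⟩
        obtain ⟨hzp, g, hg, hg1⟩ := hz
        have hbg := hb.map g
        rw [A.mem_axial.mp hg.1 C hCp] at hbg
        have hfix : A.l g (π.join C Y) = π.join C Y := by rw [← huniq b hb, huniq _ hbg, huniq b hb]
        have hjp : π.join C Y ≠ p := fun e => hYp (e ▸ π.join_right C Y)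
        rcases A.fixed_line hg hg1 hfix with e | e
        · exact hjp e
        · exact hzC (π.eq_of_two_lines hjp e (π.join_left C Y) hzp hCp)
      · exact absurd h1 (hno Y s c hpolY)
      · exact h2
    have hsl : s ≠ l := fun e => hs.1 (e ▸ π.join_right x Y)
    refine ⟨π.meet l s, π.meet_left l s, fun e => hY ?_, A.no_T0_on hn hP hs2 (π.meet_right l s)⟩
    have hne : C ≠ π.meet l s := fun e' => hC.1 (e' ▸ π.meet_left l s)
    exact (π.eq_of_two_points hne hCs (π.meet_right l s) hCp e) ▸ hs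
  simp only [T0, not_forall, not_not] at hZ0
  obtain ⟨b, hb⟩ := hZ0
  have hZC : Z ≠ C := fun e => hZp (e ▸ hCp)
  set k := π.join Z C
  have hkp : k ≠ p := fun e => hZp (e ▸ π.join_left Z C)
  have hbk : b = k := (π.join_eq hZC hb.1 (hpolC.axis hn (Or.inl hb) hZl)).symm
  have hEFk : A.EF Z k := hbk ▸ hb
  simp only [T0, not_forall, not_not] at hC0
  obtain ⟨bC, hbC⟩ := hC0
  have hk2 : A.dual.T2 k := by
    rcases A.dual.type_cases k with h0 | ⟨c, h1⟩ | h2
    · exact absurd (A.dual_EF.mpr hEFk) (h0 Z)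
    · exfalso
      have e1 : Z = c := h1.2 Z (A.dual_EF.mpr hEFk)
      exact hZC (e1.trans (h1.axis (A.dual_EF.mpr hbC) (π.join_right Z C)).symm)
    · exact h2
  have hC2 : A.T2 C := by
    rcases A.type_cases C with h0 | ⟨d, h1⟩ | h2
    · exact absurd hbC (h0 bC)
    · exact absurd ((h1.axis hEFk (π.join_right Z C)).trans (h1.axis hz₁ hCp).symm) hkp
    · exact h2
  obtain ⟨c₁, c₂, hc12, hc₁, hc₂⟩ := id hC2
  have hxC : x ≠ C := fun e => h.2.1 (e ▸ hCp)
  set d := π.join x C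
  have hd1 : A.dual.T1 d C := by
    rcases A.dual.type_cases d with h0 | ⟨c, h1⟩ | h2
    · exfalso
      obtain ⟨C', hC'⟩ := hL d
      have hpolD : A.dual.Pol d C' := ⟨h0, A.dual_IHo.mpr hC'⟩
      have e1 := hpolD.axis hn (Or.inl hc₁) (π.join_right x C)
      have e2 := hpolD.axis hn (Or.inl hc₂) (π.join_right x C)
      exact hC'.1 ((π.eq_of_two_lines hc12 e1 hc₁.1 e2 hc₂.1) ▸ π.join_right x C)
    · have hc := A.dual_EF.mp h1.1
      have hdp : d ≠ p := fun e => h.2.1 (e ▸ π.join_left x C)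
      have : c = C := π.eq_of_two_lines hdp hc.1 (π.join_right x C) (h.centre hn (Or.inl hc) (π.join_left x C)) hCp
      exact this ▸ h1
    · exact absurd h2 (hnot2 d (π.join_left x C))
  have hcent : ∀ l', ¬ π.I C l' → A.IHo C l' := by
    intro l' hl'
    have hkl : k ≠ l' := fun e => hl' (e ▸ π.join_right Z C)
    have hpl : p ≠ l' := fun e => hl' (e ▸ hCp)
    have hdl : d ≠ l' := fun e => hl' (e ▸ π.join_right x C)
    set V := π.meet d l'
    set Z₁ := π.meet k l'
    set Z₂ := π.meet p l'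
    have hV0 : A.T0 V := A.T0_of_T1 hd1 (π.meet_left d l') fun e => hl' (e ▸ π.meet_right d l')
    have hZ₁ : ¬ A.T0 Z₁ := A.no_T0_on hn hP hk2 (π.meet_left k l')
    have hZ₂ : ¬ A.T0 Z₂ := hp0 _ (π.meet_left p l')
    have h12 : Z₁ ≠ Z₂ := fun e => hl' ((π.eq_of_two_lines hkp (π.join_right Z C) (π.meet_left k l') hCp
      (e ▸ π.meet_left p l') : C = Z₁) ▸ π.meet_right k l')
    have hl0' : A.dual.T0 l' := by
      rcases A.dual.type_cases l' with h0 | ⟨c, h1⟩ | h2
      · exact h0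
      · exfalso
        rcases eq_or_ne Z₁ c with e | e
        · exact hZ₂ (A.T0_of_T1 h1 (π.meet_right p l') fun e' => h12 (e.trans e'.symm))
        · exact hZ₁ (A.T0_of_T1 h1 (π.meet_right k l') e)
      · exact absurd hV0 (A.no_T0_on hn hP h2 (π.meet_right d l'))
    obtain ⟨C', hC'⟩ := hL l'
    have hpol : A.dual.Pol l' C' := ⟨hl0', A.dual_IHo.mpr hC'⟩
    have hon : ∀ a, A.dual.T2 a → ∀ z, π.I z a → π.I z l' → ¬ A.T0 z → π.I C' a := by
      intro a ha z hza hzl hz0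
      rcases A.type_cases z with h0 | ⟨e, h1⟩ | ⟨e, f, hef, he, hf⟩
      · exact absurd h0 hz0
      · obtain ⟨w, -, -, hw, -⟩ := ha
        rw [h1.axis (A.dual_EF.mp hw) hza]
        exact hpol.axis hn (Or.inl h1.1) hzl
      · exfalso
        have : C' = z := π.eq_of_two_lines hef (hpol.axis hn (Or.inl he) hzl) he.1
          (hpol.axis hn (Or.inl hf) hzl) hf.1
        exact hC'.1 (this ▸ hzl)
    have e : C' = C := π.eq_of_two_lines hkp (hon k hk2 Z₁ (π.meet_left k l') (π.meet_right k l') hZ₁)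
      (π.join_right Z C) (hon p hp Z₂ (π.meet_left p l') (π.meet_right p l') hZ₂) hCp
    exact e ▸ hC'
  obtain ⟨l₀, hl₀⟩ := π.exists_line_off C
  have e : Nat.card (A.dual.El C) = π.n ^ 2 := by
    rw [← A.dual.card_centres (A.dual_IHo.mpr (hcent l₀ hl₀)) (by rw [π.dual_n]; exact hn), ← π.dual_n,
      ← π.dual.card_off C]
    exact Nat.card_congr (Equiv.subtypeEquivRight fun a =>
      ⟨fun ha => ha.1, fun ha => A.dual_IHo.mpr (hcent a ha)⟩)
  obtain ⟨q', hq₁, hq₂⟩ := A.dual.elem_of_two (A.dual_EF.mpr hc₁) (A.dual_EF.mpr hc₂) hc12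
  exact A.pow_dvd_elem hq₁ hq₂ hnlt (e ▸ dvd_pow_self _ (by norm_num))

/-- Polars of points without elation axes being of the same kind, there is no line with one centre. -/
theorem not_T1_line (hn : Odd π.n) (hP : ∀ x, ∃ a, A.IHo x a) (hL : ∀ a, ∃ x, A.IHo x a)
    (hpol : ∀ x s, A.Pol x s → A.dual.T0 s) (b : L) (c : P) : ¬ A.dual.T1 b c := by
  intro h1
  have hc := A.dual_EF.mp h1.1
  obtain ⟨x, hx, hxc⟩ := π.exists_other b c
  obtain ⟨y, hy, hyc, hyx⟩ := π.exists_third b c x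
  obtain ⟨p, hp⟩ := hP x
  obtain ⟨s, hs⟩ := hP y
  have hpx : A.Pol x p := ⟨A.T0_of_T1 h1 hx hxc, hp⟩
  have hpy : A.Pol y s := ⟨A.T0_of_T1 h1 hy hyc, hs⟩
  obtain ⟨u, hu⟩ := hL b
  have hne : c ≠ u := fun e => hu.1 (e ▸ hc.1)
  have e : s = p := π.eq_of_two_points hne (hpy.centre hn (Or.inl hc) hy) (hpy.centre hn (Or.inr hu) hy)
    (hpx.centre hn (Or.inl hc) hx) (hpx.centre hn (Or.inr hu) hx)
  exact hpol x p hpx _ (A.dual_EF.mpr (A.two_hom (e ▸ hs) hp hyx hn))

/-- There is no polarity without absolute points. -/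
theorem no_polarity (hn : Odd π.n) (σ : P → L) (hbij : Function.Bijective σ) (habs : ∀ x, ¬ π.I x (σ x))
    (hsym : ∀ x y, π.I x (σ y) → π.I y (σ x)) : False := by
  classical
  haveI := Fintype.ofFinite P
  obtain ⟨q, hq, hqn⟩ := Nat.exists_prime_and_dvd (Nat.ne_of_gt π.one_lt_n)
  haveI : Fact q.Prime := ⟨hq⟩
  set M : Matrix P P (ZMod q) := Matrix.of fun x y => if π.I x (σ y) then 1 else 0
  set J : Matrix P P (ZMod q) := Matrix.of fun _ _ => 1
  have hn0 : (π.n : ZMod q) = 0 := (ZMod.natCast_eq_zero_iff _ _).mpr hqn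
  have hrow : ∀ x, (Finset.univ.filter fun y => π.I x (σ y)).card = π.n + 1 := by
    intro x
    rw [← π.card_pencil x, ← Fintype.card_subtype, ← Nat.card_eq_fintype_card]
    exact Nat.card_congr ((Equiv.ofBijective σ hbij).subtypeEquiv fun y => Iff.rfl)
  have hMM : M * M = J := by
    ext x z
    simp only [Matrix.mul_apply, M, J, Matrix.of_apply, mul_ite, mul_one, mul_zero]
    rw [Finset.sum_congr rfl fun y _ => show
      (if π.I y (σ z) then if π.I x (σ y) then (1 : ZMod q) else 0 else 0) =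
        if π.I z (σ y) ∧ π.I x (σ y) then 1 else 0 by
      by_cases h1 : π.I y (σ z)
      · simp [h1, hsym y z h1]
      · rw [if_neg h1, if_neg]; exact fun h => h1 (hsym z y h.1)]
    rw [Finset.sum_boole]
    rcases eq_or_ne x z with rfl | hne
    · simp only [and_self_iff, hrow, Nat.cast_add, Nat.cast_one, hn0, zero_add]
    · have : (Finset.univ.filter fun y => π.I z (σ y) ∧ π.I x (σ y)).card = 1 := by
        obtain ⟨y, hy⟩ := hbij.2 (π.join x z)
        rw [Finset.card_eq_one]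
        refine ⟨y, Finset.ext fun w => ?_⟩
        simp only [Finset.mem_filter, Finset.mem_univ, true_and, Finset.mem_singleton]
        exact ⟨fun ⟨h1, h2⟩ => hbij.1 ((π.join_eq hne h2 h1).symm.trans hy.symm),
          fun e => e ▸ hy ▸ ⟨π.join_right x z, π.join_left x z⟩⟩
      rw [this, Nat.cast_one]
  have hMJ : M * J = J := by
    ext x z
    simp only [Matrix.mul_apply, M, J, Matrix.of_apply, mul_one]
    rw [Finset.sum_boole, hrow, Nat.cast_add, Nat.cast_one, hn0, zero_add]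
  have hpow : ∀ k, M ^ (k + 2) = J := by
    intro k
    induction k with
    | zero => rw [zero_add, pow_two, hMM]
    | succ k ih => rw [show k + 1 + 2 = k + 2 + 1 by omega, pow_succ', ih, hMJ]
  have h := ZMod.trace_pow_card M
  rw [show M ^ q = J by have := hpow (q - 2); rwa [Nat.sub_add_cancel hq.two_le] at this] at h
  simp only [Matrix.trace, Matrix.diag, M, J, Matrix.of_apply, habs, if_false, Finset.sum_const_zero, Finset.sum_const,
    Finset.card_univ, nsmul_eq_mul, mul_one, zero_pow hq.ne_zero] at h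
  rw [← Nat.card_eq_fintype_card, π.card_P] at h
  push_cast at h
  simp [hn0] at h

/-- The order is a prime power. -/
theorem Geom.prime_pow (h : A.Geom) : IsPrimePow π.n := by
  classical
  haveI := A.finite
  rcases Nat.even_or_odd π.n with hn | hn
  · exact h.even_prime_pow hn
  have hn' : Odd π.dual.n := by rw [π.dual_n]; exact hn
  by_cases hP : ∀ x, ∃ a, A.IHo x a
  swap
  · push Not at hP
    obtain ⟨x, hx⟩ := hP
    exact h.noncentre_prime_pow hn hx
  by_cases hL : ∀ a, ∃ x, A.IHo x a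
  swap
  · push Not at hL
    obtain ⟨a, ha⟩ := hL
    rw [← π.dual_n]
    exact h.dual.noncentre_prime_pow hn' (x := a) fun x hx => ha x (A.dual_IHo.mp hx)
  have hP' : ∀ a, ∃ x, A.dual.IHo a x := fun a => (hL a).imp fun x => A.dual_IHo.mpr
  have hL' : ∀ x, ∃ a, A.dual.IHo a x := fun x => (hP x).imp fun a => A.dual_IHo.mpr
  by_cases h1 : ∃ x s D, A.Pol x s ∧ A.dual.T1 s D
  · obtain ⟨x, s, D, hx, hD⟩ := h1
    exact hx.prime_pow_of_T1 hn hP hD
  by_cases h1' : ∃ l C D, A.dual.Pol l C ∧ A.T1 C D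
  · obtain ⟨l, C, D, hl, hD⟩ := h1'
    rw [← π.dual_n]
    exact hl.prime_pow_of_T1 hn' hP' hD
  push Not at h1 h1'
  by_cases h2 : ∃ x s, A.Pol x s ∧ A.dual.T2 s
  · obtain ⟨x, s, hx, hs⟩ := h2
    exact hx.prime_pow_of_T2 hn hP hL hs fun y s D hy => h1 y s D hy
  by_cases h2' : ∃ l C, A.dual.Pol l C ∧ A.T2 C
  · obtain ⟨l, C, hl, hC⟩ := h2'
    rw [← π.dual_n]
    exact hl.prime_pow_of_T2 hn' hP' hL' hC fun y s D hy => h1' y s D hy
  push Not at h2 h2'
  have hpol : ∀ x s, A.Pol x s → A.dual.T0 s := fun x s hx => by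
    rcases A.dual.type_cases s with h0 | ⟨D, hD⟩ | hs
    · exact h0
    · exact absurd hD (h1 x s D hx)
    · exact absurd hs (h2 x s hx)
  have hpol' : ∀ l C, A.dual.Pol l C → A.T0 C := fun l C hl => by
    rcases A.type_cases C with h0 | ⟨D, hD⟩ | hs
    · exact h0
    · exact absurd hD (h1' l C D hl)
    · exact absurd hs (h2' l C hl)
  have hno : ∀ b c, ¬ A.dual.T1 b c := A.not_T1_line hn hP hL hpol
  have hno' : ∀ x a, ¬ A.T1 x a := A.dual.not_T1_line hn' hP' hL' hpol'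
  -- mixed types cannot occur
  have hmix : ∀ {x y : P}, A.T0 x → ¬ A.T2 y := by
    intro x y hx hy
    obtain ⟨e, f, hef, he, hf⟩ := id hy
    have hxy : x ≠ y := fun e' => hx e (e' ▸ he)
    rcases A.dual.type_cases (π.join x y) with h0 | ⟨c, hc⟩ | hc
    · obtain ⟨C, hC⟩ := hL (π.join x y)
      have hp : A.dual.Pol (π.join x y) C := ⟨h0, A.dual_IHo.mpr hC⟩
      exact hC.1 (π.eq_of_two_lines hef (hp.axis hn (Or.inl he) (π.join_right x y)) he.1
        (hp.axis hn (Or.inl hf) (π.join_right x y)) hf.1 ▸ π.join_right x y)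
    · exact hno _ _ hc
    · exact A.no_T0_on hn hP hc (π.join_left x y) hx
  by_cases hsome : ∃ x, A.T0 x
  · obtain ⟨x₀, hx₀⟩ := hsome
    have h0 : ∀ y, A.T0 y := fun y => by
      rcases A.type_cases y with h0 | ⟨a, ha⟩ | hy
      · exact h0
      · exact absurd ha (hno' y a)
      · exact absurd hy (hmix hx₀)
    have hl0 : ∀ a, A.dual.T0 a := fun a x hx => h0 x a (A.dual_EF.mp hx)
    choose σ hσ using hP
    refine absurd (no_polarity (π := π) hn σ ⟨fun x y e => ?_, fun a => ?_⟩ (fun x => (hσ x).1) fun x y hxy => ?_) id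
    · exact A.dual.unique_axis hn' (hl0 (σ x)) (A.dual_IHo.mpr (hσ x)) (A.dual_IHo.mpr (e ▸ hσ y))
    · obtain ⟨x, hx⟩ := hL a
      exact ⟨x, A.unique_axis hn (h0 x) (hσ x) hx⟩
    · exact Pol.centre ⟨h0 x, hσ x⟩ hn (Or.inr (hσ y)) hxy
  · push Not at hsome
    have h2a : ∀ y, A.T2 y := fun y => by
      rcases A.type_cases y with h0 | ⟨a, ha⟩ | hy
      · exact absurd h0 (hsome y)
      · exact absurd ha (hno' y a)
      · exact hy
    refine A.flag_prime_pow h2a fun a => ?_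
    rcases A.dual.type_cases a with h0 | ⟨c, hc⟩ | ha
    · obtain ⟨C, hC⟩ := hL a
      exact absurd (hpol' a C ⟨h0, A.dual_IHo.mpr hC⟩) (hsome C)
    · exact absurd hc (hno a c)
    · exact ha

end Act

end CfsgLib.TTP
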