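import Cfsg.Agent.Lib.TwoTransPlane.Geom

set_option autoImplicit false
set_option linter.unusedSectionVars false

/-!
Odd order: if some point is the centre of no involutory homology, the order is a prime power.
-/

namespace CfsgLib.TTP

universe u v w

namespace Act

variable {P : Type u} {L : Type v} {π : Pl P L} {G : Type w} [Group G] [Finite P] [Finite L]
variable (A : Act π G)

include A in
theorem pow_dvd_elem {q : ℕ} (hq : q.Prime) {H : Subgroup G} (h : ∀ g ∈ H, g ^ q = 1) {m : ℕ} (hm : 1 < m)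
    (hdvd : m ∣ Nat.card H) : IsPrimePow m := by
  haveI := A.finite
  obtain ⟨k, hk⟩ := card_prime_pow_of_exp hq h
  exact isPrimePow_of_dvd_prime_pow hq hm (hk ▸ hdvd)

/-- Two elation centres on one axis. -/
theorem elem_of_two {c d : P} {a : L} (hc : A.EF c a) (hd : A.EF d a) (hne : c ≠ d) :
    ∃ q, q.Prime ∧ ∀ g ∈ A.El a, g ^ q = 1 := by
  obtain ⟨hci, g, hg, hg1⟩ := hc
  obtain ⟨hdi, h, hh, hh1⟩ := hd
  exact A.El_elementary hne hci hdi hg hg1 hh hh1

variable {A}

/-- At a point which is no centre, the axis of each line has centres on every other line. -/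
theorem Geom.pencil (h : A.Geom) (hn : Odd π.n) {x : P} (hx : ∀ a, ¬ A.IHo x a) {a b : L} (hab : a ≠ b)
    (ha : π.I x a) (hb : π.I x b) : ∃ c, A.IHo c a ∧ π.I c b := by
  -- an involution at `x` fixes at most two lines of the pencil
  have key : ∀ a b, a ≠ b → π.I x a → π.I x b → ∀ g, g * g = 1 → g ≠ 1 → A.l g a = a → A.l g b = b →
      ∃ c d, A.IHo c d ∧ g ∈ A.PC c d ∧ ((d = a ∧ π.I c b) ∨ (d = b ∧ π.I c a)) ∧
        ∀ e, π.I x e → A.l g e = e → e = a ∨ e = b := by
    intro a b hab ha hb g g2 g1 fa fb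
    obtain ⟨c, d, hg⟩ := h.per g g2 g1
    have hcd : A.IHo c d := ⟨A.inv_odd g2 g1 hn hg, g, hg, g2, g1⟩
    have hcx : c ≠ x := fun e => hx d (e ▸ hcd)
    have h1 : ∀ e, π.I x e → A.l g e = e → e = d ∨ e = π.join c x := fun e he hf =>
      (A.fixed_line hg g1 hf).imp_right fun hc => (π.join_eq hcx hc he).symm
    refine ⟨c, d, hcd, hg, ?_, fun e he hf => ?_⟩
    · rcases h1 a ha fa with e1 | e1 <;> rcases h1 b hb fb with e2 | e2
      · exact absurd (e1.trans e2.symm) hab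
      · exact Or.inl ⟨e1.symm, e2 ▸ π.join_left c x⟩
      · exact Or.inr ⟨e2.symm, e1 ▸ π.join_left c x⟩
      · exact absurd (e1.trans e2.symm) hab
    · rcases h1 a ha fa with e1 | e1 <;> rcases h1 b hb fb with e2 | e2 <;> rcases h1 e he hf with e3 | e3 <;>
        first
        | exact Or.inl (e3.trans e1.symm)
        | exact Or.inr (e3.trans e2.symm)
        | exact absurd (e1.trans e2.symm) hab
  have hsw : ∃ g ∈ A.stP x, A.l g a = b ∧ A.l g b = a := by
    refine A.dual.two_trans_of_pairs (A.stP x) {e | π.I x e} (fun g hg e => ?_) (fun e he e' he' hne => ?_)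
      (fun e e' => π.exists_third_line x e e') ha hb hab
    · show π.I x (A.l g e) ↔ π.I x e
      conv_lhs => rw [← (show A.p g x = x from hg)]
      exact A.inc g x e
    · obtain ⟨g, g2, g1, f1, f2⟩ := h.lns e e' hne
      obtain ⟨c, d, -, -, -, hu⟩ := key e e' hne he he' g g2 g1 f1 f2
      refine ⟨g, ?_, g2, f1, f2, fun z hz hf => hu z hz hf⟩
      show A.p g x = x
      have := A.fix_meet hne f1 f2
      rwa [π.meet_eq hne he he'] at this
  obtain ⟨g, g2, g1, fa, fb⟩ := h.lns a b hab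
  obtain ⟨c, d, hcd, -, hcase, -⟩ := key a b hab ha hb g g2 g1 fa fb
  rcases hcase with ⟨rfl, hc⟩ | ⟨rfl, hc⟩
  · exact ⟨c, hcd, hc⟩
  · obtain ⟨k, -, kab, kba⟩ := hsw
    exact ⟨A.p k c, by rw [← kba]; exact hcd.map k, by rw [← kab]; exact (A.inc k c a).mpr hc⟩

/-- The line of centres belonging to a point which is no centre. -/
theorem Geom.noncentre_line (h : A.Geom) (hn : Odd π.n) {x : P} (hx : ∀ a, ¬ A.IHo x a) :
    IsPrimePow π.n ∨ ∃ c : L, ¬ π.I x c ∧ (∀ z, π.I z c → ∀ d, A.EF z d → d = π.join x z) ∧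
      (∀ a, π.I x a → ∀ z, π.I z c → ¬ π.I z a → A.IHo z a) ∧
      (∀ a, π.I x a → ∀ z, A.IHo z a → π.I z c) := by
  classical
  haveI := A.finite
  have hnlt := π.one_lt_n
  have hcen := fun {a b : L} => h.pencil hn hx (a := a) (b := b)
  choose C hC1 hC2 using @hcen
  -- many elations on every line through `x`
  have htr : ∀ a, π.I x a → ∀ b, b ≠ a → π.I x b → ∀ b', b' ≠ a → π.I x b' → ∃ s ∈ A.El a, A.l s b = b' := by
    intro a ha b hba hb b' hb'a hb'
    rcases eq_or_ne (C hba.symm ha hb) (C hb'a.symm ha hb') with e | e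
    · refine ⟨1, one_mem _, ?_⟩
      have h2 := hC2 hb'a.symm ha hb'
      rw [← e] at h2
      have hne : C hba.symm ha hb ≠ x := fun e' => hx a (e' ▸ hC1 hba.symm ha hb)
      simpa using π.eq_of_two_points hne (hC2 hba.symm ha hb) hb h2 hb'
    · obtain ⟨s, hs, hse⟩ := A.iho_elation (hC1 hb'a.symm ha hb') (hC1 hba.symm ha hb) e.symm hn
      refine ⟨s, hs, ?_⟩
      have hne : C hb'a.symm ha hb' ≠ x := fun e' => hx a (e' ▸ hC1 hb'a.symm ha hb')
      have h1 : π.I x (A.l s b) := by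
        have := (A.inc s x b).mpr hb
        rwa [A.mem_axial.mp hs.1 x ha] at this
      have h2 : π.I (C hb'a.symm ha hb') (A.l s b) := by
        rw [← hse]; exact (A.inc s _ b).mpr (hC2 hba.symm ha hb)
      exact π.eq_of_two_points hne h2 h1 (hC2 hb'a.symm ha hb') hb'
  have horb : ∀ a, π.I x a → π.n ∣ Nat.card (A.El a) := by
    intro a ha
    obtain ⟨b, hb, hba⟩ := π.exists_other_line x a
    have e : Nat.card {y // ∃ s ∈ A.El a, A.l s b = y} = π.n := by
      rw [← π.card_pencil_erase ha]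
      refine Nat.card_congr (Equiv.subtypeEquivRight fun y => ⟨?_, fun hy => htr a ha b hba hb y hy.2 hy.1⟩)
      rintro ⟨s, hs, rfl⟩
      refine ⟨?_, fun e => hba ((A.l s).injective (e.trans (A.axial_le_stL a hs.1).symm))⟩
      have := (A.inc s x b).mpr hb
      rwa [A.mem_axial.mp hs.1 x ha] at this
    exact e ▸ A.dual.orbit_dvd (A.El a) b
  by_cases htwo : ∃ a, π.I x a ∧ ∃ c d, c ≠ d ∧ A.EF c a ∧ A.EF d a
  · obtain ⟨a, ha, c, d, hcd, hc, hd⟩ := htwo
    obtain ⟨q, hq, hq'⟩ := A.elem_of_two hc hd hcd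
    exact Or.inl (A.pow_dvd_elem hq hq' hnlt (horb a ha))
  push Not at htwo
  have hY : ∀ a, π.I x a → ∃ y, A.EF y a ∧ y ≠ x ∧ (∀ z, A.EF z a → z = y) ∧ π.n ≤ Nat.card (A.PC y a) := by
    intro a ha
    have h1 : 1 < Nat.card (A.El a) := lt_of_lt_of_le hnlt (Nat.le_of_dvd Nat.card_pos (horb a ha))
    obtain ⟨g, hg, hg1⟩ : ∃ g ∈ A.El a, g ≠ 1 := by
      by_contra! hc
      exact absurd ((Subgroup.eq_bot_iff_forall _).mpr hc) ((Subgroup.one_lt_card_iff_ne_bot _).mp h1)
    obtain ⟨y, hy, hgy⟩ := A.EF_of_El hg hg1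
    have huniq : ∀ z, A.EF z a → z = y := fun z hz => by
      by_contra hne
      exact htwo a ha z y hne hz hy
    have hPC : A.PC y a = A.El a := le_antisymm (A.PC_le_El hy.1) fun k hk => by
      by_cases hk1 : k = 1
      · rw [hk1]; exact one_mem _
      obtain ⟨z, hz, hkz⟩ := A.EF_of_El hk hk1
      exact huniq z hz ▸ hkz
    refine ⟨y, hy, fun e => ?_, huniq, ?_⟩
    · obtain ⟨b, hb, hba⟩ := π.exists_other_line x a
      obtain ⟨b', hb', hb'a, hb'b⟩ := π.exists_third_line x a b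
      obtain ⟨s, hs, hsb⟩ := htr a ha b hba hb b' hb'a hb'
      rw [← hPC] at hs
      exact hb'b (hsb.symm.trans (A.mem_central.mp hs.2 b (e ▸ hb)))
    · rw [hPC]; exact Nat.le_of_dvd Nat.card_pos (horb a ha)
  choose Y hYE hYx hYu hYn using hY
  -- every centre of `a` on `b` is the elation centre of `b`
  have hCY : ∀ a (ha : π.I x a) b (hb : π.I x b), a ≠ b → ∀ z, A.IHo z a → π.I z b → z = Y b hb := by
    intro a ha b hb hab z hz hzb
    obtain ⟨hza, g, hg, g2, g1⟩ := hz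
    have hgb : A.l g b = b := A.mem_central.mp hg.2 b hzb
    have hYb := (hYE b hb).map g
    rw [hgb] at hYb
    rcases A.fixed_point hg g1 (hYu b hb _ hYb) with e | e
    · exact e.symm
    · exact absurd (π.eq_of_two_lines hab e ha (hYE b hb).1 hb) (hYx b hb)
  have hIHo : ∀ a (ha : π.I x a) b (hb : π.I x b), a ≠ b → A.IHo (Y b hb) a := by
    intro a ha b hb hab
    rw [← hCY a ha b hb hab _ (hC1 hab ha hb) (hC2 hab ha hb)]
    exact hC1 hab ha hb
  have hline : ∀ a (ha : π.I x a) b (hb : π.I x b) b' (hb' : π.I x b'), a ≠ b → a ≠ b' → b ≠ b' →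
      π.I (Y a ha) (π.join (Y b hb) (Y b' hb')) := by
    intro a ha b hb b' hb' hab hab' hbb'
    have hne : Y b hb ≠ Y b' hb' := fun e =>
      hYx b hb (π.eq_of_two_lines hbb' (hYE b hb).1 hb (e ▸ (hYE b' hb').1) hb')
    have := hYu a ha _ (A.two_hom (hIHo a ha b hb hab) (hIHo a ha b' hb' hab') hne hn)
    rw [← this]
    exact π.meet_left _ _
  obtain ⟨a₁, ha₁, -⟩ := π.exists_other_line x (π.join x x)
  obtain ⟨a₂, ha₂, ha21⟩ := π.exists_other_line x a₁
  obtain ⟨a₃, ha₃, ha31, ha32⟩ := π.exists_third_line x a₁ a₂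
  set c := π.join (Y a₁ ha₁) (Y a₂ ha₂)
  have hY12 : Y a₁ ha₁ ≠ Y a₂ ha₂ := fun e =>
    hYx a₁ ha₁ (π.eq_of_two_lines ha21.symm (hYE a₁ ha₁).1 ha₁ (e ▸ (hYE a₂ ha₂).1) ha₂)
  have hYc : ∀ a (ha : π.I x a), π.I (Y a ha) c := by
    intro a ha
    rcases eq_or_ne a a₁ with rfl | h1
    · exact π.join_left _ _
    rcases eq_or_ne a a₂ with rfl | h2
    · exact π.join_right _ _
    exact hline a ha a₁ ha₁ a₂ ha₂ h1 h2 ha21.symm
  have hxc : ¬ π.I x c := fun hc => by
    have e1 : c = a₁ := π.eq_of_two_points (hYx a₁ ha₁) (π.join_left _ _) hc (hYE a₁ ha₁).1 ha₁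
    have e2 : c = a₂ := π.eq_of_two_points (hYx a₂ ha₂) (π.join_right _ _) hc (hYE a₂ ha₂).1 ha₂
    exact ha21 (e2.symm.trans e1)
  have hpt : ∀ z, π.I z c → z = Y (π.join x z) (π.join_left x z) := by
    intro z hz
    have hzx : x ≠ z := fun e => hxc (e ▸ hz)
    have hne : π.join x z ≠ c := fun e => hxc (e ▸ π.join_left x z)
    exact π.eq_of_two_lines hne (π.join_right x z) (hYE _ _).1 hz (hYc _ _)
  have hEF : ∀ z, π.I z c → A.EF z (π.join x z) := fun z hz => by
    have := hYE _ (π.join_left x z)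
    rwa [← hpt z hz] at this
  by_cases hone : ∀ z, π.I z c → ∀ d, A.EF z d → d = π.join x z
  swap
  · push Not at hone
    obtain ⟨z, hz, d, hd, hne⟩ := hone
    obtain ⟨q, hq, hq'⟩ := A.dual.elem_of_two (A.dual_EF.mpr hd) (A.dual_EF.mpr (hEF z hz)) hne
    refine Or.inl (A.pow_dvd_elem hq (H := A.dual.El z) hq' hnlt ?_)
    have hb := hYn _ (π.join_left x z)
    rw [← hpt z hz] at hb
    have hdvd := A.card_PC_dvd (hEF z hz).1
    have he : Nat.card (A.PC z (π.join x z)) = π.n :=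
      le_antisymm (Nat.le_of_dvd (by omega) hdvd) hb
    rw [← he, ← A.dual_PC]
    exact Subgroup.card_dvd_of_le (A.dual.PC_le_El (c := π.join x z) (π.join_right x z))
  refine Or.inr ⟨c, hxc, hone, fun a ha z hz hza => ?_, fun a ha z hz => ?_⟩
  · rw [hpt z hz]
    exact hIHo a ha _ _ fun e => hza (e ▸ π.join_right x z)
  · have hzx : x ≠ z := fun e => hz.1 (e ▸ ha)
    rw [hCY a ha _ (π.join_left x z) (fun e => hz.1 (e ▸ π.join_right x z)) z hz (π.join_right x z)]
    exact hYc _ _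

/-- If some point is no centre, the order is a prime power. -/
theorem Geom.noncentre_prime_pow (h : A.Geom) (hn : Odd π.n) {x : P} (hx : ∀ a, ¬ A.IHo x a) :
    IsPrimePow π.n := by
  rcases h.noncentre_line hn hx with h' | ⟨c, hxc, hone, hcen, hon⟩
  · exact h'
  have hnlt := π.one_lt_n
  -- a second point which is no centre
  obtain ⟨x', hx'x, hx'⟩ : ∃ x', x' ≠ x ∧ ∀ a, ¬ A.IHo x' a := by
    obtain ⟨b, hb, -⟩ := π.exists_other_line x c
    obtain ⟨z, hz, hzx, hzm⟩ := π.exists_third b x (π.meet b c)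
    have hzc : ¬ π.I z c := fun e => hzm (π.eq_of_two_lines (show b ≠ c from fun e' => hxc (e' ▸ hb)) hz (π.meet_left b c) e
      (π.meet_right b c))
    by_cases hzi : ∀ a, ¬ A.IHo z a
    · exact ⟨z, hzx, hzi⟩
    push Not at hzi
    obtain ⟨s, hs⟩ := hzi
    have hxs : ¬ π.I x s := fun e => hzc (hon s e z hs)
    obtain ⟨hzs, g, hg, g2, g1⟩ := hs
    refine ⟨A.p g x, fun e => ?_, fun a ha => ?_⟩
    · rcases A.fixed_point hg g1 e with e' | e'
      · exact hzx e'.symm
      · exact hxs e'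
    · have := ha.map g
      rw [← A.p_mul, g2, map_one] at this
      exact hx _ this
  rcases h.noncentre_line hn hx' with h' | ⟨c', hx'c', hone', hcen', -⟩
  · exact h'
  exfalso
  have hcen_pt : ∀ z, π.I z c → ∃ a, A.IHo z a := fun z hz => by
    obtain ⟨a, ha, hne⟩ := π.exists_other_line x (π.join x z)
    exact ⟨a, hcen a ha z hz fun e => hne (π.join_eq (show x ≠ z from fun e' => hxc (e' ▸ hz)) ha e).symm⟩
  have hx'c : ¬ π.I x' c := fun e => by
    obtain ⟨a, ha⟩ := hcen_pt x' e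
    exact hx' a ha
  set m := π.join x x'
  have hmc : m ≠ c := fun e => hxc (e ▸ π.join_left x x')
  obtain ⟨C, hC, hCne⟩ := π.exists_other c (π.meet c m)
  have hCm : ¬ π.I C m := fun e => hCne (π.meet_eq hmc.symm hC e).symm
  set b := π.join x C
  set a' := π.join x' C
  have hba' : b ≠ a' := fun e => hCm (by
    rw [show m = b from π.join_eq hx'x.symm (π.join_left x C) (by change π.I x' b; rw [e]; exact π.join_left x' C)]
    exact π.join_right x C)
  obtain ⟨f, hf, hf'⟩ : ∃ f, π.I x f ∧ f ≠ b := π.exists_other_line x b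
  have hEFb : ∃ d, A.EF C d := by
    obtain ⟨a, ha⟩ := hcen_pt C hC
    obtain ⟨e, he, hne⟩ := π.exists_third_line x b f
    have h1 := hcen f hf C hC fun e' => hf' (π.join_eq (show x ≠ C from fun e'' => hxc (e'' ▸ hC)) hf e').symm
    have h2 := hcen e he C hC fun e' => hne.1 (π.join_eq (show x ≠ C from fun e'' => hxc (e'' ▸ hC)) he e').symm
    exact ⟨_, A.dual_EF.mp (A.dual.two_hom (A.dual_IHo.mpr h1) (A.dual_IHo.mpr h2) hne.2.symm (by rw [π.dual_n]; exact hn))⟩
  obtain ⟨d, hd⟩ := hEFb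
  have hEFb : A.EF C b := (show d = b from hone C hC d hd) ▸ hd
  have hCc' : ¬ π.I C c' := fun e => hba' (hone' C e b hEFb)
  have hon2 : ∀ z, π.I z c' → ¬ π.I z a' → π.I z b := by
    intro z hz hza
    obtain ⟨-, g, hg, g2, g1⟩ := hcen' a' (π.join_left x' C) z hz hza
    have hgC : A.p g C = C := A.mem_axial.mp hg.1 C (π.join_right x' C)
    have h1 := hEFb.map g
    rw [hgC] at h1
    exact (A.fixed_line hg g1 (hone C hC _ h1)).resolve_left hba'
  have hc'a' : c' ≠ a' := fun e => hx'c' (e ▸ π.join_left x' C)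
  obtain ⟨z, hz, hzw⟩ := π.exists_other c' (π.meet c' a')
  obtain ⟨z', hz', hz'w, hz'z⟩ := π.exists_third c' (π.meet c' a') z
  have h1 := hon2 z hz fun e => hzw (π.meet_eq hc'a' hz e).symm
  have h2 := hon2 z' hz' fun e => hz'w (π.meet_eq hc'a' hz' e).symm
  have hcb : c' = b := π.eq_of_two_points hz'z hz' hz h2 h1
  obtain ⟨a, ha, hne⟩ := π.exists_other_line x' (π.join x' x)
  exact hx a (hcen' a ha x (hcb ▸ π.join_left x C) fun e => hne (π.join_eq hx'x ha e).symm)

end Act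

end CfsgLib.TTP
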