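import Cfsg.Agent.Lib.TwoTransPlane.Basic

set_option autoImplicit false
set_option linter.unusedSectionVars false

/-!
Perspectivities: centres, axes, and the groups of elations with a given axis.
-/

namespace CfsgLib.TTP

universe u v w

/-- The divisibility argument which makes a constant elation count equal to the order. -/
theorem count_arith {n e : ℕ} (he : 2 ≤ e) (h1 : e ∣ n) (hn : n ≠ 0) (h2 : 1 + (n + 1) * (e - 1) ∣ n ^ 2) :
    e = n := by
  obtain ⟨f, rfl⟩ := h1
  obtain ⟨k, rfl⟩ : ∃ k, e = k + 1 := ⟨e - 1, by omega⟩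
  simp only [Nat.add_sub_cancel] at h2
  have e1 : 1 + ((k + 1) * f + 1) * k = (k + 1) * (f * k + 1) := by ring
  have e2 : ((k + 1) * f) ^ 2 = (k + 1) * ((k + 1) * f ^ 2) := by ring
  rw [e1, e2] at h2
  have h3 : f * k + 1 ∣ (k + 1) * f ^ 2 := Nat.dvd_of_mul_dvd_mul_left (by omega) h2
  have h4 : Nat.Coprime (f * k + 1) (f ^ 2) := by
    refine Nat.Coprime.pow_right 2 ?_
    rw [Nat.coprime_comm, show f * k + 1 = 1 + k * f by ring, Nat.coprime_add_mul_right_right]
    exact Nat.coprime_one_right f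
  have h5 : f * k + 1 ≤ k + 1 := Nat.le_of_dvd (by omega) (h4.dvd_of_dvd_mul_right h3)
  have hf : f ≠ 0 := fun h => hn (by simp [h])
  have : f = 1 := by
    by_contra hf1
    have : 2 * k ≤ f * k := Nat.mul_le_mul_right k (by omega)
    omega
  simp [this]

theorem isPrimePow_of_dvd_prime_pow {m p k : ℕ} (hp : p.Prime) (hm : 1 < m) (h : m ∣ p ^ k) : IsPrimePow m := by
  obtain ⟨i, -, rfl⟩ := (Nat.dvd_prime_pow hp).mp h
  refine (isPrimePow_nat_iff _).mpr ⟨p, i, hp, ?_, rfl⟩
  rcases i.eq_zero_or_pos with rfl | hi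
  · simp at hm
  · exact hi

theorem card_prime_pow_of_exp {G : Type w} [Group G] [Finite G] {H : Subgroup G} {p : ℕ} (hp : p.Prime)
    (h : ∀ g ∈ H, g ^ p = 1) : ∃ k, Nat.card H = p ^ k := by
  haveI : Fact p.Prime := ⟨hp⟩
  exact IsPGroup.iff_card.mp fun g => ⟨1, Subtype.ext (by simpa using h g g.2)⟩

namespace Act

variable {P : Type u} {L : Type v} {π : Pl P L} {G : Type w} [Group G] [Finite P] [Finite L]
variable (A : Act π G)

theorem dual_dual : A.dual.dual = A := rfl

/-- Collineations fixing every point of a line. -/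
def axial (a : L) : Subgroup G := ⨅ x : {x // π.I x a}, A.stP x

/-- Collineations fixing every line through a point. -/
def central (c : P) : Subgroup G := A.dual.axial c

/-- Perspectivities with centre `c` and axis `a`. -/
def PC (c : P) (a : L) : Subgroup G := A.axial a ⊓ A.central c

theorem mem_axial {a : L} {g : G} : g ∈ A.axial a ↔ ∀ x, π.I x a → A.p g x = x := by
  simp [axial, Subgroup.mem_iInf]

theorem mem_central {c : P} {g : G} : g ∈ A.central c ↔ ∀ a, π.I c a → A.l g a = a :=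
  A.dual.mem_axial

theorem dual_PC (c : P) (a : L) : A.dual.PC a c = A.PC c a := inf_comm _ _

theorem stP_le {x : P} {H : Subgroup G} : H ≤ A.stP x ↔ ∀ h ∈ H, A.p h x = x := Iff.rfl

theorem axial_le_stL (a : L) : A.axial a ≤ A.stL a := by
  intro g hg
  rw [mem_axial] at hg
  obtain ⟨x, hx, -⟩ := π.exists_other a (π.meet a a)
  obtain ⟨y, hy, hyx⟩ := π.exists_other a x
  have := A.fix_join hyx.symm (hg x hx) (hg y hy)
  rwa [π.join_eq hyx.symm hx hy] at this

theorem central_le_stP (c : P) : A.central c ≤ A.stP c := A.dual.axial_le_stL c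

theorem two_centres {g : G} {c c' : P} (h : g ∈ A.central c) (h' : g ∈ A.central c') (hne : c ≠ c') :
    g = 1 := by
  rw [mem_central] at h h'
  have hoff : ∀ x, ¬ π.I x (π.join c c') → A.p g x = x := fun x hx => by
    have hd : π.join c x ≠ π.join c' x := fun e => hx <| by
      have hcx : c ≠ x := fun e' => hx (e' ▸ π.join_left c c')
      have h1 := π.join_left c x
      have h2 : π.I c' (π.join c x) := e ▸ π.join_left c' x
      rw [π.join_eq hne h1 h2]; exact π.join_right c x
    have := A.fix_meet hd (h _ (π.join_left c x)) (h' _ (π.join_left c' x))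
    rwa [π.meet_eq hd (π.join_right c x) (π.join_right c' x)] at this
  refine A.faith g (Equiv.ext fun x => ?_)
  by_cases hx : π.I x (π.join c c')
  · obtain ⟨b, hb, hbj⟩ := π.exists_other_line x (π.join c c')
    obtain ⟨z, hz, hzx⟩ := π.exists_other b x
    obtain ⟨w, hw, hwx, hwz⟩ := π.exists_third b x z
    have hzj : ¬ π.I z (π.join c c') := fun e => hzx (π.eq_of_two_lines hbj.symm e hx hz hb)
    have hwj : ¬ π.I w (π.join c c') := fun e => hwx (π.eq_of_two_lines hbj.symm e hx hw hb)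
    have hb' : A.l g b = b := by
      have := A.fix_join hwz (hoff w hwj) (hoff z hzj)
      rwa [π.join_eq hwz hw hz] at this
    have := A.fix_meet hbj hb' (h _ (π.join_left c c'))
    rwa [π.meet_eq hbj hb hx] at this
  · exact hoff x hx

theorem two_axes {g : G} {a a' : L} (h : g ∈ A.axial a) (h' : g ∈ A.axial a') (hne : a ≠ a') : g = 1 :=
  A.dual.two_centres h h' hne

/-- An axial collineation fixing a point off its axis has that point as centre. -/
theorem central_of_fix {g : G} {a : L} {x : P} (hg : g ∈ A.axial a) (hx : ¬ π.I x a) (hfx : A.p g x = x) :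
    g ∈ A.central x := by
  rw [mem_central]
  intro b hb
  have hba : b ≠ a := fun e => hx (e ▸ hb)
  have hm := (A.mem_axial.mp hg) _ (π.meet_right b a)
  have hne : x ≠ π.meet b a := fun e => hx (e ▸ π.meet_right b a)
  have := A.fix_join hne hfx hm
  rwa [π.join_eq hne hb (π.meet_left b a)] at this

theorem axial_of_fix {g : G} {c : P} {b : L} (hg : g ∈ A.central c) (hb : ¬ π.I c b) (hfb : A.l g b = b) :
    g ∈ A.axial b :=
  A.dual.central_of_fix hg hb hfb

/-- An axial collineation has a centre. -/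
theorem exists_centre {g : G} {a : L} (hg : g ∈ A.axial a) : ∃ c, g ∈ A.central c := by
  by_cases h : ∃ x, ¬ π.I x a ∧ A.p g x = x
  · obtain ⟨x, h1, h2⟩ := h; exact ⟨x, A.central_of_fix hg h1 h2⟩
  push Not at h
  have hax := A.mem_axial.mp hg
  -- every point off the axis lies on a fixed line
  have hl : ∀ z, ¬ π.I z a → A.l g (π.join z (A.p g z)) = π.join z (A.p g z) := fun z hz => by
    have hne := (h z hz).symm
    set b := π.join z (A.p g z)
    have hba : b ≠ a := fun e => hz (e ▸ π.join_left z _)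
    have hw := hax _ (π.meet_right b a)
    have hwz : π.meet b a ≠ z := fun e => hz (e ▸ π.meet_right b a)
    have hwg : π.meet b a ≠ A.p g z := fun e => hwz ((A.p g).injective (by rw [hw]; exact e))
    conv_lhs => rw [← π.join_eq hwz (π.meet_left b a) (π.join_left z _), A.map_join g hwz, hw]
    exact π.join_eq hwg (π.meet_left b a) (π.join_right z _)
  -- two fixed lines other than the axis meet on the axis
  have hmeet : ∀ b b', A.l g b = b → A.l g b' = b' → b ≠ b' → π.I (π.meet b b') a := fun b b' hb hb' hne => by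
    by_contra hc
    exact h _ hc (A.fix_meet hne hb hb')
  obtain ⟨z₀, hz₀⟩ := π.exists_off a
  set b₀ := π.join z₀ (A.p g z₀)
  have hb₀a : b₀ ≠ a := fun e => hz₀ (e ▸ π.join_left z₀ _)
  refine ⟨π.meet b₀ a, A.mem_central.mpr fun b hb => ?_⟩
  by_cases hba : b = a
  · subst hba; exact A.axial_le_stL b hg
  obtain ⟨z, hz, hzw⟩ := π.exists_other b (π.meet b₀ a)
  have hza : ¬ π.I z a := fun e => hzw (π.eq_of_two_lines hba hz hb e (π.meet_right b₀ a))
  have hzl := hl z hza
  set b₁ := π.join z (A.p g z)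
  have : π.I (π.meet b₀ a) b₁ := by
    rcases eq_or_ne b₀ b₁ with e | e
    · exact e ▸ π.meet_left b₀ a
    · have h1 := hmeet b₀ b₁ (hl z₀ hz₀) hzl e
      rw [π.meet_eq hb₀a (π.meet_left b₀ b₁) h1]
      exact π.meet_right b₀ b₁
  rw [← π.eq_of_two_points hzw (π.join_left z _) this hz hb]
  exact hzl

theorem exists_axis {g : G} {c : P} (hg : g ∈ A.central c) : ∃ a, g ∈ A.axial a := A.dual.exists_centre hg

theorem fixed_point {g : G} {c : P} {a : L} (hg : g ∈ A.PC c a) (hg1 : g ≠ 1) {x : P} (hx : A.p g x = x) :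
    x = c ∨ π.I x a := by
  by_contra! hc
  exact hg1 (A.two_centres (A.central_of_fix hg.1 hc.2 hx) hg.2 hc.1)

theorem fixed_line {g : G} {c : P} {a : L} (hg : g ∈ A.PC c a) (hg1 : g ≠ 1) {b : L} (hb : A.l g b = b) :
    b = a ∨ π.I c b := by
  refine A.dual.fixed_point (c := a) (a := c) ?_ hg1 hb
  rwa [A.dual_PC]

theorem axial_conj {g h : G} {a : L} (hh : h ∈ A.axial a) : g * h * g⁻¹ ∈ A.axial (A.l g a) := by
  rw [mem_axial] at hh ⊢
  intro x hx
  have : π.I (A.p g⁻¹ x) a := by rw [← A.inc g, A.p_apply_inv]; exact hx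
  rw [A.p_mul, A.p_mul, hh _ this, A.p_apply_inv]

theorem central_conj {g h : G} {c : P} (hh : h ∈ A.central c) : g * h * g⁻¹ ∈ A.central (A.p g c) :=
  A.dual.axial_conj hh

theorem PC_conj {g h : G} {c : P} {a : L} (hh : h ∈ A.PC c a) : g * h * g⁻¹ ∈ A.PC (A.p g c) (A.l g a) :=
  ⟨A.axial_conj hh.1, A.central_conj hh.2⟩

theorem card_PC_map (g : G) (c : P) (a : L) : Nat.card (A.PC (A.p g c) (A.l g a)) = Nat.card (A.PC c a) := by
  refine Nat.card_congr (Equiv.symm ((MulAut.conj g).toEquiv.subtypeEquiv fun h => ?_))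
  refine ⟨fun hh => A.PC_conj hh, fun hh => ?_⟩
  have := A.PC_conj (g := g⁻¹) hh
  rw [A.p_inv_apply, A.l_inv_apply] at this
  simpa [MulAut.conj_apply, mul_assoc] using this

/-- A semiregular subgroup on a finite set. -/
theorem card_dvd_of_free (H : Subgroup G) (S : Set P) (hS : ∀ h ∈ H, ∀ x ∈ S, A.p h x ∈ S)
    (hfree : ∀ h ∈ H, ∀ x ∈ S, A.p h x = x → h = 1) : Nat.card H ∣ Nat.card S := by
  letI : MulAction H S :=
    { smul := fun h x => ⟨A.p h x, hS h h.2 x x.2⟩
      one_smul := fun x => Subtype.ext (show A.p ((1 : H) : G) x = x by simp)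
      mul_smul := fun h k x => Subtype.ext (A.p_mul _ _ _) }
  have hst : ∀ x : S, MulAction.stabilizer H x = ⊥ := fun x => (Subgroup.eq_bot_iff_forall _).mpr fun h hh =>
    Subtype.ext (hfree h h.2 x x.2 (congrArg Subtype.val hh))
  rw [Nat.card_congr (MulAction.selfEquivOrbitsQuotientProd hst), Nat.card_prod]
  exact dvd_mul_left _ _

/-- Elations with axis `a`. -/
def El (a : L) : Subgroup G where
  carrier := {g | g ∈ A.axial a ∧ (g = 1 ∨ ∀ x, ¬ π.I x a → A.p g x ≠ x)}
  one_mem' := ⟨one_mem _, Or.inl rfl⟩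
  inv_mem' {g} hg := by
    refine ⟨inv_mem hg.1, hg.2.imp (by simp +contextual) fun h x hx e => h x hx ?_⟩
    conv_lhs => rw [← e, A.p_apply_inv]
  mul_mem' {g h} hg hh := by
    refine ⟨mul_mem hg.1 hh.1, or_iff_not_imp_left.mpr fun hne x hx e => ?_⟩
    rcases hg.2 with rfl | hg2
    · rw [one_mul] at e hne
      exact (hh.2.resolve_left hne) x hx e
    rcases hh.2 with rfl | hh2
    · rw [mul_one] at e
      exact hg2 x hx e
    rw [A.p_mul] at e
    set y := A.p h x
    have hyx : y ≠ x := hh2 x hx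
    obtain ⟨c, hc⟩ := A.exists_centre hg.1
    obtain ⟨d, hd⟩ := A.exists_centre hh.1
    have hca : π.I c a := by_contra fun hc' => hg2 c hc' (A.central_le_stP c hc)
    have hda : π.I d a := by_contra fun hd' => hh2 d hd' (A.central_le_stP d hd)
    have hxd : x ≠ d := fun e' => hx (e' ▸ hda)
    have h1 : π.I y (π.join x d) := by
      have := (A.inc h x (π.join x d)).mpr (π.join_left x d)
      rwa [(A.mem_central.mp hd) _ (π.join_right x d)] at this
    have h2 : π.I x (π.join y c) := by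
      have := (A.inc g y (π.join y c)).mpr (π.join_left y c)
      rwa [(A.mem_central.mp hc) _ (π.join_right y c), e] at this
    have h3 : π.join y c = π.join x d := π.eq_of_two_points hyx (π.join_left y c) h2 h1 (π.join_left x d)
    have hja : π.join x d ≠ a := fun e' => hx (e' ▸ π.join_left x d)
    have hcd : c = d := π.eq_of_two_lines hja (h3 ▸ π.join_right y c) (π.join_right x d) hca hda
    subst hcd
    exact hne (A.two_centres (mul_mem hc hd) (A.central_of_fix (mul_mem hg.1 hh.1) hx (by rw [A.p_mul]; exact e))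
      hxd.symm)

theorem El_le_axial (a : L) : A.El a ≤ A.axial a := fun _ h => h.1

theorem El_fix {a : L} {g : G} (hg : g ∈ A.El a) {x : P} (hx : ¬ π.I x a) (h : A.p g x = x) : g = 1 :=
  hg.2.resolve_right fun h' => h' x hx h

theorem PC_le_El {c : P} {a : L} (h : π.I c a) : A.PC c a ≤ A.El a := by
  intro g hg
  refine ⟨hg.1, or_iff_not_imp_left.mpr fun hne x hx e => ?_⟩
  rcases A.fixed_point hg hne e with rfl | h'
  · exact hx h
  · exact hx h'

theorem El_centre {a : L} {g : G} (hg : g ∈ A.El a) : ∃ c, π.I c a ∧ g ∈ A.PC c a := by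
  by_cases h1 : g = 1
  · subst h1; exact ⟨π.meet a a, π.meet_left a a, one_mem _⟩
  obtain ⟨c, hc⟩ := A.exists_centre hg.1
  exact ⟨c, by_contra fun h => h1 (A.El_fix hg h (A.central_le_stP c hc)), hg.1, hc⟩

theorem El_conj {g h : G} {a : L} (hh : h ∈ A.El a) : g * h * g⁻¹ ∈ A.El (A.l g a) := by
  obtain ⟨c, hc, hhc⟩ := A.El_centre hh
  exact A.PC_le_El ((A.inc g c a).mpr hc) (A.PC_conj hhc)

theorem card_El_dvd (a : L) : Nat.card (A.El a) ∣ π.n ^ 2 := by
  rw [← π.card_off a]
  exact A.card_dvd_of_free (A.El a) {x | ¬ π.I x a}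
    (fun h hh x hx e => hx (by
      rw [← A.inc h x a, show A.l h a = a from A.axial_le_stL a hh.1]; exact e))
    fun h hh x hx e => A.El_fix hh hx e

theorem card_PC_dvd {c : P} {a : L} (h : π.I c a) : Nat.card (A.PC c a) ∣ π.n := by
  obtain ⟨b, hb, hba⟩ := π.exists_other_line c a
  rw [← π.card_line_erase hb]
  refine A.card_dvd_of_free (A.PC c a) {x | π.I x b ∧ x ≠ c} (fun g hg x hx => ⟨?_, fun e => hx.2 ?_⟩) ?_
  · have := (A.inc g x b).mpr hx.1
    rwa [A.mem_central.mp hg.2 b hb] at this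
  · have hc := (A.central_le_stP c hg.2 : A.p g c = c)
    exact (A.p g).injective (e.trans hc.symm)
  · intro g hg x hx e
    by_contra hg1
    rcases A.fixed_point hg hg1 e with h' | h'
    · exact hx.2 h'
    · exact hx.2 (π.eq_of_two_lines hba hx.1 hb h' h)

theorem card_PC_dvd_of_not {c : P} {a : L} (h : ¬ π.I c a) : Nat.card (A.PC c a) ∣ π.n - 1 := by
  obtain ⟨b, hb, -⟩ := π.exists_other_line c a
  have hba : b ≠ a := fun e => h (e ▸ hb)
  have hcard : Nat.card {x // π.I x b ∧ x ≠ c ∧ x ≠ π.meet b a} = π.n - 1 := by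
    classical
    haveI := Fintype.ofFinite P
    have h1 := π.card_line_erase hb
    rw [Nat.card_eq_fintype_card, Fintype.card_subtype] at h1 ⊢
    have hmc : π.meet b a ≠ c := fun e => h (e ▸ π.meet_right b a)
    have : (Finset.univ.filter fun x => π.I x b ∧ x ≠ c ∧ x ≠ π.meet b a) =
        (Finset.univ.filter fun x => π.I x b ∧ x ≠ c).erase (π.meet b a) := by ext; simp; tauto
    rw [this, Finset.card_erase_of_mem (by simp [hmc, π.meet_left b a]), h1]
  rw [← hcard]
  refine A.card_dvd_of_free (A.PC c a) {x | π.I x b ∧ x ≠ c ∧ x ≠ π.meet b a}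
    (fun g hg x hx => ⟨?_, fun e => hx.2.1 ?_, fun e => hx.2.2 ?_⟩) ?_
  · have := (A.inc g x b).mpr hx.1
    rwa [A.mem_central.mp hg.2 b hb] at this
  · exact (A.p g).injective (e.trans (A.central_le_stP c hg.2 : A.p g c = c).symm)
  · exact (A.p g).injective (e.trans (A.mem_axial.mp hg.1 _ (π.meet_right b a)).symm)
  · intro g hg x hx e
    by_contra hg1
    rcases A.fixed_point hg hg1 e with h' | h'
    · exact hx.2.1 h'
    · exact hx.2.2 (π.meet_eq hba hx.1 h').symm

theorem PC_comm {c d : P} {a : L} (hne : c ≠ d) (hc : π.I c a) (hd : π.I d a) {g h : G} (hg : g ∈ A.PC c a)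
    (hh : h ∈ A.PC d a) : Commute g h := by
  have hhc : h * g⁻¹ * h⁻¹ ∈ A.PC c a := by
    have := A.PC_conj (g := h) (inv_mem hg)
    rwa [show A.p h c = c from A.mem_axial.mp hh.1 c hc, show A.l h a = a from A.axial_le_stL a hh.1] at this
  have hgd : g * h * g⁻¹ ∈ A.PC d a := by
    have := A.PC_conj (g := g) hh
    rwa [show A.p g d = d from A.mem_axial.mp hg.1 d hd, show A.l g a = a from A.axial_le_stL a hg.1] at this
  have h1 : g * h * g⁻¹ * h⁻¹ ∈ A.PC c a := by
    have := mul_mem hg hhc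
    simpa only [mul_assoc] using this
  have h2 : g * h * g⁻¹ * h⁻¹ ∈ A.PC d a := mul_mem hgd (inv_mem hh)
  have := A.two_centres h1.2 h2.2 hne
  exact commutatorElement_eq_one_iff_commute.mp (by rw [commutatorElement_def]; exact this)

/-- Two different centres force an elementary abelian group of elations. -/
theorem El_elementary {c d : P} {a : L} (hne : c ≠ d) (hc : π.I c a) (hd : π.I d a) {g h : G}
    (hg : g ∈ A.PC c a) (hg1 : g ≠ 1) (hh : h ∈ A.PC d a) (hh1 : h ≠ 1) :
    ∃ q, q.Prime ∧ ∀ k ∈ A.El a, k ^ q = 1 := by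
  haveI := A.finite
  obtain ⟨g', hg', q, hq, hgq⟩ : ∃ g', (g' ∈ A.PC c a ∧ g' ≠ 1) ∧ ∃ q, q.Prime ∧ g' ^ q = 1 := by
    obtain ⟨q, hq, hdvd⟩ := Nat.exists_prime_and_dvd (fun e => hg1 (orderOf_eq_one_iff.mp e) : orderOf g ≠ 1)
    refine ⟨g ^ (orderOf g / q), ⟨pow_mem hg _, fun e => ?_⟩, q, hq, ?_⟩
    · have := orderOf_dvd_of_pow_eq_one e
      have hlt := Nat.div_lt_self (orderOf_pos g) hq.one_lt
      have := Nat.le_of_dvd (Nat.div_pos (Nat.le_of_dvd (orderOf_pos g) hdvd) hq.pos) this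
      omega
    · rw [← pow_mul, Nat.div_mul_cancel hdvd, pow_orderOf_eq_one]
  -- an elation with another centre has order dividing `q`
  have key : ∀ {x y : P} {u k : G}, π.I x a → π.I y a → x ≠ y → u ∈ A.PC x a → u ≠ 1 → u ^ q = 1 →
      k ∈ A.PC y a → k ^ q = 1 := by
    intro x y u k hx hy hxy hu hu1 huq hk
    by_cases hk1 : k = 1
    · rw [hk1, one_pow]
    obtain ⟨z, hz, hzm⟩ := A.El_centre (mul_mem (A.PC_le_El hx hu) (A.PC_le_El hy hk))
    have hzy : z ≠ y := by
      rintro rfl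
      have : u ∈ A.central z := by
        simpa using (A.central z).mul_mem hzm.2 ((A.central z).inv_mem hk.2)
      exact hu1 (A.two_centres hu.2 this hxy)
    have h1 : (u * k) ^ q ∈ A.central z := pow_mem hzm.2 q
    rw [(A.PC_comm hxy hx hy hu hk).mul_pow, huq, one_mul] at h1
    exact A.two_centres h1 (pow_mem hk.2 q) hzy
  refine ⟨q, hq, fun k hk => ?_⟩
  obtain ⟨e, he, hke⟩ := A.El_centre hk
  rcases eq_or_ne c e with rfl | hce
  · exact key hd he hne.symm hh hh1 (key hc hd hne hg'.1 hg'.2 hgq hh) hke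
  · exact key hc he hce hg'.1 hg'.2 hgq hke

theorem El_comm {c d : P} {a : L} (hne : c ≠ d) (hc : π.I c a) (hd : π.I d a) {g h : G} (hg : g ∈ A.PC c a)
    (hg1 : g ≠ 1) (hh : h ∈ A.PC d a) (hh1 : h ≠ 1) {s t : G} (hs : s ∈ A.El a) (ht : t ∈ A.El a) :
    Commute s t := by
  by_cases hs1 : s = 1
  · subst hs1; exact Commute.one_left t
  obtain ⟨x, hx, hsx⟩ := A.El_centre hs
  obtain ⟨y, hy, hty⟩ := A.El_centre ht
  rcases eq_or_ne x y with rfl | hxy
  swap
  · exact A.PC_comm hxy hx hy hsx hty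
  obtain ⟨e, he, hex, u, hu, hu1⟩ : ∃ e, π.I e a ∧ e ≠ x ∧ ∃ u, u ∈ A.PC e a ∧ u ≠ 1 := by
    rcases eq_or_ne c x with rfl | h'
    · exact ⟨d, hd, hne.symm, h, hh, hh1⟩
    · exact ⟨c, hc, h', g, hg, hg1⟩
  obtain ⟨z, hz, hzm⟩ := A.El_centre (mul_mem hs (A.PC_le_El he hu))
  have hzx : z ≠ x := by
    rintro rfl
    have : u ∈ A.central z := by
      simpa using (A.central z).mul_mem ((A.central z).inv_mem hsx.2) hzm.2
    exact hu1 (A.two_centres hu.2 this hex)
  have h1 : Commute t (s * u) := A.PC_comm hzx.symm hx hz hty hzm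
  have h2 : Commute t u := A.PC_comm hex.symm hx he hty hu
  have h3 : Commute t (s * u * u⁻¹) := h1.mul_right h2.inv_right
  rw [mul_inv_cancel_right] at h3
  exact h3.symm

/-- The number of elations, counted by centres. -/
theorem card_El (a : L) {e : ℕ} (he : 1 ≤ e) (hconst : ∀ c, π.I c a → Nat.card (A.PC c a) = e) :
    Nat.card (A.El a) = 1 + (π.n + 1) * (e - 1) := by
  classical
  haveI := A.finite
  haveI := Fintype.ofFinite G
  haveI := Fintype.ofFinite P
  have hun : (Finset.univ.filter fun g => g ∈ A.El a).erase 1 =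
      (Finset.univ.filter fun c => π.I c a).biUnion fun c => (Finset.univ.filter fun g => g ∈ A.PC c a).erase 1 := by
    ext g
    simp only [Finset.mem_erase, Finset.mem_biUnion, Finset.mem_filter, Finset.mem_univ, true_and]
    constructor
    · rintro ⟨h1, h2⟩; obtain ⟨c, hc, hg⟩ := A.El_centre h2; exact ⟨c, hc, h1, hg⟩
    · rintro ⟨c, hc, h1, hg⟩; exact ⟨h1, A.PC_le_El hc hg⟩
  have hdisj : Set.PairwiseDisjoint (↑(Finset.univ.filter fun c => π.I c a) : Set P)
      fun c => (Finset.univ.filter fun g => g ∈ A.PC c a).erase 1 := by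
    intro c _ d _ hcd
    simp only [Function.onFun, Finset.disjoint_left, Finset.mem_erase, Finset.mem_filter, Finset.mem_univ, true_and]
    rintro g ⟨h1, h2⟩ ⟨-, h3⟩
    exact h1 (A.two_centres h2.2 h3.2 hcd)
  have h1 := congrArg Finset.card hun
  rw [Finset.card_biUnion hdisj, Finset.card_erase_of_mem (by simp [one_mem]), ← Fintype.card_subtype,
    ← Nat.card_eq_fintype_card] at h1
  rw [Finset.sum_congr rfl fun c hc => show
      ((Finset.univ.filter fun g => g ∈ A.PC c a).erase 1).card = e - 1 by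
    rw [Finset.card_erase_of_mem (by simp [one_mem]), ← Fintype.card_subtype, ← Nat.card_eq_fintype_card,
      hconst c (by simpa using hc)]] at h1
  rw [Finset.sum_const, ← Fintype.card_subtype, ← Nat.card_eq_fintype_card, π.card_line a, smul_eq_mul] at h1
  have : 0 < Nat.card (A.El a) := Nat.card_pos
  omega

theorem full_of_const (a : L) {e : ℕ} (he : 2 ≤ e) (hconst : ∀ c, π.I c a → Nat.card (A.PC c a) = e) :
    e = π.n ∧ Nat.card (A.El a) = π.n ^ 2 := by
  have hn := π.one_lt_n
  obtain ⟨c, hc, -⟩ := π.exists_other a (π.meet a a)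
  have h1 : e ∣ π.n := hconst c hc ▸ A.card_PC_dvd hc
  have h2 := A.card_El a (by omega) hconst
  have h3 : e = π.n := count_arith he h1 (by omega) (h2 ▸ A.card_El_dvd a)
  refine ⟨h3, ?_⟩
  rw [h2, h3]
  obtain ⟨k, hk⟩ : ∃ k, π.n = k + 1 := ⟨π.n - 1, by omega⟩
  rw [hk, Nat.add_sub_cancel]; ring

end Act

end CfsgLib.TTP
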