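import Mathlib

set_option autoImplicit false
set_option linter.unusedSectionVars false

/-!
Sylow subgroups of subgroups, and p-parts of elements.
-/

namespace CfsgLib.TTP

variable {G : Type*} [Group G]

/-- `T` is a Sylow `q`-subgroup of the subgroup `H`. -/
def SylowIn (q : ℕ) (T H : Subgroup G) : Prop := IsPGroup q T ∧ T ≤ H ∧ ¬ q ∣ T.relIndex H

theorem mem_normalizer_of_conj [Finite G] {H : Subgroup G} {g : G} (h : ∀ x ∈ H, g * x * g⁻¹ ∈ H) :
    g ∈ Subgroup.normalizer (H : Set G) := by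
  refine Subgroup.mem_normalizer_iff.mpr fun x => ⟨h x, fun hx => ?_⟩
  have hinj : Function.Injective (fun y : H => (⟨g * y.1 * g⁻¹, h y y.2⟩ : H)) := fun a b e =>
    Subtype.ext (by simpa using congrArg Subtype.val e)
  obtain ⟨y, hy⟩ := (Finite.injective_iff_surjective.mp hinj) ⟨_, hx⟩
  have e : g * y.1 * g⁻¹ = g * x * g⁻¹ := congrArg Subtype.val hy
  rw [mul_left_inj, mul_right_inj] at e
  exact e ▸ y.2

theorem card_conj (g : G) (H H' : Subgroup G) (h : ∀ x, g * x * g⁻¹ ∈ H' ↔ x ∈ H) :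
    Nat.card H = Nat.card H' :=
  Nat.card_congr ((MulAut.conj g).toEquiv.subtypeEquiv fun x => (h x).symm)

theorem card_map_conj (g : G) (T : Subgroup G) :
    Nat.card (T.map (MulAut.conj g).toMonoidHom) = Nat.card T :=
  Nat.card_congr (Subgroup.equivMapOfInjective T _ (MulEquiv.injective _)).symm.toEquiv

theorem isPGroup_map_conj {q : ℕ} (g : G) {T : Subgroup G} (hT : IsPGroup q T) :
    IsPGroup q (T.map (MulAut.conj g).toMonoidHom) :=
  hT.map _

/-- The p-part of an element. -/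
theorem exists_p_part [Finite G] (g : G) {q : ℕ} (hq : q.Prime) :
    ∃ b, Nat.Coprime b q ∧ ∃ a, (g ^ b) ^ q ^ a = 1 := by
  refine ⟨orderOf g / q ^ (orderOf g).factorization q, ?_, (orderOf g).factorization q, ?_⟩
  · exact (Nat.coprime_ordCompl hq (orderOf_pos g).ne').symm
  · rw [← pow_mul, Nat.div_mul_cancel (Nat.ordProj_dvd _ _), pow_orderOf_eq_one]

theorem isPGroup_zpowers {q a : ℕ} (hq : q.Prime) {g : G} (h : g ^ q ^ a = 1) :
    IsPGroup q (Subgroup.zpowers g) := by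
  haveI : Fact q.Prime := ⟨hq⟩
  obtain ⟨i, -, hi⟩ := (Nat.dvd_prime_pow hq).mp (orderOf_dvd_of_pow_eq_one h)
  exact IsPGroup.of_card (by rw [Nat.card_zpowers, hi])

theorem isPGroup_sup_zpowers {q a : ℕ} (hq : q.Prime) {T : Subgroup G} (hT : IsPGroup q T) {g : G}
    (h : g ^ q ^ a = 1) (hg : g ∈ Subgroup.normalizer (T : Set G)) : IsPGroup q (T ⊔ Subgroup.zpowers g : Subgroup G) :=
  hT.to_sup_of_normal_left' (isPGroup_zpowers hq h) (Subgroup.zpowers_le.mpr hg)

/-- The smallest 2-power power outside a set closed under squaring. -/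
theorem exists_last_power {P : G → Prop} {g : G} (hg : ¬ P g) {a : ℕ} (ha : P (g ^ 2 ^ a)) :
    ∃ j, ¬ P (g ^ 2 ^ j) ∧ P (g ^ 2 ^ j * g ^ 2 ^ j) := by
  induction a with
  | zero => rw [pow_zero, pow_one] at ha; exact absurd ha hg
  | succ a ih =>
    by_cases h : P (g ^ 2 ^ a)
    · exact ih h
    · exact ⟨a, h, by rw [← pow_add]; rwa [pow_succ, mul_two] at ha⟩

namespace SylowIn

variable [Finite G] {q : ℕ} [Fact q.Prime]

theorem exists_ge {K H : Subgroup G} (hK : IsPGroup q K) (hKH : K ≤ H) :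
    ∃ T : Subgroup G, K ≤ T ∧ SylowIn q T H := by
  obtain ⟨Q, hQ⟩ := (hK.of_equiv (Subgroup.subgroupOfEquivOfLe hKH).symm).exists_le_sylow
  refine ⟨(Q : Subgroup H).map H.subtype, fun x hx => ⟨⟨x, hKH hx⟩, hQ hx, rfl⟩, Q.2.map _,
    Subgroup.map_subtype_le _, ?_⟩
  rw [Subgroup.relIndex, Subgroup.subgroupOf, Subgroup.comap_map_eq_self_of_injective Subtype.val_injective]
  exact Q.not_dvd_index

theorem conj_le {T H K : Subgroup G} (hT : SylowIn q T H) (hK : IsPGroup q K) (hKH : K ≤ H) :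
    ∃ h ∈ H, ∀ x ∈ K, h * x * h⁻¹ ∈ T := by
  obtain ⟨hTp, hTH, hTi⟩ := hT
  set Q : Sylow q H := (hTp.of_equiv (Subgroup.subgroupOfEquivOfLe hTH).symm).toSylow hTi
  obtain ⟨R, hR⟩ := (hK.of_equiv (Subgroup.subgroupOfEquivOfLe hKH).symm).exists_le_sylow
  obtain ⟨h, hh⟩ := MulAction.exists_smul_eq H R Q
  refine ⟨h, h.2, fun x hx => ?_⟩
  have h1 : (MulAut.conj h) ⟨x, hKH hx⟩ ∈ ((h • R : Sylow q H) : Subgroup H) :=
    Subgroup.smul_mem_pointwise_smul _ _ _ (hR hx)
  rw [hh] at h1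
  exact h1

theorem eq_of_le {T H K : Subgroup G} (hT : SylowIn q T H) (hK : IsPGroup q K) (hTK : T ≤ K) (hKH : K ≤ H) :
    K = T := by
  refine le_antisymm ?_ hTK
  rw [← Subgroup.relIndex_eq_one]
  obtain ⟨k, hk⟩ := IsPGroup.iff_card.mp hK
  have h1 : T.relIndex K ∣ q ^ k := hk ▸ Subgroup.index_dvd_card _
  obtain ⟨i, -, hi⟩ := (Nat.dvd_prime_pow (Fact.out : q.Prime)).mp h1
  rcases i.eq_zero_or_pos with rfl | hpos
  · rw [hi, pow_zero]
  · exact absurd ((hi ▸ dvd_pow_self q hpos.ne' : q ∣ T.relIndex K).trans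
      ⟨K.relIndex H, (Subgroup.relIndex_mul_relIndex T K H hTK hKH).symm⟩) hT.2.2

theorem of_card {T H T' H' : Subgroup G} (hT : SylowIn q T H) (hp : IsPGroup q T') (hle : T' ≤ H')
    (hc : Nat.card T' = Nat.card T) (hH : Nat.card H' = Nat.card H) : SylowIn q T' H' := by
  refine ⟨hp, hle, ?_⟩
  have e1 : Nat.card T * T.relIndex H = Nat.card H := by
    rw [Subgroup.relIndex, ← Nat.card_congr (Subgroup.subgroupOfEquivOfLe hT.2.1).toEquiv]
    exact Subgroup.card_mul_index _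
  have e2 : Nat.card T' * T'.relIndex H' = Nat.card H' := by
    rw [Subgroup.relIndex, ← Nat.card_congr (Subgroup.subgroupOfEquivOfLe hle).toEquiv]
    exact Subgroup.card_mul_index _
  rw [hc, hH, ← e1] at e2
  rw [Nat.eq_of_mul_eq_mul_left Nat.card_pos e2]
  exact hT.2.2

/-- Witt: a map between the fixed data can be corrected into the normaliser. -/
theorem exists_normalizing {T H : Subgroup G} (hT : SylowIn q T H) {g : G}
    (hg : ∀ x ∈ T, g * x * g⁻¹ ∈ H) : ∃ h ∈ H, h * g ∈ Subgroup.normalizer (T : Set G) := by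
  obtain ⟨h, hh, hconj⟩ := hT.conj_le (isPGroup_map_conj g hT.1) (by
    rintro _ ⟨x, hx, rfl⟩; exact hg x hx)
  refine ⟨h, hh, mem_normalizer_of_conj fun x hx => ?_⟩
  have := hconj (g * x * g⁻¹) ⟨x, hx, rfl⟩
  simpa [mul_assoc, mul_inv_rev] using this

end SylowIn

/-- A proper subgroup of a p-group has a strictly larger normaliser inside it. -/
theorem exists_normalizer_outside [Finite G] {q : ℕ} [Fact q.Prime] {T S : Subgroup G} (hS : IsPGroup q S)
    (hlt : T < S) : ∃ z ∈ S, z ∉ T ∧ z ∈ Subgroup.normalizer (T : Set G) := by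
  haveI : Group.IsNilpotent S := hS.isNilpotent
  have hne : T.subgroupOf S < ⊤ :=
    lt_of_le_of_ne le_top fun e => not_le_of_gt hlt fun x hx => (e ▸ Subgroup.mem_top _ : (⟨x, hx⟩ : S) ∈ T.subgroupOf S)
  obtain ⟨⟨z, hzS⟩, hz, hzT⟩ := SetLike.exists_of_lt (Group.normalizerCondition_of_isNilpotent _ hne)
  refine ⟨z, hzS, hzT, mem_normalizer_of_conj fun x hx => ?_⟩
  exact (Subgroup.mem_normalizer_iff.mp hz ⟨x, hlt.le hx⟩).mp hx

end CfsgLib.TTP
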