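import Cfsg.Agent.Lib.TwoTransPlane.Persp

set_option autoImplicit false
set_option linter.unusedSectionVars false

/-!
Doubly transitive collineation groups: transitivity on flags, antiflags and lines, and the elations
which come from a single perspectivity.
-/

namespace CfsgLib.TTP

universe u v w

namespace Act

variable {P : Type u} {L : Type v} {π : Pl P L} {G : Type w} [Group G] [Finite P] [Finite L]
variable (A : Act π G)

/-- Double transitivity on points. -/
def Two : Prop := ∀ x y x' y', x ≠ y → x' ≠ y' → ∃ g, A.p g x = x' ∧ A.p g y = y'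

/-- Transitivity on non-incident point-line pairs. -/
def AntiTrans : Prop := ∀ x a x' a', ¬ π.I x a → ¬ π.I x' a' → ∃ g, A.p g x = x' ∧ A.l g a = a'

theorem conj_stP {g h : G} {x : P} : g * h * g⁻¹ ∈ A.stP (A.p g x) ↔ h ∈ A.stP x := by
  rw [mem_stP, mem_stP, A.p_mul, A.p_mul, A.p_inv_apply]
  exact (A.p g).apply_eq_iff_eq

/-- At most two orbits. -/
theorem two_orbits (H : Subgroup G) (S : Set P)
    (h : ∀ x y, (x ∈ S ↔ y ∈ S) → ∃ g ∈ H, A.p g x = y) : Nat.card (Quotient (A.orbP H)) ≤ 2 := by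
  classical
  have hinj : Function.Injective fun c : Quotient (A.orbP H) => decide (c.out ∈ S) := by
    intro c d e
    rw [← Quotient.out_eq c, ← Quotient.out_eq d]
    exact Quotient.sound (A.orbP_r.mpr (h d.out c.out (decide_eq_decide.mp e).symm))
  have := Nat.card_le_card_of_injective _ hinj
  simpa using this

/-- With two orbits on lines, an invariant set of lines is one orbit. -/
theorem trans_of_two_orbits (H : Subgroup G) (h : Nat.card (Quotient (A.orbP H)) ≤ 2) (T : Set P)
    (hT : ∀ g ∈ H, ∀ x, x ∈ T → A.p g x ∈ T) {z : P} (hz : z ∉ T) {x y : P} (hx : x ∈ T) (hy : y ∈ T) :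
    ∃ g ∈ H, A.p g x = y := by
  classical
  by_contra hno
  haveI : Fintype (Quotient (A.orbP H)) := Fintype.ofFinite _
  have hne : ∀ {a b : P}, (¬ ∃ g ∈ H, A.p g b = a) → (Quotient.mk (A.orbP H) a) ≠ Quotient.mk _ b := fun hn e =>
    hn (A.orbP_r.mp (Quotient.exact e))
  have h1 := hne (a := y) (b := x) hno
  have h2 := hne (a := z) (b := x) fun ⟨g, hg, e⟩ => hz (e ▸ hT g hg x hx)
  have h3 := hne (a := z) (b := y) fun ⟨g, hg, e⟩ => hz (e ▸ hT g hg y hy)
  have := Fintype.two_lt_card_iff.mpr ⟨_, _, _, h1, h3.symm, h2.symm⟩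
  rw [← Nat.card_eq_fintype_card] at this
  omega

variable {A}

theorem AntiTrans.dual (h : A.AntiTrans) : A.dual.AntiTrans := fun a x a' x' h1 h2 =>
  (h x a x' a' h1 h2).imp fun _ e => ⟨e.2, e.1⟩

theorem Two.flag (h : A.Two) {x : P} {a : L} {x' : P} {a' : L} (hx : π.I x a) (hx' : π.I x' a') :
    ∃ g, A.p g x = x' ∧ A.l g a = a' := by
  obtain ⟨y, hy, hyx⟩ := π.exists_other a x
  obtain ⟨y', hy', hyx'⟩ := π.exists_other a' x'
  obtain ⟨g, h1, h2⟩ := h x y x' y' hyx.symm hyx'.symm
  refine ⟨g, h1, ?_⟩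
  rw [← π.join_eq hyx.symm hx hy, A.map_join g hyx.symm, h1, h2, π.join_eq hyx'.symm hx' hy']

theorem Two.pencils (h : A.Two) (x : P) : Nat.card (Quotient (A.dual.orbP (A.stP x))) ≤ 2 := by
  rw [← A.card_orbits]
  refine A.two_orbits _ {x} fun y z hyz => ?_
  rcases eq_or_ne y x with rfl | hy
  · have hz : z = y := hyz.mp rfl
    exact ⟨1, one_mem _, by simp [hz]⟩
  · have hz : z ≠ x := fun e => hy (hyz.mpr e)
    obtain ⟨g, h1, h2⟩ := h x y x z hy.symm hz.symm
    exact ⟨g, h1, h2⟩

theorem Two.antiTrans (h : A.Two) : A.AntiTrans := by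
  intro x a x' a' hx hx'
  obtain ⟨b, hb, -⟩ := π.exists_other_line x a
  obtain ⟨b', hb', -⟩ := π.exists_other_line x' a'
  obtain ⟨g, hg, -⟩ := h.flag hb hb'
  obtain ⟨k, hk, hka⟩ := A.dual.trans_of_two_orbits (A.stP x') (h.pencils x') {c | ¬ π.I x' c}
    (fun k hk c hc e => hc (by rw [← A.inc k, (hk : A.p k x' = x')]; exact e))
    (z := b') (fun e => e hb') (x := A.l g a) (fun e => hx ((A.inc g x a).mp (hg.symm ▸ e))) hx'
  exact ⟨k * g, by rw [A.p_mul, hg]; exact hk, by rw [A.l_mul]; exact hka⟩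

theorem Two.dual (h : A.Two) : A.dual.Two := by
  intro a b a' b' hab hab'
  obtain ⟨x, hx, -⟩ := π.exists_other a (π.meet a a)
  obtain ⟨x', hx', -⟩ := π.exists_other a' (π.meet a' a')
  obtain ⟨g, -, hg⟩ := h.flag hx hx'
  have hc : Nat.card (Quotient (A.dual.orbP (A.stL a'))) ≤ 2 := by
    rw [← A.card_orbits]
    refine A.two_orbits _ {y | π.I y a'} fun y z hyz => ?_
    by_cases hy : π.I y a'
    · obtain ⟨k, h1, h2⟩ := h.flag hy (hyz.mp hy); exact ⟨k, h2, h1⟩
    · obtain ⟨k, h1, h2⟩ := h.antiTrans y a' z a' hy fun e => hy (hyz.mpr e)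
      exact ⟨k, h2, h1⟩
  obtain ⟨k, hk, hkb⟩ := A.dual.trans_of_two_orbits (A.stL a') hc {c | c ≠ a'}
    (fun k hk c hc e => hc ((A.l k).injective (e.trans (hk : A.l k a' = a').symm)))
    (z := a') (fun e => e rfl) (x := A.l g b)
    (fun e => hab ((A.l g).injective (hg.trans e.symm))) hab'.symm
  exact ⟨k * g, by change A.l (k * g) a = a'; rw [A.l_mul, hg]; exact hk, by
    change A.l (k * g) b = b'; rw [A.l_mul]; exact hkb⟩

theorem AntiTrans.pencil (h : A.AntiTrans) {W : P} {k a b : L} (hk : π.I W k) (ha : π.I W a) (hb : π.I W b)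
    (hak : a ≠ k) (hbk : b ≠ k) : ∃ g, A.p g W = W ∧ A.l g k = k ∧ A.l g a = b := by
  classical
  obtain ⟨s, hs⟩ := π.exists_off k
  -- a line goes to the class of the point where it meets `k`
  let Φ₀ : L → Quotient (A.orbP (A.stL k)) := fun c => Quotient.mk _ (if c = k then s else π.meet c k)
  have hwd : ∀ c d, (A.dual.orbP (A.stL k)).r c d → Φ₀ c = Φ₀ d := by
    intro c d hcd
    obtain ⟨g, hg, rfl⟩ := A.dual.orbP_r.mp hcd
    have hgk : A.l g k = k := hg
    by_cases hd : d = k
    · subst hd; rw [show A.dual.p g d = d from hgk]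
    · have hc : A.l g d ≠ k := fun e => hd ((A.l g).injective (e.trans hgk.symm))
      refine Quotient.sound (A.orbP_r.mpr ⟨g, hg, ?_⟩)
      rw [dual_p, if_neg hd, if_neg hc, A.map_meet g hd, hgk]
  let Φ : Quotient (A.dual.orbP (A.stL k)) → Quotient (A.orbP (A.stL k)) := Quotient.lift Φ₀ hwd
  have hsurj : Function.Surjective Φ := by
    intro c
    induction c using Quotient.inductionOn with
    | _ y =>
      by_cases hy : π.I y k
      · obtain ⟨c, hc, hck⟩ := π.exists_other_line y k
        refine ⟨Quotient.mk _ c, ?_⟩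
        change Quotient.mk _ (if c = k then s else π.meet c k) = _
        rw [if_neg hck, π.meet_eq hck hc hy]
      · refine ⟨Quotient.mk _ k, ?_⟩
        change Quotient.mk _ (if k = k then s else π.meet k k) = _
        rw [if_pos rfl]
        obtain ⟨g, hg1, hg2⟩ := h y k s k hy hs
        exact Quotient.sound (A.orbP_r.mpr ⟨g, hg2, hg1⟩)
  have hbij : Function.Bijective Φ :=
    (Nat.bijective_iff_surjective_and_card Φ).mpr ⟨hsurj, (A.card_orbits _).symm⟩
  have e : Φ (Quotient.mk _ b) = Φ (Quotient.mk _ a) := by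
    change Quotient.mk _ (if b = k then s else π.meet b k) = Quotient.mk _ (if a = k then s else π.meet a k)
    rw [if_neg hbk, if_neg hak, π.meet_eq hbk hb hk, π.meet_eq hak ha hk]
  obtain ⟨g, hg, hgab⟩ := A.dual.orbP_r.mp (Quotient.exact (hbij.1 e))
  have hgk : A.l g k = k := hg
  refine ⟨g, ?_, hgk, hgab⟩
  have := A.map_meet g hak
  rwa [show A.l g a = b from hgab, hgk, π.meet_eq hak ha hk, π.meet_eq hbk hb hk] at this

theorem AntiTrans.two (h : A.AntiTrans) : A.Two := by
  classical
  have hstab : ∀ x y z : P, y ≠ x → z ≠ x → ∃ g ∈ A.stP x, A.p g y = z := by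
    intro x y z hy hz
    have hlines : Nat.card (Quotient (A.orbP (A.stP x))) ≤ 2 := by
      rw [A.card_orbits]
      refine A.dual.two_orbits _ {c | π.I x c} fun c d hcd => ?_
      by_cases hc : π.I x c
      · obtain ⟨m, hm, hmc, hmd⟩ := π.exists_third_line x c d
        obtain ⟨g, h1, -, h3⟩ := h.pencil hm hc (hcd.mp hc) hmc.symm hmd.symm
        exact ⟨g, h1, h3⟩
      · exact h x c x d hc fun e => hc (hcd.mpr e)
    exact A.trans_of_two_orbits _ hlines {y | y ≠ x}
      (fun g hg y hy e => hy ((A.p g).injective (e.trans (hg : A.p g x = x).symm))) (z := x)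
      (fun e => e rfl) hy hz
  intro x y x' y' hxy hxy'
  obtain ⟨a, ha, ha'⟩ := π.exists_line_off_two x x'
  obtain ⟨g, hg, -⟩ := h x a x' a ha ha'
  obtain ⟨k, hk, hky⟩ := hstab x' (A.p g y) y'
    (fun e => hxy ((A.p g).injective (hg.trans e.symm))) hxy'.symm
  exact ⟨k * g, by rw [A.p_mul, hg]; exact hk, by rw [A.p_mul, hky]⟩

/-- A perspectivity in a doubly transitive group gives all elations. -/
theorem Two.full (h : A.Two) (hp : ∃ g, g ≠ 1 ∧ ∃ c a, g ∈ A.PC c a) (a : L) :
    Nat.card (A.El a) = π.n ^ 2 ∧ ∀ c, π.I c a → Nat.card (A.PC c a) = π.n := by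
  classical
  haveI := A.finite
  have hnlt := π.one_lt_n
  have hel : ∃ c a, π.I c a ∧ 2 ≤ Nat.card (A.PC c a) := by
    by_contra! hno
    obtain ⟨g, hg1, c, a, hg⟩ := hp
    have htwo : 2 ≤ Nat.card (A.PC c a) := (Subgroup.one_lt_card_iff_ne_bot _).mpr fun e => hg1 (by simpa [e] using hg)
    have hca : ¬ π.I c a := fun e => absurd htwo (not_le.mpr (hno c a e))
    set s := Nat.card (A.PC c a)
    have hs : ∀ x, ¬ π.I x a → Nat.card (A.PC x a) = s := fun x hx => by
      obtain ⟨k, h1, h2⟩ := h.antiTrans c a x a hca hx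
      have := A.card_PC_map k c a
      rwa [h1, h2] at this
    haveI := Fintype.ofFinite G
    haveI := Fintype.ofFinite P
    have hun : (Finset.univ.filter fun g => g ∈ A.axial a).erase 1 =
        (Finset.univ.filter fun x => ¬ π.I x a).biUnion
          fun x => (Finset.univ.filter fun g => g ∈ A.PC x a).erase 1 := by
      ext k
      simp only [Finset.mem_erase, Finset.mem_biUnion, Finset.mem_filter, Finset.mem_univ, true_and]
      constructor
      · rintro ⟨hk1, hk⟩
        obtain ⟨x, hx⟩ := A.exists_centre hk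
        refine ⟨x, fun hxa => ?_, hk1, hk, hx⟩
        have := hno x a hxa
        exact hk1 (by
          have e : A.PC x a = ⊥ := Subgroup.card_eq_one.mp (by have : 0 < Nat.card (A.PC x a) := Nat.card_pos; omega)
          have hmem : k ∈ A.PC x a := ⟨hk, hx⟩
          simpa [e] using hmem)
      · rintro ⟨x, -, hk1, hk⟩; exact ⟨hk1, hk.1⟩
    have hdisj : Set.PairwiseDisjoint (↑(Finset.univ.filter fun x => ¬ π.I x a) : Set P)
        fun x => (Finset.univ.filter fun g => g ∈ A.PC x a).erase 1 := by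
      intro x _ y _ hxy
      simp only [Function.onFun, Finset.disjoint_left, Finset.mem_erase, Finset.mem_filter, Finset.mem_univ, true_and]
      rintro k ⟨h1, h2⟩ ⟨-, h3⟩
      exact h1 (A.two_centres h2.2 h3.2 hxy)
    have h1 := congrArg Finset.card hun
    rw [Finset.card_biUnion hdisj, Finset.card_erase_of_mem (by simp [one_mem]), ← Fintype.card_subtype,
      ← Nat.card_eq_fintype_card, Finset.sum_congr rfl fun x hx => show
        ((Finset.univ.filter fun g => g ∈ A.PC x a).erase 1).card = s - 1 by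
          rw [Finset.card_erase_of_mem (by simp [one_mem]), ← Fintype.card_subtype, ← Nat.card_eq_fintype_card,
            hs x (by simpa using hx)],
      Finset.sum_const, ← Fintype.card_subtype, ← Nat.card_eq_fintype_card, π.card_off a, smul_eq_mul] at h1
    -- every point off the axis has a stabiliser of order `s`
    letI : MulAction (A.axial a) {x // ¬ π.I x a} :=
      { smul := fun k x => ⟨A.p (k : G) x, fun e => x.2 (by
          rw [← A.inc (k : G), show A.l (k : G) a = a from A.axial_le_stL a k.2]; exact e)⟩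
        one_smul := fun x => Subtype.ext (show A.p ((1 : A.axial a) : G) x = x by simp)
        mul_smul := fun k m x => Subtype.ext (A.p_mul _ _ _) }
    have hst : ∀ x : {x // ¬ π.I x a}, Nat.card (MulAction.stabilizer (A.axial a) x) = s := fun x => by
      rw [← hs x x.2]
      exact Nat.card_congr
        { toFun := fun k => ⟨k.1.1, k.1.2, A.central_of_fix k.1.2 x.2 (congrArg Subtype.val k.2)⟩
          invFun := fun k => ⟨⟨k.1, k.2.1⟩, Subtype.ext (A.central_le_stP x.1 k.2.2)⟩
          left_inv := fun k => rfl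
          right_inv := fun k => rfl }
    haveI := Fintype.ofFinite (A.axial a)
    haveI := Fintype.ofFinite {x // ¬ π.I x a}
    haveI := Fintype.ofFinite (MulAction.orbitRel.Quotient (A.axial a) {x // ¬ π.I x a})
    have h2 := MulAction.sum_card_fixedBy_eq_card_orbits_mul_card_group (A.axial a) {x // ¬ π.I x a}
    have h3 : ∑ k : A.axial a, Fintype.card (MulAction.fixedBy {x // ¬ π.I x a} k) =
        ∑ x : {x // ¬ π.I x a}, Fintype.card (MulAction.stabilizer (A.axial a) x) := by
      rw [← Fintype.card_sigma, ← Fintype.card_sigma]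
      exact Fintype.card_congr
        { toFun := fun q => ⟨q.2.1, q.1, q.2.2⟩
          invFun := fun q => ⟨q.2.1, q.1, q.2.2⟩
          left_inv := fun q => rfl
          right_inv := fun q => rfl }
    rw [h3, Finset.sum_congr rfl fun x _ => (Nat.card_eq_fintype_card (α := MulAction.stabilizer (A.axial a) x)).symm.trans (hst x),
      Finset.sum_const, Finset.card_univ, ← Nat.card_eq_fintype_card, π.card_off a, smul_eq_mul,
      ← Nat.card_eq_fintype_card, ← Nat.card_eq_fintype_card] at h2
    obtain ⟨t, ht⟩ : ∃ t, s = t + 1 := ⟨s - 1, by omega⟩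
    have hK : Nat.card (A.axial a) = 1 + π.n ^ 2 * t := by
      have : 0 < Nat.card (A.axial a) := Nat.card_pos
      rw [ht, Nat.add_sub_cancel] at h1; omega
    have h4 : 1 + π.n ^ 2 * t ∣ π.n ^ 2 * s := ⟨_, by rw [h2, hK, mul_comm]⟩
    have h5 : Nat.Coprime (1 + π.n ^ 2 * t) (π.n ^ 2) := by
      rw [Nat.coprime_comm, Nat.coprime_add_mul_left_right]; exact Nat.coprime_one_right _
    have h6 := Nat.le_of_dvd (by omega) (h5.dvd_of_dvd_mul_left h4)
    have : 2 * t ≤ π.n ^ 2 * t := Nat.mul_le_mul_right t (by nlinarith)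
    omega
  obtain ⟨c₀, a₀, hc₀, he⟩ := hel
  have hconst : ∀ a c, π.I c a → Nat.card (A.PC c a) = Nat.card (A.PC c₀ a₀) := fun a c hc => by
    obtain ⟨k, h1, h2⟩ := h.flag hc₀ hc
    have := A.card_PC_map k c₀ a₀
    rwa [h1, h2] at this
  obtain ⟨h1, h2⟩ := A.full_of_const a he (hconst a)
  exact ⟨h2, fun c hc => (hconst a c hc).trans h1⟩

end Act

end CfsgLib.TTP
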