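import Cfsg.Agent.Lib.TwoTransPlane.GeomAll
import Cfsg.Agent.Lib.TwoTransPlane.Trans
import Cfsg.Agent.Lib.TwoTransPlane.SylowTools

set_option autoImplicit false
set_option linter.unusedSectionVars false

/-!
The order of a plane with a doubly transitive collineation group is a prime power: a maximal 2-subgroup
fixing a quadrangle leaves a subplane on which every involution is a perspectivity.
-/

namespace CfsgLib.TTP

universe u v w

namespace Act

variable {P : Type u} {L : Type v} {π : Pl P L} {G : Type w} [Group G] [Finite P] [Finite L]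
variable (A : Act π G)

theorem quad_dual_iff {H : Subgroup G} : π.dual.Quad (A.Fl H) ↔ π.Quad (A.Fx H) :=
  ⟨A.dual.quad_dual (H := H), A.quad_dual⟩

/-- A maximal 2-subgroup with a quadrangle of fixed points. -/
def MaxQuad (R : Subgroup G) : Prop :=
  IsPGroup 2 R ∧ π.Quad (A.Fx R) ∧ ∀ K : Subgroup G, R ≤ K → IsPGroup 2 K → π.Quad (A.Fx K) → K = R

variable {A}

theorem MaxQuad.dual {R : Subgroup G} (h : A.MaxQuad R) : A.dual.MaxQuad R :=
  ⟨h.1, A.quad_dual h.2.1, fun K h1 h2 h3 => h.2.2 K h1 h2 (A.quad_dual_iff.mp h3)⟩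

theorem exists_maxQuad : ∃ R, A.MaxQuad R := by
  haveI := A.finite
  obtain ⟨R, hR⟩ := ({R : Subgroup G | IsPGroup 2 R ∧ π.Quad (A.Fx R)}).toFinite.exists_maximal
    ⟨⊥, IsPGroup.of_bot, by rw [A.Fx_bot]; exact Pl.quad_univ⟩
  exact ⟨R, hR.1.1, hR.1.2, fun K h1 h2 h3 => le_antisymm (hR.2 ⟨h2, h3⟩ h1) h1⟩

/-- A 2-element of the normaliser fixing a quadrangle inside the subplane acts trivially. -/
theorem MaxQuad.no_quad [Finite G] {R : Subgroup G} (h : A.MaxQuad R) {g : G}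
    (hg : g ∈ Subgroup.normalizer (R : Set G)) {a : ℕ} (ha : g ^ 2 ^ a = 1)
    (hq : π.Quad {x | x ∈ A.Fx R ∧ A.p g x = x}) {x : P} (hx : x ∈ A.Fx R) : A.p g x = x := by
  haveI : Fact (Nat.Prime 2) := ⟨Nat.prime_two⟩
  have e := h.2.2 (R ⊔ Subgroup.zpowers g) le_sup_left (isPGroup_sup_zpowers Nat.prime_two h.1 ha hg) (hq.mono ?_)
  · exact hx g (e ▸ Subgroup.mem_sup_right (Subgroup.mem_zpowers g))
  · intro y hy k hk
    have hle : R ⊔ Subgroup.zpowers g ≤ A.stP y := sup_le hy.1 (Subgroup.zpowers_le.mpr hy.2)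
    exact hle hk

/-- Any two points of the subplane are fixed by an involution induced by the normaliser. -/
theorem MaxQuad.pair [Finite G] {R : Subgroup G} (h : A.MaxQuad R) (h2 : A.Two) {X Y : P} (hX : X ∈ A.Fx R)
    (hY : Y ∈ A.Fx R) (hne : X ≠ Y) :
    ∃ y ∈ Subgroup.normalizer (R : Set G), (∀ x ∈ A.Fx R, A.p (y * y) x = x) ∧
      (∃ x ∈ A.Fx R, A.p y x ≠ x) ∧ A.p y X = X ∧ A.p y Y = Y := by
  haveI : Fact (Nat.Prime 2) := ⟨Nat.prime_two⟩
  set H := A.stP X ⊓ A.stP Y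
  obtain ⟨S, hRS, hS⟩ := SylowIn.exists_ge h.1 (H := H) (le_inf (fun g hg => hX g hg) fun g hg => hY g hg)
  rcases hRS.lt_or_eq with hlt | heq
  · -- a larger 2-group inside the pair stabiliser
    obtain ⟨z, hzS, hzR, hzN⟩ := exists_normalizer_outside hS.1 hlt
    obtain ⟨a, ha⟩ := hS.1 ⟨z, hzS⟩
    have ha' : z ^ 2 ^ a = 1 := congrArg Subtype.val ha
    let Q : G → Prop := fun g => ∀ x ∈ A.Fx R, A.p g x = x
    have hz : ¬ Q z := fun hQ => hzR <| by
      have e := h.2.2 (R ⊔ Subgroup.zpowers z) le_sup_left (isPGroup_sup_zpowers Nat.prime_two h.1 ha' hzN)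
        (h.2.1.mono fun x hx k hk => (sup_le (fun g hg => hx g hg) (Subgroup.zpowers_le.mpr (hQ x hx)) :
          R ⊔ Subgroup.zpowers z ≤ A.stP x) hk)
      exact e ▸ Subgroup.mem_sup_right (Subgroup.mem_zpowers z)
    obtain ⟨j, hj, hj2⟩ := exists_last_power (P := Q) hz (a := a) (by rw [ha']; simp [Q])
    simp only [Q, not_forall] at hj
    obtain ⟨x, hx, hx'⟩ := hj
    have hmem := pow_mem (hS.2.1 hzS) (2 ^ j)
    exact ⟨z ^ 2 ^ j, pow_mem hzN _, hj2, ⟨x, hx, hx'⟩, hmem.1, hmem.2⟩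
  · -- otherwise `R` is Sylow in every pair stabiliser, which is absurd
    exfalso
    subst heq
    obtain ⟨g, hgX, hgY⟩ := h2 X Y Y X hne hne.symm
    obtain ⟨k, hk, hkg⟩ := hS.exists_normalizing (g := g) fun r hr =>
      ⟨hgY ▸ A.conj_stP.mpr (hY r hr), hgX ▸ A.conj_stP.mpr (hX r hr)⟩
    set w := k * g
    have hwX : A.p w X = Y := by rw [A.p_mul, hgX]; exact hk.2
    have hwY : A.p w Y = X := by rw [A.p_mul, hgY]; exact hk.1
    have hsq : A.p (w * w) X = X := by rw [A.p_mul, hwX, hwY]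
    obtain ⟨b, hb, a, ha⟩ := exists_p_part w Nat.prime_two
    have hbodd : Odd b := Nat.coprime_two_right.mp hb
    have hwb : A.p (w ^ b) X = Y := by
      obtain ⟨c, rfl⟩ := hbodd
      rw [pow_succ', A.p_mul, pow_mul, pow_two]
      rw [show A.p ((w * w) ^ c) X = X from
        (pow_mem (show w * w ∈ A.stP X from hsq) c : _)]
      exact hwX
    let Q : G → Prop := fun g => ∀ x ∈ A.Fx R, A.p g x = x
    have hq : ¬ Q (w ^ b) := fun hQ => hne ((hQ X hX).symm.trans hwb)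
    obtain ⟨j, hj, hj2⟩ := exists_last_power (P := Q) hq (a := a) (by rw [ha]; simp [Q])
    set z := (w ^ b) ^ 2 ^ j
    have hzN : z ∈ Subgroup.normalizer (R : Set G) := pow_mem (pow_mem hkg _) _
    have hza : z ^ 2 ^ a = 1 := by rw [← pow_mul, mul_comm, pow_mul, ha, one_pow]
    set B := A.ind R h.2.1
    set u : ↥(Subgroup.normalizer (R : Set G)) ⧸ (A.resP R).ker := QuotientGroup.mk ⟨z, hzN⟩
    have hu1 : u ≠ 1 := fun e => hj (A.ind_mk_eq_one.mp e)
    let z' : ↥(Subgroup.normalizer (R : Set G)) := ⟨z, hzN⟩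
    have hu2 : u * u = 1 := A.ind_mk_eq_one (g := z' * z').mpr hj2
    obtain ⟨X', Y', hne', hX', hY'⟩ := B.inv_two_points hu2 hu1
    obtain ⟨g', hg'X, hg'Y⟩ := h2 X Y X' Y' hne fun e => hne' (Subtype.ext e)
    set H' := A.stP X'.1 ⊓ A.stP Y'.1
    have hRH' : R ≤ H' := le_inf (fun g hg => X'.2 g hg) fun g hg => Y'.2 g hg
    have hcard : Nat.card H' = Nat.card H := (card_conj g' H H' fun x => by
      simp only [H, H', Subgroup.mem_inf, ← hg'X, ← hg'Y, A.conj_stP]).symm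
    have hS' := hS.of_card h.1 hRH' rfl hcard
    have e := hS'.eq_of_le (isPGroup_sup_zpowers Nat.prime_two h.1 hza hzN) le_sup_left
      (sup_le hRH' (Subgroup.zpowers_le.mpr ⟨congrArg Subtype.val hX', congrArg Subtype.val hY'⟩))
    exact hj fun x hx => hx z (e ▸ Subgroup.mem_sup_right (Subgroup.mem_zpowers z))

/-- The order is a prime power. -/
theorem Two.prime_pow (h2 : A.Two) : IsPrimePow π.n := by
  haveI := A.finite
  obtain ⟨R, hR⟩ := A.exists_maxQuad
  set B := A.ind R hR.2.1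
  have hgeom : B.Geom := by
    refine ⟨fun u hu hu1 => B.inv_persp hu hu1 fun hq => ?_, fun x y hne => ?_, fun a b hne => ?_⟩
    · induction u using QuotientGroup.induction_on with
      | _ y =>
        obtain ⟨b, hb, a, ha⟩ := exists_p_part (y : G) Nat.prime_two
        obtain ⟨c, rfl⟩ : Odd b := Nat.coprime_two_right.mp hb
        have hsq : ∀ x ∈ A.Fx R, A.p ((y : G) * y) x = x := A.ind_mk_eq_one (g := y * y).mp hu
        have hact : ∀ x ∈ A.Fx R, A.p ((y : G) ^ (2 * c + 1)) x = A.p (y : G) x := fun x hx => by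
          rw [pow_succ', A.p_mul, pow_mul, pow_two]
          exact congrArg _ (pow_mem (show (y : G) * y ∈ A.stP x from hsq x hx) c)
        refine hu1 (A.ind_mk_eq_one.mpr fun x hx => ?_)
        rw [← hact x hx]
        refine hR.no_quad (pow_mem y.2 _) ha ?_ hx
        obtain ⟨p, q, r, s, hp, hq, hr, hs, n1, n2, n3, n4⟩ := hq
        have f : ∀ {p : A.Fx R}, B.p (y : _ ⧸ _) p = p → p.1 ∈ {x | x ∈ A.Fx R ∧ A.p ((y : G) ^ (2 * c + 1)) x = x} :=
          fun {p} e => ⟨p.2, (hact p.1 p.2).trans (congrArg Subtype.val e)⟩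
        have g : ∀ {p q r : A.Fx R}, (A.sub R hR.2.1).NC p q r → π.NC p.1 q.1 r.1 := fun {p q r} n => by
          obtain ⟨npq, npr, nqr, nl⟩ := n
          refine Pl.NC.of_not (fun e => npq (Subtype.ext e)) (π.join_left p.1 q.1) (π.join_right p.1 q.1) ?_
          exact nl ⟨_, A.join_mem_Fl (fun e => npq (Subtype.ext e)) p.2 q.2⟩ (π.join_left _ _) (π.join_right _ _)
        exact ⟨p.1, q.1, r.1, s.1, f hp, f hq, f hr, f hs, g n1, g n2, g n3, g n4⟩
    · obtain ⟨g, hgN, hg2, ⟨z, hz, hgz⟩, hgx, hgy⟩ := hR.pair h2 x.2 y.2 fun e => hne (Subtype.ext e)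
      let g' : ↥(Subgroup.normalizer (R : Set G)) := ⟨g, hgN⟩
      exact ⟨QuotientGroup.mk g', A.ind_mk_eq_one (g := g' * g').mpr hg2,
        fun e => hgz (A.ind_mk_eq_one.mp e z hz), Subtype.ext hgx, Subtype.ext hgy⟩
    · obtain ⟨g, hgN, hg2, ⟨z, hz, hgz⟩, hga, hgb⟩ := hR.dual.pair h2.dual a.2 b.2 fun e => hne (Subtype.ext e)
      have hker : ∀ (k : ↥(Subgroup.normalizer (R : Set G))),
          (k : _ ⧸ (A.resP R).ker) = 1 ↔ ∀ c ∈ A.Fl R, A.l k.1 c = c := by
        intro k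
        rw [QuotientGroup.eq_one_iff]
        constructor
        · intro hk c hc
          exact congrArg Subtype.val (Equiv.congr_fun (MonoidHom.mem_ker.mp (A.resP_ker_le hR.2.1 hk)) ⟨c, hc⟩)
        · intro hk
          exact A.dual.resP_ker_le (A.quad_dual hR.2.1)
            (MonoidHom.mem_ker.mpr (Equiv.ext fun c => Subtype.ext (hk c.1 c.2)))
      let g' : ↥(Subgroup.normalizer (R : Set G)) := ⟨g, hgN⟩
      exact ⟨QuotientGroup.mk g', (hker (g' * g')).mpr hg2,
        fun e => hgz ((hker _).mp e z hz), Subtype.ext hga, Subtype.ext hgb⟩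
  haveI : Fact (Nat.Prime 2) := ⟨Nat.prime_two⟩
  obtain ⟨k, hk⟩ := IsPGroup.iff_card.mp hR.1
  obtain ⟨i, hi⟩ := A.two_group_order k R hk hR.2.1
  rw [hi]
  exact hgeom.prime_pow.pow (by positivity)

end Act

end CfsgLib.TTP
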