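import Cfsg.Agent.Lib.TwoTransPlane.Exists
import Cfsg.Agent.Lib.TwoTransPlane.Desargues
import Cfsg.Agent.Lib.StSL.Presentation
import Mathlib.LinearAlgebra.Projectivization.Action
import Mathlib.LinearAlgebra.Projectivization.Cardinality
import Mathlib.LinearAlgebra.Transvection.Basic

/-!
A simple group acting doubly transitively and faithfully by collineations on a finite projective plane is `PSL₃`:
such a group contains all elations, and the elations of a Desarguesian plane generate `PSL₃`.
-/

set_option autoImplicit false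
set_option linter.unusedSectionVars false

namespace CfsgLib.TTP

open Matrix
open scoped LinearAlgebra.Projectivization

universe u v w

variable {P : Type u} {L : Type v}

namespace Pl

variable (π : Pl P L)

/-- All collineations of the plane, as pairs of permutations. -/
def Col : Subgroup (Equiv.Perm P × Equiv.Perm L) where
  carrier := {g | ∀ x a, π.I (g.1 x) (g.2 a) ↔ π.I x a}
  one_mem' := fun _ _ => Iff.rfl
  mul_mem' := fun {g h} hg hh x a => (hg (h.1 x) (h.2 a)).trans (hh x a)
  inv_mem' := fun {g} hg x a => by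
    rw [← hg (g⁻¹.1 x) (g⁻¹.2 a)]
    simp

theorem line_ext [Finite P] [Finite L] {a b : L} (h : ∀ x, π.I x a ↔ π.I x b) : a = b := by
  obtain ⟨x, hx, -⟩ := π.exists_other a (π.meet a a)
  obtain ⟨y, hy, hyx⟩ := π.exists_other a x
  exact π.eq_of_two_points hyx hy hx ((h y).mp hy) ((h x).mp hx)

/-- The full collineation group as an action. -/
def colAct [Finite P] [Finite L] : Act π π.Col where
  p := (MonoidHom.fst _ _).comp π.Col.subtype
  l := (MonoidHom.snd _ _).comp π.Col.subtype
  inc := fun g x a => g.2 x a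
  faith := fun g hg => by
    have h1 : ∀ x, g.1.1 x = x := fun x => Equiv.congr_fun hg x
    refine Subtype.ext (Prod.ext (Equiv.ext h1) (Equiv.ext fun a => π.line_ext fun x => ?_))
    conv_lhs => rw [← h1 x]
    exact g.2 x a

theorem col_ext [Finite P] [Finite L] {g h : π.Col} (e : g.1.1 = h.1.1) : g = h := by
  refine inv_mul_eq_one.mp (π.colAct.faith (g⁻¹ * h) ?_)
  rw [map_mul, map_inv]
  exact inv_mul_eq_one.mpr e

end Pl

namespace Act

variable {π : Pl P L} {G : Type w} [Group G] (A : Act π G)

/-- The homomorphism to the full collineation group. -/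
def toCol : G →* π.Col where
  toFun g := ⟨(A.p g, A.l g), A.inc g⟩
  map_one' := Subtype.ext (by simp)
  map_mul' g h := Subtype.ext (by simp)

theorem toCol_injective : Function.Injective A.toCol :=
  (injective_iff_map_eq_one _).mpr fun g hg => A.faith g (congrArg (fun z : π.Col => z.1.1) hg)

variable [Finite P] [Finite L]

/-- A full group contains every elation. -/
theorem mem_range_of_elation (hF : A.Full) {c : P} {a : L} (hc : π.I c a) {z : π.Col}
    (hz : z ∈ π.colAct.PC c a) : z ∈ A.toCol.range := by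
  classical
  let f : A.PC c a → π.colAct.PC c a := fun g => ⟨A.toCol g,
    π.colAct.mem_axial.mpr fun x hx => A.mem_axial.mp g.2.1 x hx,
    π.colAct.mem_central.mpr fun b hb => A.mem_central.mp g.2.2 b hb⟩
  have hf : Function.Injective f := fun g h e => Subtype.ext (A.toCol_injective (congrArg Subtype.val e))
  have h1 : Nat.card (π.colAct.PC c a) ≤ π.n :=
    Nat.le_of_dvd (by have := π.one_lt_n; omega) (π.colAct.card_PC_dvd hc)
  have hb := (Nat.bijective_iff_injective_and_card f).mpr
    ⟨hf, le_antisymm (Nat.card_le_card_of_injective f hf) (by rw [(hF a).2 c hc]; exact h1)⟩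
  obtain ⟨g, hg⟩ := hb.2 ⟨z, hz⟩
  exact ⟨g, congrArg Subtype.val hg⟩

end Act

section Coord

variable {π : Pl P L} [Finite P] [Finite L] {K : Type} [Field K] [Fintype K] (φ : P ≃ ℙ K (Fin 3 → K))
  (hl : ∀ l : L, ∃ W : Submodule K (Fin 3 → K), Module.finrank K W = 2 ∧ ∀ p, π.I p l ↔ (φ p).submodule ≤ W)
  (hW : ∀ W : Submodule K (Fin 3 → K), Module.finrank K W = 2 → ∃ l : L, ∀ p, π.I p l ↔ (φ p).submodule ≤ W)

include hl hW in
theorem exists_line_map (g : Matrix.SpecialLinearGroup (Fin 3) K) (l : L) :
    ∃ l' : L, ∀ p, π.I p l' ↔ π.I (φ.symm (g⁻¹ • φ p)) l := by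
  obtain ⟨W, h2, hmem⟩ := hl l
  let e := DistribMulAction.toLinearEquiv K (Fin 3 → K) g
  obtain ⟨l', hl'⟩ := hW (W.map (e : (Fin 3 → K) →ₗ[K] (Fin 3 → K))) (by rw [LinearEquiv.finrank_map_eq, h2])
  refine ⟨l', fun p => ?_⟩
  rw [hl', hmem, Equiv.apply_symm_apply]
  induction φ p using Projectivization.ind with
  | _ v hv =>
    rw [Projectivization.smul_mk, submodule_le_iff, submodule_le_iff, Submodule.mem_map_equiv]
    rfl

/-- The collineation of a linear map of determinant one. -/
noncomputable def linCol : Matrix.SpecialLinearGroup (Fin 3) K →* π.Col :=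
  let pt : Matrix.SpecialLinearGroup (Fin 3) K →* Equiv.Perm P :=
    φ.symm.permCongrHom.toMonoidHom.comp (MulAction.toPermHom _ _)
  have hpt : ∀ g x, pt g x = φ.symm (g • φ x) := fun _ _ => rfl
  let ln : Matrix.SpecialLinearGroup (Fin 3) K → L → L := fun g l => (exists_line_map φ hl hW g l).choose
  have hln : ∀ g l p, π.I p (ln g l) ↔ π.I (φ.symm (g⁻¹ • φ p)) l := fun g l =>
    (exists_line_map φ hl hW g l).choose_spec
  let le : Matrix.SpecialLinearGroup (Fin 3) K → Equiv.Perm L := fun g =>
    { toFun := ln g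
      invFun := ln g⁻¹
      left_inv := fun l => π.line_ext fun p => by
        rw [hln, hln, Equiv.apply_symm_apply, inv_inv, inv_smul_smul, Equiv.symm_apply_apply]
      right_inv := fun l => π.line_ext fun p => by
        rw [hln, hln, Equiv.apply_symm_apply, inv_inv, smul_inv_smul, Equiv.symm_apply_apply] }
  have hmem : ∀ g, (pt g, le g) ∈ π.Col := fun g x l => by
    refine (hln g l _).trans ?_
    rw [hpt, Equiv.apply_symm_apply, inv_smul_smul, Equiv.symm_apply_apply]
  { toFun := fun g => ⟨(pt g, le g), hmem g⟩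
    map_one' := π.col_ext (map_one pt)
    map_mul' := fun g h => π.col_ext (map_mul pt g h) }

theorem linCol_apply (g : Matrix.SpecialLinearGroup (Fin 3) K) (x : P) :
    (linCol φ hl hW g).1.1 x = φ.symm (g • φ x) := rfl

/-- Linear maps fixing a plane pointwise and moving every vector along a line of it give elations. -/
theorem linCol_mem_PC {c : P} {a : L} {W : Submodule K (Fin 3 → K)} (ha : ∀ p, π.I p a ↔ (φ p).submodule ≤ W)
    {u : Fin 3 → K} {hu : u ≠ 0} (hc : φ c = Projectivization.mk K u hu) (g : Matrix.SpecialLinearGroup (Fin 3) K)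
    (hfix : ∀ v ∈ W, g • v = v) (hdir : ∀ v, ∃ r : K, g • v = v + r • u) :
    linCol φ hl hW g ∈ π.colAct.PC c a := by
  have hpt : ∀ x, π.I x a → (linCol φ hl hW g).1.1 x = x := by
    intro x hx
    rw [linCol_apply, Equiv.symm_apply_eq]
    have hx' := (ha x).mp hx
    revert hx'
    induction φ x using Projectivization.ind with
    | _ v hv =>
      intro hx'
      rw [submodule_le_iff] at hx'
      rw [Projectivization.smul_mk, Projectivization.mk_eq_mk_iff']
      exact ⟨1, by rw [one_smul, hfix v hx']⟩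
  refine ⟨π.colAct.mem_axial.mpr hpt, π.colAct.mem_central.mpr fun b hb => ?_⟩
  obtain ⟨U, -, hU⟩ := hl b
  have huU : u ∈ U := by
    have := (hU c).mp hb
    rwa [hc, submodule_le_iff] at this
  have hiff : ∀ x, π.I ((linCol φ hl hW g).1.1 x) b ↔ π.I x b := by
    intro x
    rw [hU, hU, linCol_apply, Equiv.apply_symm_apply]
    induction φ x using Projectivization.ind with
    | _ v hv =>
      rw [Projectivization.smul_mk, submodule_le_iff, submodule_le_iff]
      obtain ⟨r, hr⟩ := hdir v
      rw [hr]
      exact ⟨fun h => by simpa using U.sub_mem h (U.smul_mem r huU), fun h => U.add_mem h (U.smul_mem r huU)⟩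
  refine (π.line_ext fun y => ?_)
  obtain ⟨x, rfl⟩ := ((linCol φ hl hW g).1.1).surjective y
  rw [hiff x]
  exact (linCol φ hl hW g).2 x b

include φ in
theorem order_eq_card : π.n = Fintype.card K := by
  have h := Nat.card_congr φ
  rw [π.card_P, Projectivization.card_of_finrank K (Fin 3 → K) (Module.finrank_fin_fun K)] at h
  simp only [Finset.sum_range_succ, Finset.sum_range_zero, zero_add, pow_zero, pow_one, Nat.card_eq_fintype_card] at h
  nlinarith

/-- Every elation is linear. -/
theorem elation_linear {c : P} {a : L} (hca : π.I c a) {z : π.Col} (hz : z ∈ π.colAct.PC c a) :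
    z ∈ (linCol φ hl hW).range := by
  classical
  obtain ⟨W, hW2, hWa⟩ := hl a
  have hu : (φ c).rep ∈ W := by
    have := (hWa c).mp hca
    rw [Projectivization.submodule_eq, Submodule.span_singleton_le_iff_mem] at this
    exact this
  have hlt : W < ⊤ := lt_of_le_of_ne le_top fun e => by
    rw [e, finrank_top, Module.finrank_fin_fun] at hW2; omega
  obtain ⟨f, hf0, hfW⟩ := Submodule.exists_le_ker_of_lt_top W hlt
  obtain ⟨x, hx⟩ : ∃ x, f x = 1 := by
    obtain ⟨y, hy⟩ : ∃ y, f y ≠ 0 := not_forall.mp fun h => hf0 (LinearMap.ext h)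
    exact ⟨(f y)⁻¹ • y, by simp [hy]⟩
  set u := (φ c).rep
  have hfu : f u = 0 := hfW hu
  have hdet : ∀ t : K, (LinearMap.toMatrix' (LinearMap.transvection f (t • u))).det = 1 := fun t => by
    rw [LinearMap.det_toMatrix', LinearMap.transvection.det]; simp [hfu]
  let M : K → Matrix.SpecialLinearGroup (Fin 3) K := fun t => ⟨_, hdet t⟩
  have hM : ∀ t v, M t • v = v + f v • t • u := fun t v => by
    change LinearMap.toMatrix' (LinearMap.transvection f (t • u)) *ᵥ v = _
    rw [LinearMap.toMatrix'_mulVec, LinearMap.transvection.apply]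
  have hmem : ∀ t, linCol φ hl hW (M t) ∈ π.colAct.PC c a := fun t =>
    linCol_mem_PC φ hl hW hWa (u := u) (hu := (φ c).rep_nonzero) (Projectivization.mk_rep _).symm (M t)
      (fun v hv => by rw [hM, show f v = 0 from hfW hv]; simp)
      fun v => ⟨f v * t, by rw [hM, smul_smul]⟩
  let F : K → π.colAct.PC c a := fun t => ⟨_, hmem t⟩
  have hinj : Function.Injective F := by
    intro s t e
    have hx0 : x ≠ 0 := fun h => by simp [h] at hx
    have e1 := congrArg (fun z : π.colAct.PC c a => z.1.1.1 (φ.symm (Projectivization.mk K x hx0))) e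
    simp only [F, linCol_apply, Equiv.apply_symm_apply, φ.symm.injective.eq_iff, Projectivization.smul_mk,
      Projectivization.mk_eq_mk_iff'] at e1
    obtain ⟨r, hr⟩ := e1
    rw [hM, hM, hx, one_smul, one_smul] at hr
    have h1 := congrArg f hr
    simp [hfu, hx] at h1
    rw [h1, one_smul] at hr
    by_contra hne
    exact smul_ne_zero (sub_ne_zero.mpr hne) (φ c).rep_nonzero (by rw [sub_smul]; exact sub_eq_zero.mpr (add_left_cancel hr).symm)
  have hle : Nat.card (π.colAct.PC c a) ≤ Nat.card K := by
    rw [Nat.card_eq_fintype_card (α := K), ← order_eq_card (π := π) φ]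
    exact Nat.le_of_dvd (by have := π.one_lt_n; omega) (π.colAct.card_PC_dvd hca)
  obtain ⟨t, ht⟩ := ((Nat.bijective_iff_injective_and_card F).mpr
    ⟨hinj, le_antisymm (Nat.card_le_card_of_injective F hinj) hle⟩).2 ⟨z, hz⟩
  exact ⟨M t, congrArg Subtype.val ht⟩

/-- A linear transvection is an elation. -/
theorem transvection_elation {i j : Fin 3} (hij : i ≠ j) (t : K) :
    ∃ c a, π.I c a ∧ linCol φ hl hW (Matrix.SpecialLinearGroup.transvection hij t) ∈ π.colAct.PC c a := by
  classical
  have he : (Pi.single i (1 : K) : Fin 3 → K) ≠ 0 := by simp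
  obtain ⟨W, hW2, hWv⟩ := ker_finrank_two (Pi.single j (1 : K)) (by simp)
  have hWv' : ∀ v, v ∈ W ↔ v j = 0 := fun v => by
    rw [hWv]; fin_cases j <;> simp
  obtain ⟨a, ha⟩ := hW W hW2
  have hci : (Pi.single i (1 : K) : Fin 3 → K) ∈ W := (hWv' _).mpr (by simp [hij.symm])
  refine ⟨φ.symm (Projectivization.mk K _ he), a, ?_, ?_⟩
  · rw [ha, Equiv.apply_symm_apply, submodule_le_iff]; exact hci
  · have hv : ∀ v : Fin 3 → K, Matrix.SpecialLinearGroup.transvection hij t • v = v + (t * v j) • Pi.single i 1 := by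
      intro v
      change (1 + Matrix.single i j t) *ᵥ v = _
      rw [Matrix.add_mulVec, Matrix.one_mulVec, Matrix.single_mulVec]
      congr 1
      ext k
      by_cases h : k = i <;> simp [h, Function.update]
    exact linCol_mem_PC φ hl hW ha (Equiv.apply_symm_apply φ _) _
      (fun v h => by rw [hv, (hWv' v).mp h]; simp) fun v => ⟨_, hv v⟩

theorem linCol_ker : (linCol φ hl hW).ker = Subgroup.center (Matrix.SpecialLinearGroup (Fin 3) K) := by
  rw [← Projectivization.SL_mulAction_ker]
  ext g
  rw [MonoidHom.mem_ker, MonoidHom.mem_ker]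
  constructor
  · intro h
    refine Equiv.ext fun y => ?_
    have h1 := congrArg (fun z : π.Col => z.1.1 (φ.symm y)) h
    rw [linCol_apply, Equiv.apply_symm_apply] at h1
    exact φ.symm.injective h1
  · intro h
    refine π.col_ext (Equiv.ext fun x => ?_)
    rw [linCol_apply, Equiv.symm_apply_eq]
    exact Equiv.congr_fun h (φ x)

end Coord

/-- A simple doubly transitive group of collineations is the little projective group. -/
theorem psl3_of_two {π : Pl P L} [Finite P] [Finite L] {G : Type w} [Group G] [IsSimpleGroup G] (A : Act π G)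
    (h2 : A.Two) :
    ∃ (K : Type) (_ : Field K) (_ : Fintype K), Fintype.card K = π.n ∧
      Nonempty (G ≃* Matrix.ProjectiveSpecialLinearGroup (Fin 3) K) := by
  classical
  have := A.finite
  have hF : A.Full := fun a => h2.full h2.exists_persp a
  obtain ⟨ℓ, -⟩ := π.exists_line_off π.config.choose
  obtain ⟨O, hO⟩ := π.exists_off ℓ
  obtain ⟨X, hX, -⟩ := π.exists_other ℓ (π.meet ℓ ℓ)
  obtain ⟨Y, hY, hYX⟩ := π.exists_other ℓ X
  obtain ⟨Z, hZ, hZX, hZY⟩ := π.exists_third ℓ X Y
  obtain ⟨K, instK, instF, φ, hl, hW⟩ := Frame.desargues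
    (⟨hF, ℓ, O, X, Y, Z, hO, hX, hY, hZ, hYX.symm, hZX, hZY⟩ : Frame π A)
  refine ⟨K, instK, instF, (order_eq_card φ).symm, ?_⟩
  set ψ := linCol φ hl hW
  have hle : ψ.range ≤ A.toCol.range := by
    rw [MonoidHom.range_eq_map, ← CfsgLib.StSL.closure_transvection_eq_top (K := K) (n := 3) (by norm_num),
      MonoidHom.map_closure, Subgroup.closure_le]
    rintro _ ⟨_, ⟨i, j, hij, t, rfl⟩, rfl⟩
    obtain ⟨c, a, hca, hm⟩ := transvection_elation φ hl hW hij t
    exact A.mem_range_of_elation hF hca hm
  -- the elations generate a normal subgroup of `G`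
  let S : Set G := {g | ∃ c a, π.I c a ∧ g ∈ A.PC c a}
  have hN : (Subgroup.closure S).Normal := by
    refine ⟨fun n hn g => ?_⟩
    refine Subgroup.closure_induction (fun x hx => Subgroup.subset_closure ?_) (by simp)
      (fun x y _ _ hx hy => ?_) (fun x _ hx => ?_) hn
    · obtain ⟨c, a, hca, hx⟩ := hx
      exact ⟨_, _, (A.inc g c a).mpr hca, A.PC_conj hx⟩
    · simpa using mul_mem hx hy
    · simpa [mul_assoc] using inv_mem hx
  have hS : ∀ g ∈ S, A.toCol g ∈ ψ.range := by
    rintro g ⟨c, a, hca, hg⟩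
    exact elation_linear φ hl hW hca (z := A.toCol g)
      ⟨π.colAct.mem_axial.mpr fun x hx => A.mem_axial.mp hg.1 x hx,
        π.colAct.mem_central.mpr fun b hb => A.mem_central.mp hg.2 b hb⟩
  have htop : Subgroup.closure S = ⊤ := by
    refine hN.eq_bot_or_eq_top.resolve_left fun hbot => ?_
    have hcard := (hF ℓ).2 X hX
    have : A.PC X ℓ ≤ ⊥ := hbot ▸ fun g hg => Subgroup.subset_closure ⟨X, ℓ, hX, hg⟩
    rw [le_bot_iff.mp this, Subgroup.card_bot] at hcard
    have := π.one_lt_n
    omega
  have hge : A.toCol.range ≤ ψ.range := by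
    rw [MonoidHom.range_eq_map, ← htop, MonoidHom.map_closure, Subgroup.closure_le]
    rintro _ ⟨g, hg, rfl⟩
    exact hS g hg
  exact ⟨(MonoidHom.ofInjective A.toCol_injective).trans ((MulEquiv.subgroupCongr (le_antisymm hge hle)).trans
    ((QuotientGroup.quotientKerEquivRange ψ).symm.trans
      (QuotientGroup.quotientMulEquivOfEq (linCol_ker φ hl hW))))⟩

end CfsgLib.TTP
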