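import Cfsg.Agent.Lib.TwoTransPlane.Persp

set_option autoImplicit false
set_option linter.unusedSectionVars false

/-!
Fixed subplanes and the groups induced on them; involutions; subplanes fixed by 2-groups.
-/

namespace CfsgLib.TTP

universe u v w

namespace Pl

variable {P : Type u} {L : Type v} (π : Pl P L)

/-- Three points which are distinct and not on a line. -/
def NC (x y z : P) : Prop := x ≠ y ∧ x ≠ z ∧ y ≠ z ∧ ∀ a, π.I x a → π.I y a → ¬ π.I z a

/-- The set carries four points, no three on a line. -/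
def Quad (S : Set P) : Prop :=
  ∃ x y z w, x ∈ S ∧ y ∈ S ∧ z ∈ S ∧ w ∈ S ∧ π.NC x y z ∧ π.NC x y w ∧ π.NC x z w ∧ π.NC y z w

variable {π}

theorem NC.of_not {x y z : P} (hxy : x ≠ y) {a : L} (hx : π.I x a) (hy : π.I y a) (hz : ¬ π.I z a) : π.NC x y z :=
  ⟨hxy, fun e => hz (e ▸ hx), fun e => hz (e ▸ hy), fun b hxb hyb hzb =>
    hz (π.eq_of_two_points hxy hxb hyb hx hy ▸ hzb)⟩

theorem NC.swap {x y z : P} (h : π.NC x y z) : π.NC y x z :=
  ⟨h.1.symm, h.2.2.1, h.2.1, fun a hy hx => h.2.2.2 a hx hy⟩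

theorem NC.rot {x y z : P} (h : π.NC x y z) : π.NC y z x :=
  ⟨h.2.2.1, h.1.symm, h.2.1.symm, fun a hy hz hx => h.2.2.2 a hx hy hz⟩

theorem NC.not_I {x y z : P} (h : π.NC x y z) : ¬ π.I z (π.join x y) :=
  h.2.2.2 _ (π.join_left x y) (π.join_right x y)

theorem Quad.mono {S T : Set P} (h : π.Quad S) (hst : S ⊆ T) : π.Quad T := by
  obtain ⟨x, y, z, w, hx, hy, hz, hw, h⟩ := h
  exact ⟨x, y, z, w, hst hx, hst hy, hst hz, hst hw, h⟩

theorem quad_univ [Finite P] [Finite L] : π.Quad Set.univ := by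
  obtain ⟨W, -⟩ := π.config
  obtain ⟨a, ha, -⟩ := π.exists_other_line W (π.join W W)
  obtain ⟨b, hb, hba⟩ := π.exists_other_line W a
  obtain ⟨x, hx, hxW⟩ := π.exists_other a W
  obtain ⟨y, hy, hyW, hyx⟩ := π.exists_third a W x
  obtain ⟨z, hz, hzW⟩ := π.exists_other b W
  obtain ⟨w, hw, hwW, hwz⟩ := π.exists_third b W z
  have h1 : ∀ {q}, π.I q a → q ≠ W → ¬ π.I q b := fun h h' e => h' (π.eq_of_two_lines hba e hb h ha)
  have h2 : ∀ {q}, π.I q b → q ≠ W → ¬ π.I q a := fun h h' e => h' (π.eq_of_two_lines hba h hb e ha)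
  exact ⟨x, y, z, w, trivial, trivial, trivial, trivial, NC.of_not hyx.symm hx hy (h2 hz hzW),
    NC.of_not hyx.symm hx hy (h2 hw hwW), (NC.of_not hwz.symm hz hw (h1 hx hxW)).rot.rot,
    (NC.of_not hwz.symm hz hw (h1 hy hyW)).rot.rot⟩

end Pl

namespace Act

variable {P : Type u} {L : Type v} {π : Pl P L} {G : Type w} [Group G] [Finite P] [Finite L]
variable (A : Act π G)

/-- Points fixed by a subgroup. -/
def Fx (H : Subgroup G) : Set P := {x | ∀ h ∈ H, A.p h x = x}

/-- Lines fixed by a subgroup. -/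
def Fl (H : Subgroup G) : Set L := A.dual.Fx H

theorem Fx_mono {H K : Subgroup G} (h : H ≤ K) : A.Fx K ⊆ A.Fx H := fun _ hx g hg => hx g (h hg)

theorem Fx_bot : A.Fx ⊥ = Set.univ := Set.eq_univ_of_forall fun x h hh => by
  rw [Subgroup.mem_bot.mp hh, map_one]; rfl

theorem join_mem_Fl {H : Subgroup G} {x y : P} (h : x ≠ y) (hx : x ∈ A.Fx H) (hy : y ∈ A.Fx H) :
    π.join x y ∈ A.Fl H := fun g hg => A.fix_join h (hx g hg) (hy g hg)

theorem meet_mem_Fx {H : Subgroup G} {a b : L} (h : a ≠ b) (ha : a ∈ A.Fl H) (hb : b ∈ A.Fl H) :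
    π.meet a b ∈ A.Fx H := fun g hg => A.fix_meet h (ha g hg) (hb g hg)

theorem quad_dual {H : Subgroup G} (hq : π.Quad (A.Fx H)) : π.dual.Quad (A.Fl H) := by
  obtain ⟨x, y, z, w, hx, hy, hz, hw, h1, h2, h3, h4⟩ := hq
  refine ⟨π.join x y, π.join y z, π.join z w, π.join w x, A.join_mem_Fl h1.1 hx hy, A.join_mem_Fl h1.2.2.1 hy hz,
    A.join_mem_Fl h3.2.2.1 hz hw, A.join_mem_Fl h2.2.1.symm hw hx, ?_⟩
  have n1 : π.join x y ≠ π.join y z := fun e => h1.not_I (e ▸ π.join_right y z)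
  have n2 : π.join x y ≠ π.join z w := fun e => h1.not_I (e ▸ π.join_left z w)
  have n3 : π.join x y ≠ π.join w x := fun e => h2.not_I (e ▸ π.join_left w x)
  have n4 : π.join y z ≠ π.join z w := fun e => h4.not_I (e ▸ π.join_right z w)
  have n5 : π.join y z ≠ π.join w x := fun e => h4.not_I (e ▸ π.join_left w x)
  have n6 : π.join z w ≠ π.join w x := fun e => h3.rot.not_I (e ▸ π.join_right w x)
  refine ⟨⟨n1, n2, n4, fun (q : P) hq1 hq2 hq3 => ?_⟩, ⟨n1, n3, n5, fun (q : P) hq1 hq2 hq3 => ?_⟩,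
    ⟨n2, n3, n6, fun (q : P) hq1 hq2 hq3 => ?_⟩, ⟨n4, n5, n6, fun (q : P) hq1 hq2 hq3 => ?_⟩⟩
  · obtain rfl : q = y := π.eq_of_two_lines n1 hq1 (π.join_right x y) hq2 (π.join_left y z)
    exact h4.rot.not_I hq3
  · obtain rfl : q = y := π.eq_of_two_lines n1 hq1 (π.join_right x y) hq2 (π.join_left y z)
    exact h2.rot.rot.not_I hq3
  · obtain rfl : q = x := π.eq_of_two_lines n3 hq1 (π.join_left x y) hq3 (π.join_right w x)
    exact h3.rot.not_I hq2
  · obtain rfl : q = z := π.eq_of_two_lines n4 hq1 (π.join_right y z) hq2 (π.join_left z w)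
    exact h3.rot.rot.not_I hq3

theorem exists_fixed_line {H : Subgroup G} (hq : π.Quad (A.Fx H)) {x : P} (hx : x ∈ A.Fx H) :
    ∃ a, a ∈ A.Fl H ∧ π.I x a := by
  obtain ⟨p, q, -, -, hp, hq', -, -, ⟨hpq, -⟩, -⟩ := hq
  rcases eq_or_ne x p with rfl | h
  · exact ⟨_, A.join_mem_Fl hpq hx hq', π.join_left _ _⟩
  · exact ⟨_, A.join_mem_Fl h hx hp, π.join_left _ _⟩

theorem exists_fixed_point {H : Subgroup G} (hq : π.Quad (A.Fx H)) {a : L} (ha : a ∈ A.Fl H) :
    ∃ x, x ∈ A.Fx H ∧ π.I x a := A.dual.exists_fixed_line (A.quad_dual hq) ha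

/-- The subplane of fixed points and lines. -/
noncomputable def sub (H : Subgroup G) (hq : π.Quad (A.Fx H)) : Pl ↥(A.Fx H) ↥(A.Fl H) := by
  classical
  exact
  { I := fun x a => π.I x.1 a.1
    join := fun x y =>
      if h : (x : P) = y then ⟨_, (A.exists_fixed_line hq x.2).choose_spec.1⟩ else ⟨_, A.join_mem_Fl h x.2 y.2⟩
    meet := fun a b =>
      if h : (a : L) = b then ⟨_, (A.exists_fixed_point hq a.2).choose_spec.1⟩ else ⟨_, A.meet_mem_Fx h a.2 b.2⟩
    join_left := fun x y => by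
      split_ifs with h
      · exact (A.exists_fixed_line hq x.2).choose_spec.2
      · exact π.join_left _ _
    join_right := fun x y => by
      split_ifs with h
      · exact h ▸ (A.exists_fixed_line hq x.2).choose_spec.2
      · exact π.join_right _ _
    meet_left := fun a b => by
      split_ifs with h
      · exact (A.exists_fixed_point hq a.2).choose_spec.2
      · exact π.meet_left _ _
    meet_right := fun a b => by
      split_ifs with h
      · exact h ▸ (A.exists_fixed_point hq a.2).choose_spec.2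
      · exact π.meet_right _ _
    unique := fun h₁ h₂ h₃ h₄ => (π.unique h₁ h₂ h₃ h₄).imp Subtype.ext Subtype.ext
    config := by
      obtain ⟨x, y, z, w, hx, hy, hz, hw, h1, h2, h3, h4⟩ := hq
      exact ⟨⟨w, hw⟩, ⟨x, hx⟩, ⟨y, hy⟩, ⟨_, A.join_mem_Fl h3.2.2.1 hz hw⟩, ⟨_, A.join_mem_Fl h1.1 hx hy⟩,
        ⟨_, A.join_mem_Fl h1.2.1 hx hz⟩, h2.not_I, h3.not_I, h3.rot.not_I, π.join_left x y, π.join_left x z,
        h4.rot.not_I, π.join_right x y, fun h => h1.2.2.2 _ (π.join_left x z) h (π.join_right x z)⟩ }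

@[simp] theorem sub_I (H : Subgroup G) (hq : π.Quad (A.Fx H)) (x : A.Fx H) (a : A.Fl H) :
    (A.sub H hq).I x a ↔ π.I x.1 a.1 := Iff.rfl

theorem sub_n_lt {H : Subgroup G} (hq : π.Quad (A.Fx H)) (hH : H ≠ ⊥) : (A.sub H hq).n < π.n := by
  classical
  haveI := Fintype.ofFinite P
  by_contra hle
  push Not at hle
  -- every fixed line would be fixed pointwise
  have key : ∀ a ∈ A.Fl H, ∀ g ∈ H, g ∈ A.axial a := by
    intro a ha g hg
    rw [mem_axial]
    intro x hx
    have h1 := (A.sub H hq).card_line ⟨a, ha⟩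
    have h2 := π.card_line a
    have hs : {y | y ∈ A.Fx H ∧ π.I y a} = {y | π.I y a} := by
      refine Set.eq_of_subset_of_ncard_le (fun y hy => hy.2) ?_ (Set.toFinite _)
      rw [← Nat.card_coe_set_eq, ← Nat.card_coe_set_eq]
      have e : Nat.card {y : A.Fx H // (A.sub H hq).I y ⟨a, ha⟩} = Nat.card {y | y ∈ A.Fx H ∧ π.I y a} :=
        Nat.card_congr (Equiv.subtypeSubtypeEquivSubtypeInter (fun y => y ∈ A.Fx H) (fun y => π.I y a))
      rw [← e, h1]
      exact h2.trans_le (by omega)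
    have : x ∈ {y | y ∈ A.Fx H ∧ π.I y a} := by rw [hs]; exact hx
    exact this.1 g hg
  obtain ⟨x, y, z, -, hx, hy, hz, -, h1, -⟩ := hq
  refine hH ((Subgroup.eq_bot_iff_forall _).mpr fun g hg => ?_)
  exact A.two_axes (key _ (A.join_mem_Fl h1.1 hx hy) g hg) (key _ (A.join_mem_Fl h1.2.1 hx hz) g hg)
    fun e => h1.not_I (e ▸ π.join_right x z)

/-- Normalisers preserve fixed points. -/
theorem map_mem_Fx {H : Subgroup G} {g : G} (hg : g ∈ Subgroup.normalizer (H : Set G)) {x : P} :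
    A.p g x ∈ A.Fx H ↔ x ∈ A.Fx H := by
  have key : ∀ g ∈ Subgroup.normalizer (H : Set G), ∀ x ∈ A.Fx H, A.p g x ∈ A.Fx H := by
    intro g hg x hx h hh
    have := hx (g⁻¹ * h * g) ((Subgroup.mem_normalizer_iff''.mp hg h).mp hh)
    rw [A.p_mul, A.p_mul] at this
    conv_rhs => rw [← this, A.p_apply_inv]
  exact ⟨fun h => by simpa [A.p_inv_apply] using key g⁻¹ (inv_mem hg) _ h, key g hg x⟩

/-- The action of the normaliser on the fixed points. -/
def resP (H : Subgroup G) : ↥(Subgroup.normalizer (H : Set G)) →* Equiv.Perm ↥(A.Fx H) where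
  toFun g := (A.p g.1).subtypePerm fun x => A.map_mem_Fx g.2
  map_one' := by ext x; simp
  map_mul' g h := Equiv.ext fun x => Subtype.ext (A.p_mul g.1 h.1 x.1)

@[simp] theorem resP_apply (H : Subgroup G) (g : ↥(Subgroup.normalizer (H : Set G))) (x : A.Fx H) :
    (A.resP H g x : P) = A.p g.1 x.1 := rfl

theorem resP_ker_le {H : Subgroup G} (hq : π.Quad (A.Fx H)) : (A.resP H).ker ≤ (A.dual.resP H).ker := by
  intro g hg
  have hfix : ∀ x ∈ A.Fx H, A.p g.1 x = x := fun x hx =>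
    congrArg Subtype.val (Equiv.congr_fun (MonoidHom.mem_ker.mp hg) ⟨x, hx⟩)
  refine MonoidHom.mem_ker.mpr (Equiv.ext fun a => Subtype.ext ?_)
  change A.l g.1 a.1 = a.1
  obtain ⟨x, hx, y, hy, hxy, hxa, hya⟩ : ∃ x ∈ A.Fx H, ∃ y ∈ A.Fx H, x ≠ y ∧ π.I x a.1 ∧ π.I y a.1 := by
    obtain ⟨x, hxa, -⟩ := (A.sub H hq).exists_other a ((A.sub H hq).meet a a)
    obtain ⟨y, hya, hyx⟩ := (A.sub H hq).exists_other a x
    exact ⟨x, x.2, y, y.2, fun e => hyx (Subtype.ext e.symm), hxa, hya⟩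
  have := A.fix_join hxy (hfix x hx) (hfix y hy)
  rwa [π.join_eq hxy hxa hya] at this

/-- The collineation group induced on a fixed subplane. -/
noncomputable def ind (H : Subgroup G) (hq : π.Quad (A.Fx H)) :
    Act (A.sub H hq) (↥(Subgroup.normalizer (H : Set G)) ⧸ (A.resP H).ker) where
  p := QuotientGroup.lift _ (A.resP H) le_rfl
  l := QuotientGroup.lift _ (A.dual.resP H) (A.resP_ker_le hq)
  inc g x a := by
    induction g using QuotientGroup.induction_on with
    | _ g => exact A.inc g.1 x.1 a.1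
  faith g h := by
    induction g using QuotientGroup.induction_on with
    | _ g => exact (QuotientGroup.eq_one_iff g).mpr h

@[simp] theorem ind_p_mk (H : Subgroup G) (hq : π.Quad (A.Fx H)) (g : ↥(Subgroup.normalizer (H : Set G)))
    (x : A.Fx H) : ((A.ind H hq).p g x : P) = A.p g.1 x.1 := rfl

theorem ind_mk_eq_one {H : Subgroup G} {g : ↥(Subgroup.normalizer (H : Set G))} :
    (g : ↥(Subgroup.normalizer (H : Set G)) ⧸ (A.resP H).ker) = 1 ↔ ∀ x ∈ A.Fx H, A.p g.1 x = x := by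
  rw [QuotientGroup.eq_one_iff, MonoidHom.mem_ker]
  exact ⟨fun h x hx => congrArg Subtype.val (Equiv.congr_fun h ⟨x, hx⟩),
    fun h => Equiv.ext fun x => Subtype.ext (h x.1 x.2)⟩

/-- An involution: every point lies on a fixed line. -/
theorem inv_line {u : G} (hu : u * u = 1) (hu1 : u ≠ 1) (x : P) : ∃ a, π.I x a ∧ A.l u a = a := by
  have hswap : ∀ z, A.p u z ≠ z → A.l u (π.join z (A.p u z)) = π.join z (A.p u z) := fun z hz => by
    rw [A.map_join u hz.symm, ← A.p_mul, hu, map_one]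
    exact π.join_eq hz (π.join_right _ _) (π.join_left _ _)
  by_cases hx : A.p u x = x
  swap
  · exact ⟨_, π.join_left _ _, hswap x hx⟩
  by_contra! hc
  have honly : ∀ y, A.p u y = y → y = x := fun y hy => by
    by_contra hyx
    exact hc _ (π.join_left x y) (A.fix_join (Ne.symm hyx) hx hy)
  have hcard : Nat.card {y // A.p u y = y} = 1 :=
    Nat.card_eq_one_iff_exists.mpr ⟨⟨x, hx⟩, fun y => Subtype.ext (honly y y.2)⟩
  rw [A.brauer] at hcard
  obtain ⟨⟨l, hl⟩, huniq⟩ := Nat.card_eq_one_iff_exists.mp hcard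
  obtain ⟨b, hb, -⟩ := π.exists_other_line x l
  have hxl : ¬ π.I x l := fun h => hc l h hl
  have hbl : b ≠ l := fun e => hxl (e ▸ hb)
  obtain ⟨z, hz, hzx, hzm⟩ := π.exists_third b x (π.meet b l)
  have hzf : A.p u z ≠ z := fun h => hzx (honly z h)
  have : π.join z (A.p u z) = l := congrArg Subtype.val (huniq ⟨_, hswap z hzf⟩)
  exact hzm (π.meet_eq hbl hz (this ▸ π.join_left z _)).symm

theorem inv_point {u : G} (hu : u * u = 1) (hu1 : u ≠ 1) (a : L) : ∃ x, π.I x a ∧ A.p u x = x :=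
  A.dual.inv_line hu hu1 a

theorem inv_two_points {u : G} (hu : u * u = 1) (hu1 : u ≠ 1) : ∃ x y, x ≠ y ∧ A.p u x = x ∧ A.p u y = y := by
  obtain ⟨a, -⟩ := π.exists_line_off (π.config.choose)
  obtain ⟨x, -, hx⟩ := A.inv_point hu hu1 a
  obtain ⟨b, hb⟩ := π.exists_line_off x
  obtain ⟨y, hyb, hy⟩ := A.inv_point hu hu1 b
  exact ⟨x, y, fun e => hb (e ▸ hyb), hx, hy⟩

/-- An involution without fixed quadrangle is a perspectivity. -/
theorem inv_persp {u : G} (hu : u * u = 1) (hu1 : u ≠ 1) (hq : ¬ π.Quad {x | A.p u x = x}) :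
    ∃ c a, u ∈ A.PC c a := by
  suffices h : ∃ c, u ∈ A.central c by
    obtain ⟨c, hc⟩ := h
    obtain ⟨a, ha⟩ := A.exists_axis hc
    exact ⟨c, a, ha, hc⟩
  obtain ⟨x, y, hxy, hx, hy⟩ := A.inv_two_points hu hu1
  set j := π.join x y
  have hj : A.l u j = j := A.fix_join hxy hx hy
  by_cases hall : ∀ z, A.p u z = z → π.I z j
  · -- all fixed points collinear
    obtain ⟨z₀, hz₀⟩ := π.exists_off j
    obtain ⟨b₀, hb₀, hb₀f⟩ := A.inv_line hu hu1 z₀
    have hb₀j : b₀ ≠ j := fun e => hz₀ (e ▸ hb₀)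
    refine ⟨π.meet b₀ j, A.mem_central.mpr fun b hb => ?_⟩
    by_cases hbj : b = j
    · rw [hbj]; exact hj
    obtain ⟨z, hz, hzW⟩ := π.exists_other b (π.meet b₀ j)
    have hzj : ¬ π.I z j := fun e => hzW (π.eq_of_two_lines hbj hz hb e (π.meet_right b₀ j))
    obtain ⟨b₁, hb₁, hb₁f⟩ := A.inv_line hu hu1 z
    have : π.I (π.meet b₀ j) b₁ := by
      rcases eq_or_ne b₀ b₁ with e | e
      · exact e ▸ π.meet_left b₀ j
      · have h1 := hall _ (A.fix_meet e hb₀f hb₁f)
        rw [π.meet_eq hb₀j (π.meet_left b₀ b₁) h1]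
        exact π.meet_right b₀ b₁
    rw [← π.eq_of_two_points hzW hb₁ this hz hb]
    exact hb₁f
  · push Not at hall
    obtain ⟨z, hz, hzj⟩ := hall
    -- a point and a line carrying all fixed points
    obtain ⟨X, a, q₁, q₂, hXa, hXf, hq12, hq₁, hq₂, hq₁a, hq₂a, hall'⟩ : ∃ (X : P) (a : L) (q₁ q₂ : P),
        ¬ π.I X a ∧ A.p u X = X ∧ q₁ ≠ q₂ ∧ A.p u q₁ = q₁ ∧ A.p u q₂ = q₂ ∧ π.I q₁ a ∧ π.I q₂ a ∧
          ∀ q, A.p u q = q → q = X ∨ π.I q a := by
      by_cases h2 : ∀ w, A.p u w = w → w = z ∨ π.I w j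
      · exact ⟨z, j, x, y, hzj, hz, hxy, hx, hy, π.join_left x y, π.join_right x y, h2⟩
      push Not at h2
      obtain ⟨w, hw, hwz, hwj⟩ := h2
      set b := π.join z w
      have hcore : ∀ s t : P, s ≠ t → A.p u s = s → A.p u t = t → π.I s j → π.I t j → π.I s b →
          ∀ q, A.p u q = q → q = t ∨ π.I q b := by
        intro s t hst hs ht hsj htj hsb q hqf
        have htb : ¬ π.I t b := fun e => hzj (π.eq_of_two_points hst hsb e hsj htj ▸ π.join_left z w)
        by_contra! hcon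
        obtain ⟨hqt, hqb⟩ := hcon
        by_cases hqj : π.I q j
        · exact hq ⟨q, t, z, w, hqf, ht, hz, hw, Pl.NC.of_not hqt hqj htj hzj, Pl.NC.of_not hqt hqj htj hwj,
            (Pl.NC.of_not hwz.symm (π.join_left z w) (π.join_right z w) hqb).rot.rot,
            (Pl.NC.of_not hwz.symm (π.join_left z w) (π.join_right z w) htb).rot.rot⟩
        -- otherwise `q` is on both joins of `t` with `z` and `w`
        have hon : ∀ z', A.p u z' = z' → ¬ π.I z' j → π.I z' b → π.I q (π.join t z') := by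
          intro z' hz' hz'j hz'b
          by_contra hn
          have hsz : s ≠ z' := fun e => hz'j (e ▸ hsj)
          exact hq ⟨s, t, z', q, hs, ht, hz', hqf, Pl.NC.of_not hst hsj htj hz'j, Pl.NC.of_not hst hsj htj hqj,
            Pl.NC.of_not hsz hsb hz'b hqb,
            Pl.NC.of_not (fun e => hz'j (e ▸ htj)) (π.join_left t z') (π.join_right t z') hn⟩
        have h1 := hon z hz hzj (π.join_left z w)
        have h2 := hon w hw hwj (π.join_right z w)
        refine hqt (π.eq_of_two_lines (fun e => htb ?_) h1 (π.join_left t z) h2 (π.join_left t w))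
        have hzw : π.join t z = b :=
          (π.join_eq hwz.symm (π.join_right t z) (e ▸ π.join_right t w)).symm
        exact hzw ▸ π.join_left t z
      rcases em (π.I x b) with hxb | hxb
      · exact ⟨y, b, z, w, fun e => hzj ((show b = j from π.eq_of_two_points hxy hxb e (π.join_left x y) (π.join_right x y)) ▸
          π.join_left z w), hy, hwz.symm, hz, hw, π.join_left z w, π.join_right z w,
          hcore x y hxy hx hy (π.join_left x y) (π.join_right x y) hxb⟩
      rcases em (π.I y b) with hyb | hyb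
      · exact ⟨x, b, z, w, hxb, hx, hwz.symm, hz, hw, π.join_left z w, π.join_right z w,
          hcore y x hxy.symm hy hx (π.join_right x y) (π.join_left x y) hyb⟩
      exact absurd ⟨x, y, z, w, hx, hy, hz, hw, Pl.NC.of_not hxy (π.join_left x y) (π.join_right x y) hzj,
        Pl.NC.of_not hxy (π.join_left x y) (π.join_right x y) hwj,
        (Pl.NC.of_not hwz.symm (π.join_left z w) (π.join_right z w) hxb).rot.rot,
        (Pl.NC.of_not hwz.symm (π.join_left z w) (π.join_right z w) hyb).rot.rot⟩ hq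
    have ha : A.l u a = a := by
      have := A.fix_join hq12 hq₁ hq₂
      rwa [π.join_eq hq12 hq₁a hq₂a] at this
    have hlines : ∀ b, A.l u b = b → b = a ∨ π.I X b := by
      intro b hb
      by_contra! hcon
      obtain ⟨hba, hXb⟩ := hcon
      obtain ⟨W, hWa, hWne, hW⟩ : ∃ W, π.I W a ∧ W ≠ π.meet b a ∧ A.p u W = W := by
        rcases eq_or_ne q₁ (π.meet b a) with e | e
        · exact ⟨q₂, hq₂a, fun e' => hq12 (e.trans e'.symm), hq₂⟩
        · exact ⟨q₁, hq₁a, e, hq₁⟩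
      have hXW : X ≠ W := fun e => hXa (e ▸ hWa)
      have hne : b ≠ π.join X W := fun e => hXb (e ▸ π.join_left X W)
      rcases hall' _ (A.fix_meet hne hb (A.fix_join hXW hXf hW)) with e | e
      · exact hXb (e ▸ π.meet_left b _)
      · have e1 := π.meet_eq hba (π.meet_left b (π.join X W)) e
        have hja : π.join X W ≠ a := fun e' => hXa (e' ▸ π.join_left X W)
        have e2 := π.eq_of_two_lines hja (π.meet_right b (π.join X W)) (π.join_right X W) e hWa
        exact hWne (e2.symm.trans e1.symm)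
    refine ⟨X, A.mem_central.mpr fun b hb => ?_⟩
    have hba : b ≠ a := fun e => hXa (e ▸ hb)
    obtain ⟨z', hz', hz'X, hz'a⟩ := π.exists_third b X (π.meet b a)
    have hz'a' : ¬ π.I z' a := fun e => hz'a (π.meet_eq hba hz' e).symm
    obtain ⟨b₁, hb₁, hb₁f⟩ := A.inv_line hu hu1 z'
    have := (hlines b₁ hb₁f).resolve_left fun e => hz'a' (e ▸ hb₁)
    rw [← π.eq_of_two_points hz'X hb₁ this hz' hb]
    exact hb₁f

theorem inv_order {u : G} (hu : u * u = 1) (hu1 : u ≠ 1) : orderOf u = 2 :=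
  orderOf_eq_prime (by rw [pow_two]; exact hu) hu1

theorem inv_odd {u : G} (hu : u * u = 1) (hu1 : u ≠ 1) (hn : Odd π.n) {c : P} {a : L} (h : u ∈ A.PC c a) :
    ¬ π.I c a := fun hc => by
  haveI := A.finite
  have h1 := (inv_order hu hu1) ▸ Subgroup.orderOf_dvd_natCard (s := A.PC c a) h
  have h2 := h1.trans (A.card_PC_dvd hc)
  obtain ⟨k, hk⟩ := hn
  omega

theorem inv_even {u : G} (hu : u * u = 1) (hu1 : u ≠ 1) (hn : Even π.n) {c : P} {a : L} (h : u ∈ A.PC c a) :
    π.I c a := by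
  by_contra hc
  haveI := A.finite
  have h1 := (inv_order hu hu1) ▸ Subgroup.orderOf_dvd_natCard (s := A.PC c a) h
  have h2 := h1.trans (A.card_PC_dvd_of_not hc)
  have := π.one_lt_n
  obtain ⟨k, hk⟩ := hn
  omega

/-- A fixed subplane meeting every point by a line is a Baer subplane. -/
theorem baer {H : Subgroup G} (hq : π.Quad (A.Fx H)) (hH : H ≠ ⊥)
    (hcov : ∀ x, ∃ a, π.I x a ∧ a ∈ A.Fl H) : π.n = (A.sub H hq).n ^ 2 := by
  classical
  haveI := Fintype.ofFinite P
  haveI := Fintype.ofFinite L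
  have hlt := A.sub_n_lt hq hH
  set m := (A.sub H hq).n
  set B := (Finset.univ.filter fun x => x ∈ A.Fx H)
  set BL := (Finset.univ.filter fun a => a ∈ A.Fl H)
  have hB : B.card = m ^ 2 + m + 1 := by
    rw [← (A.sub H hq).card_P, Nat.card_eq_fintype_card]
    exact (Fintype.card_subtype _).symm
  have hBL : BL.card = m ^ 2 + m + 1 := by
    rw [← (A.sub H hq).card_L, Nat.card_eq_fintype_card]
    exact (Fintype.card_subtype _).symm
  let ext : L → Finset P := fun a => Finset.univ.filter fun x => π.I x a ∧ x ∉ A.Fx H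
  have hext : ∀ a ∈ BL, (ext a).card + (m + 1) = π.n + 1 := by
    intro a ha
    have ha' : a ∈ A.Fl H := (Finset.mem_filter.mp ha).2
    have h1 := (A.sub H hq).card_line ⟨a, ha'⟩
    simp only [sub_I] at h1
    rw [Nat.card_congr (Equiv.subtypeSubtypeEquivSubtypeInter (fun y => y ∈ A.Fx H) (fun y => π.I y a)),
      Nat.card_eq_fintype_card, Fintype.card_subtype] at h1
    have h2 := π.card_line a
    rw [Nat.card_eq_fintype_card, Fintype.card_subtype] at h2
    rw [← h1, ← h2, ← Finset.card_union_of_disjoint]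
    · congr 1; ext x; simp [ext]; tauto
    · simp only [ext, Finset.disjoint_left, Finset.mem_filter, Finset.mem_univ, true_and]
      exact fun x h h' => h.2 h'.1
  have hun : Finset.univ \ B = BL.biUnion ext := by
    ext x
    simp only [B, BL, ext, Finset.mem_sdiff, Finset.mem_univ, true_and, Finset.mem_filter, Finset.mem_biUnion]
    constructor
    · intro hx
      obtain ⟨a, ha, ha'⟩ := hcov x
      exact ⟨a, ha', ha, hx⟩
    · rintro ⟨a, -, -, hx⟩; exact hx
  have hdisj : Set.PairwiseDisjoint (↑BL : Set L) ext := by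
    intro a ha b hb hab
    simp only [Function.onFun, ext, Finset.disjoint_left, Finset.mem_filter, Finset.mem_univ, true_and]
    rintro x ⟨h1, h2⟩ ⟨h3, -⟩
    refine h2 ?_
    rw [← π.meet_eq hab h1 h3]
    exact A.meet_mem_Fx hab (Finset.mem_filter.mp (Finset.mem_coe.mp ha)).2
      (Finset.mem_filter.mp (Finset.mem_coe.mp hb)).2
  have h := congrArg Finset.card hun
  rw [Finset.card_biUnion hdisj, Finset.card_sdiff, Finset.inter_univ, Finset.card_univ,
    ← Nat.card_eq_fintype_card, π.card_P, hB,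
    Finset.sum_congr rfl fun a ha => show (ext a).card = π.n - m by have := hext a ha; omega,
    Finset.sum_const, smul_eq_mul, hBL] at h
  have hmn : m ^ 2 + m + 1 ≤ π.n ^ 2 + π.n + 1 := by nlinarith
  obtain ⟨d, hd⟩ : ∃ d, π.n = m + (d + 1) := ⟨π.n - m - 1, by omega⟩
  have h' : π.n ^ 2 + π.n + 1 = m ^ 2 + m + 1 + (m ^ 2 + m + 1) * (π.n - m) := by omega
  rw [hd, Nat.add_sub_cancel_left] at h'
  rw [hd]
  nlinarith

/-- The order of a subplane fixed by a 2-group. -/
theorem two_group_order : ∀ (k : ℕ) (R : Subgroup G), Nat.card R = 2 ^ k → ∀ hq : π.Quad (A.Fx R),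
    ∃ i, π.n = (A.sub R hq).n ^ 2 ^ i := by
  haveI := A.finite
  intro k
  induction k with
  | zero =>
    intro R hR hq
    refine ⟨0, ?_⟩
    rw [pow_zero] at hR
    have hRb : R = ⊥ := Subgroup.card_eq_one.mp hR
    have h1 : Nat.card ↥(A.Fx R) = Nat.card P := by
      rw [hRb, A.Fx_bot]; exact Nat.card_congr (Equiv.Set.univ P)
    rw [(A.sub R hq).card_P, π.card_P] at h1
    rw [pow_zero, pow_one]
    nlinarith
  | succ k ih =>
    intro R hR hq
    haveI : Fact (Nat.Prime 2) := ⟨Nat.prime_two⟩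
    obtain ⟨K, hK⟩ := Sylow.exists_subgroup_card_pow_prime 2 (G := R) (n := k)
      (by rw [hR]; exact pow_dvd_pow 2 k.le_succ)
    set R0 : Subgroup G := K.map R.subtype
    have hR0 : Nat.card R0 = 2 ^ k := by rw [Subgroup.card_subtype, hK]
    have hle : R0 ≤ R := Subgroup.map_subtype_le K
    have hidx : K.index = 2 := by
      have := K.card_mul_index
      rw [hK, hR, pow_succ] at this
      exact Nat.eq_of_mul_eq_mul_left (by positivity) this
    have hKn : K.Normal := Subgroup.normal_of_index_eq_two hidx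
    have hnorm : ∀ r ∈ R, r ∈ Subgroup.normalizer (R0 : Set G) := fun r hr => by
      refine Subgroup.mem_normalizer_iff.mpr fun g => ⟨?_, ?_⟩
      · rintro ⟨x, hx, rfl⟩
        exact ⟨⟨r, hr⟩ * x * ⟨r, hr⟩⁻¹, hKn.conj_mem x hx _, rfl⟩
      · rintro ⟨x, hx, e⟩
        refine ⟨⟨r, hr⟩⁻¹ * x * ⟨r, hr⟩, by simpa using hKn.conj_mem x hx ⟨r, hr⟩⁻¹, ?_⟩
        change r⁻¹ * x.1 * r = g
        rw [show (x.1 : G) = r * g * r⁻¹ from e]; group
    have hq0 : π.Quad (A.Fx R0) := hq.mono (A.Fx_mono hle)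
    obtain ⟨i, hi⟩ := ih R0 hR0 hq0
    obtain ⟨r, hrR, hrK⟩ : ∃ r : R, True ∧ r ∉ K := by
      by_contra! hc
      have : K = ⊤ := eq_top_iff.mpr fun x _ => hc x trivial
      rw [this, Subgroup.index_top] at hidx
      omega
    have hgen : ∀ x ∈ R, x ∈ R0 ∨ (r : G)⁻¹ * x ∈ R0 := fun x hx => by
      by_cases h : (⟨x, hx⟩ : R) ∈ K
      · exact Or.inl ⟨_, h, rfl⟩
      · exact Or.inr ⟨r⁻¹ * ⟨x, hx⟩, ((Subgroup.mul_mem_iff_of_index_two hidx).mpr
          (iff_of_false (fun h' => hrK (by simpa using h')) h)), rfl⟩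
    have hr2 : (r : G) * r ∈ R0 := ⟨r * r, (Subgroup.mul_mem_iff_of_index_two hidx).mpr Iff.rfl, rfl⟩
    set u : ↥(Subgroup.normalizer (R0 : Set G)) ⧸ (A.resP R0).ker :=
      QuotientGroup.mk ⟨r, hnorm _ r.2⟩
    set B := A.ind R0 hq0
    have hfix : ∀ x : A.Fx R0, B.p u x = x ↔ (x : P) ∈ A.Fx R := by
      intro x
      refine ⟨fun h g hg => ?_, fun h => Subtype.ext (h r r.2)⟩
      have hr : A.p (r : G) x = x := congrArg Subtype.val h
      rcases hgen g hg with h' | h'
      · exact x.2 g h'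
      · have := x.2 _ h'
        rw [A.p_mul] at this
        conv_rhs => rw [← hr]
        conv_lhs => rw [← A.p_apply_inv (r : G) (A.p g x)]
        rw [this]
    by_cases hu1 : u = 1
    · refine ⟨i, ?_⟩
      have h1 : A.Fx R = A.Fx R0 := by
        refine Set.Subset.antisymm (A.Fx_mono hle) fun x hx => ?_
        exact (hfix ⟨x, hx⟩).mp (by rw [hu1, map_one]; rfl)
      have : (A.sub R hq).n = (A.sub R0 hq0).n := by
        have e : Nat.card ↥(A.Fx R) = Nat.card ↥(A.Fx R0) := by rw [h1]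
        rw [(A.sub R hq).card_P, (A.sub R0 hq0).card_P] at e
        nlinarith
      rw [this]; exact hi
    · have hu2 : u * u = 1 := by
        rw [show u * u = QuotientGroup.mk (⟨r, hnorm _ r.2⟩ * ⟨r, hnorm _ r.2⟩) from rfl]
        exact A.ind_mk_eq_one.mpr fun x hx => hx _ hr2
      set Z := Subgroup.zpowers u
      have hFZ : ∀ x : A.Fx R0, x ∈ B.Fx Z ↔ (x : P) ∈ A.Fx R := by
        intro x
        rw [← hfix]
        refine ⟨fun h => h u (Subgroup.mem_zpowers u), fun h g hg => ?_⟩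
        have : Z ≤ B.stP x := Subgroup.zpowers_le.mpr h
        exact this hg
      have hqB : (A.sub R0 hq0).Quad (B.Fx Z) := by
        obtain ⟨x, y, z, w, hx, hy, hz, hw, h1, h2, h3, h4⟩ := hq
        have f : ∀ {q}, q ∈ A.Fx R → q ∈ A.Fx R0 := fun h => A.Fx_mono hle h
        have g : ∀ {a b c : P} (ha : a ∈ A.Fx R0) (hb : b ∈ A.Fx R0) (hc : c ∈ A.Fx R0),
            π.NC a b c → (A.sub R0 hq0).NC ⟨a, ha⟩ ⟨b, hb⟩ ⟨c, hc⟩ := fun ha hb hc h =>
          ⟨fun e => h.1 (congrArg Subtype.val e), fun e => h.2.1 (congrArg Subtype.val e),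
            fun e => h.2.2.1 (congrArg Subtype.val e), fun a => h.2.2.2 a.1⟩
        exact ⟨⟨x, f hx⟩, ⟨y, f hy⟩, ⟨z, f hz⟩, ⟨w, f hw⟩, (hFZ _).mpr hx, (hFZ _).mpr hy, (hFZ _).mpr hz,
          (hFZ _).mpr hw, g _ _ _ h1, g _ _ _ h2, g _ _ _ h3, g _ _ _ h4⟩
      have hb := B.baer hqB (fun h => hu1 (Subgroup.zpowers_eq_bot.mp h)) fun x => by
        obtain ⟨a, ha, ha'⟩ := B.inv_line hu2 hu1 x
        exact ⟨a, ha, fun g hg => (Subgroup.zpowers_le.mpr (show u ∈ B.stL a from ha') hg)⟩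
      have hcard : (B.sub Z hqB).n = (A.sub R hq).n := by
        have e : Nat.card ↥(B.Fx Z) = Nat.card ↥(A.Fx R) := Nat.card_congr
          { toFun := fun x => ⟨x.1.1, (hFZ _).mp x.2⟩
            invFun := fun x => ⟨⟨x.1, A.Fx_mono hle x.2⟩, (hFZ _).mpr x.2⟩
            left_inv := fun x => rfl
            right_inv := fun x => rfl }
        rw [(B.sub Z hqB).card_P, (A.sub R hq).card_P] at e
        nlinarith
      refine ⟨i + 1, ?_⟩
      rw [hi, hb, hcard, ← pow_mul, ← pow_succ']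

end Act

end CfsgLib.TTP
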